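import Cfsg.Agent.H5.FTB
import Cfsg.Agent.H21.TIT3
import Cfsg.Agent.H11.SL

/-! Normal Sylow subgroups in linear groups of degree at most `(p-1)/2`. -/

set_option autoImplicit false

namespace H5.FTB
open _root_.Cfsg Subgroup H20 H19 H6

variable {Γ : Type*} [Group Γ] [Finite Γ] {χ : Γ → ℂ} {p : ℕ}

theorem card_of_psl [Fact p.Prime] (h2 : p ≠ 2)
    (e : Γ ⧸ center Γ ≃* Matrix.ProjectiveSpecialLinearGroup (Fin 2) (ZMod p)) :
    2 * (center Γ).index = p * (p ^ 2 - 1) := by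
  have := H11.card_psl_two (F := ZMod p)
  rwa [ZMod.card, ← Nat.card_congr e.toEquiv, Nat.gcd_eq_left (even_iff_two_dvd.1
    (Nat.Odd.sub_odd ((Fact.out : p.Prime).odd_of_ne_two h2) odd_one))] at this

theorem small (hp : p.Prime) (hχ : χ ∈ Chr ⊤) (hk : cker χ = ⊥) (hd : deg χ + 1 < p)
    (h : 2 * deg χ + 1 < p ∨ 2 * deg χ < p ∧ ¬ 3 ∣ Nat.card Γ) {P G : Subgroup Γ}
    (hP : Syl p P G) : P ⊴ G := by
  haveI := Fact.mk hp
  refine ftb hp hχ hk hd (fun K P a b => ?_) hP
  by_cases c : p ∣ #K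
  swap
  · rw [b.eq_bot (PiN.of_not_dvd c)]; exact .bot K
  by_contra d
  obtain ⟨e1, ⟨e⟩⟩ := H21.brauer_small hp c a (fun Q _ e => d (by
      have f : Syl p (Q.map K.subtype) K := syl_mk (map_subtype_le Q)
        (.of_card hp (by rw [card_map_of_injective K.subtype_injective, e])) fun f => a (by
          rw [← card_mul_relIndex (map_subtype_le Q), card_map_of_injective K.subtype_injective, e,
            pow_two]
          exact mul_dvd_mul_left p f)
      have g : Q.map K.subtype ⊴ K := normalIn_map_subtype Q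
      rwa [f.eq_of_normal g.norm b])) (chr_Res hχ (le_top (a := K))).1
    (fun g e => Subtype.ext (mem_bot.1 (hk ▸ (chr_mem_cker hχ (mem_top _)).2 (by simpa using e))))
    (show 2 * deg (Res K χ) < p by rw [deg_Res]; omega)
  replace e1 : 2 * deg (Res K χ) + 1 = p := e1
  rw [deg_Res] at e1
  refine (h.resolve_left (by omega)).2 (((Nat.Coprime.dvd_mul_left (m := 2) (by norm_num)).1
    (Dvd.dvd.trans ?_ (card_of_psl (by omega) e).symm.dvd)).trans ((index_dvd_card _).trans (card_subgroup_dvd_card K)))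
  obtain ⟨q, rfl⟩ : ∃ q, p = q + 1 := ⟨_, (Nat.sub_add_cancel hp.pos).symm⟩
  rw [show (q + 1) ^ 2 - 1 = q * (q + 2) from Nat.sub_eq_of_eq_add (by ring)]
  have : 3 ∣ q ∨ 3 ∣ q + 1 ∨ 3 ∣ q + 2 := by clear * -; omega
  rcases this with e | e | e
  exacts [(e.mul_right _).mul_left _, e.mul_right _, (e.mul_left _).mul_left _]

end H5.FTB
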