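import Cfsg.Agent.H5.SC2

/-! Three self-centralizing subgroups with automizers of orders `2, 4, 4`: character theory. -/

set_option autoImplicit false
set_option linter.unusedSectionVars false

open Cfsg
namespace H5.SC

open H19 Subgroup H5
open scoped ComplexConjugate

variable {G : Type*} [Group G] {A A' A₁ A₂ A₃ : Subgroup G} {a g k s t : G} {e e' p : ℕ}

theorem Off.conj (h : Off A g) (x : G) : Off A (x * g * x⁻¹) := fun y hy => by
  rw [h (y * x) (by simpa [mul_assoc] using hy)]; simp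

theorem SSC.off_of (h : SSC A) (h' : SSC A') (n : ∀ g, cj g A ≠ A') (ha : a ∈ A) : Off A' a :=
  fun x hx => by
    by_contra a1
    exact n x (by rw [← h a ha a1, cj_cent1, h' _ hx (by simpa using a1)])

theorem SSC.or (h : SSC A) (h' : SSC A') (n : ∀ g, cj g A ≠ A') (g : G) : Off A g ∨ Off A' g := by
  refine or_iff_not_imp_left.2 fun o => ?_
  obtain ⟨x, hx⟩ := not_forall.1 o
  simpa [mul_assoc] using (h.off_of h' n (_root_.not_imp.1 hx).1).conj x⁻¹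

theorem nc_symm (n : ∀ g, cj g A ≠ A') (g : G) : cj g A' ≠ A := fun e =>
  n g⁻¹ (by rw [← e, cj_inv_cj])

variable [Finite G]

theorem SSC.not_dvd (h : SSC A) (o : Off A g) (hp : p.Prime) (e : orderOf g = p) : ¬ p ∣ #A :=
  fun d => by
    have H : Hall (primes #A) A ⊤ := hall_of_coprime le_top (by
      rw [relIndex_top_right]
      exact coprime_card_index_of_centralizer_le fun k a b => (h k a b).le)
    obtain ⟨P, hP, l⟩ := H.exists_syl (p := p) ⟨hp, d⟩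
    obtain ⟨x, -, hx⟩ := hP.scj_le (K := zpowers g) le_top (PiN.of_card hp (by rw [Nat.card_zpowers, e]))
    have := o x (l (hx (conj_mem_cj.2 (mem_zpowers g))))
    rw [this, orderOf_one] at e
    exact hp.one_lt.ne e

theorem SSC.cop (h : SSC A) (h' : SSC A') (n : ∀ g, cj g A ≠ A') : (#A).Coprime #A' :=
  Nat.coprime_of_dvd fun p hp d =>
    let ⟨_, a, b⟩ := exists_orderOf_eq_prime hp d
    h'.not_dvd (h.off_of h' n a) hp b

structure Sys (A₁ A₂ A₃ : Subgroup G) : Prop where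
  s1 : SSC A₁
  s2 : SSC A₂
  s3 : SSC A₃
  n12 : ∀ g, cj g A₁ ≠ A₂
  n13 : ∀ g, cj g A₁ ≠ A₃
  n23 : ∀ g, cj g A₂ ≠ A₃
  e1 : A₁.relIndex N(A₁) = 2
  e2 : A₂.relIndex N(A₂) = 4
  e3 : A₃.relIndex N(A₃) = 4
  c1 : 5 ≤ #A₁
  c2 : 5 < #A₂
  c3 : 5 < #A₃
  ord : Nat.card G ≤ 3 * #A₁ ^ 2 * #A₂ ^ 2 * #A₃ ^ 2

/-- away from the three subgroups -/
def Pp (A₁ A₂ A₃ : Subgroup G) (g : G) : Prop := Off A₁ g ∧ Off A₂ g ∧ Off A₃ g

section
variable {I : Type*} [DecidableEq I] [Fintype I] {F₁ F₂ F₃ : Finset I} {P₁ P₂ P₃ : I → ℤ}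

theorem W.cast {L : I → ℤ} (w : W F₁ F₂ F₃ P₁ P₂ P₃ fun i => (L i : ℂ)) : W F₁ F₂ F₃ P₁ P₂ P₃ L :=
  ⟨fun a b c d => by exact_mod_cast w.k1 a b c d, fun a b c d => by exact_mod_cast w.k2 a b c d,
    fun a b c d => by exact_mod_cast w.k3 a b c d, by exact_mod_cast w.e1, by exact_mod_cast w.e2,
    by exact_mod_cast w.e3⟩

theorem W.sum {J : Type*} (s : Finset J) (c : J → ℂ) {L : J → I → ℂ}
    (w : ∀ j ∈ s, W F₁ F₂ F₃ P₁ P₂ P₃ (L j)) : W F₁ F₂ F₃ P₁ P₂ P₃ fun i => ∑ j ∈ s, c j * L j i := by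
  have k : ∀ {P : I → ℤ}, (∀ j ∈ s, ∑ i, (P i : ℂ) * L j i = 0) →
      ∑ i, (P i : ℂ) * ∑ j ∈ s, c j * L j i = 0 := fun h => by
    simp only [Finset.mul_sum]
    rw [Finset.sum_comm]
    refine Finset.sum_eq_zero fun j hj => ?_
    simp only [mul_left_comm _ (c j), ← Finset.mul_sum, h j hj, mul_zero]
  exact ⟨fun a b c d => Finset.sum_congr rfl fun j hj => by rw [(w j hj).k1 a b c d],
    fun a b c d => Finset.sum_congr rfl fun j hj => by rw [(w j hj).k2 a b c d],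
    fun a b c d => Finset.sum_congr rfl fun j hj => by rw [(w j hj).k3 a b c d],
    k fun j hj => (w j hj).e1, k fun j hj => (w j hj).e2, k fun j hj => (w j hj).e3⟩

end

end H5.SC

namespace H5.SC

open H19 Subgroup H5 Classical
open scoped ComplexConjugate

variable {G : Type*} [Group G] [Fintype G] {A A' A₁ A₂ A₃ : Subgroup G} {a g k s t : G} {e e' p : ℕ}
  {F F' F₁ F₂ F₃ : Finset (IrrCharacter G)} {P P' P₁ P₂ P₃ : IrrCharacter G → ℤ}
  {χ θ Y Z φ : IrrCharacter G} {δ : ℤ}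

theorem Ex.orth (h : Ex A e F P) (h' : Ex A' e' F' P') (o : ∀ g, Off A g ∨ Off A' g) :
    ∑ φ, P φ * P' φ = 0 := by
  have := classInner_sum_irr (fun φ => (P φ : ℂ)) fun φ => (P' φ : ℂ)
  rw [classInner_eq_zero_of_disjoint fun g => (o g).imp (fun k => by simpa using h.off g k)
    fun k => by simpa using h'.off g k] at this
  simp only [map_intCast] at this
  exact_mod_cast this.symm

theorem Ex.disj (h : Ex A e F P) (h' : Ex A' e' F' P') (o : ∀ g, Off A g ∨ Off A' g)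
    (c : 2 ≤ F.card) (c' : 2 ≤ F'.card) : Disjoint F F' := by
  refine Finset.disjoint_left.2 fun φ a b => ?_
  obtain ⟨ψ, a1, a2⟩ := Finset.exists_mem_ne c φ
  obtain ⟨ξ, b1, b2⟩ := Finset.exists_mem_ne c' φ
  have := classInner_eq_zero_of_disjoint (φ := φ.1 - ψ.1) (ψ := φ.1 - ξ.1) fun g => (o g).imp
    (fun k => sub_eq_zero.2 (h.cst g k φ a ψ a1)) fun k => sub_eq_zero.2 (h'.cst g k φ b ξ b1)
  simp only [classInner_sub_left, classInner_sub_right, classInner_irr, a2, b2.symm, if_true,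
    if_false] at this
  split_ifs at this <;> norm_num at this

theorem Ex.cst' (h : Ex A e F P) (h' : Ex A' e' F' P') (d : Disjoint F F') (n : 1 < #A')
    (o : ∀ a ∈ A', Off A a) : Cst F P' := fun φ a ψ b => by
  obtain ⟨x, hx, x1⟩ := exists_ne_one (ne_bot_iff_one_lt_card.2 n)
  have := h.cst x (o x hx) φ a ψ b
  simp only [h'.val φ (Finset.disjoint_left.1 d a) x hx x1,
    h'.val ψ (Finset.disjoint_left.1 d b) x hx x1] at this
  exact_mod_cast this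

theorem Ex.dvd (h : Ex A e F P) (hφ : φ ∉ F) (h0 : P φ = 0) {d : ℕ} (hd : φ.1 1 = d) : #A ∣ d := by
  obtain ⟨n, hn⟩ := (φ.2.isCharacter.restrict A).exists_classInner_nat isCharacter_one
  rw [classInner_one_right, Finset.sum_eq_single 1 (fun b _ b1 => by
    rw [h.val φ hφ b b.2 fun e => b1 (Subtype.ext e), h0, Int.cast_zero]) (by simp),
    inv_mul_eq_iff_eq_mul₀ (Nat.cast_ne_zero.2 (card_ne_zero A))] at hn
  exact ⟨n, by exact_mod_cast hd.symm.trans hn⟩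

/-- the outcome of the character theory -/
structure Dt (A₁ A₂ A₃ : Subgroup G) (χ θ Y Z : IrrCharacter G) (F₁ F₂ F₃ : Finset (IrrCharacter G))
    (P₁ P₂ P₃ : IrrCharacter G → ℤ) (δ : ℤ) : Prop where
  nf : NF (irrOne G) χ θ Y Z F₁ F₂ F₃ P₁ P₂ P₃ δ
  col : ∀ g, Pp A₁ A₂ A₃ g → W F₁ F₂ F₃ P₁ P₂ P₃ fun φ => φ.1 g
  off : ∀ g, Off A₁ g → ∑ φ, (P₁ φ : ℂ) * φ.1 g = 0
  b : (B (irrOne G) F₁ F₂ F₃ P₁ P₂ P₃).card ≤ 2

theorem Sys.dt (h : Sys A₁ A₂ A₃) (h2 : ¬ 3 ∣ #A₂) (h3 : ¬ 3 ∣ #A₃) :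
    ∃ χ θ Y Z F₁ F₂ F₃ P₁ P₂ P₃ δ, Dt A₁ A₂ A₃ χ θ Y Z F₁ F₂ F₃ P₁ P₂ P₃ δ := by
  have := h.c1
  have := h.c2
  have := h.c3
  obtain ⟨F₁, P₁, x1⟩ := h.s1.ex h.e1 (by omega)
  obtain ⟨F₂, P₂, x2⟩ := h.s2.ex h.e2 h.c2
  obtain ⟨F₃, P₃, x3⟩ := h.s3.ex h.e3 h.c3
  have := x1.card
  have := x2.card
  have := x3.card
  have q12 := h.s1.cop h.s2 h.n12
  have q13 := h.s1.cop h.s3 h.n13
  have q23 := h.s2.cop h.s3 h.n23
  have : #A₂ ≠ #A₃ := fun e => by rw [e, Nat.coprime_self] at q23; omega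
  have o12 := h.s1.or h.s2 h.n12
  have o13 := h.s1.or h.s3 h.n13
  have o23 := h.s2.or h.s3 h.n23
  have d12 := x1.disj x2 o12 (by omega) (by omega)
  have d13 := x1.disj x3 o13 (by omega) (by omega)
  have d23 := x2.disj x3 o23 (by omega) (by omega)
  choose d d0 d1 using fun φ : IrrCharacter G => φ.2.exists_apply_one
  have o1 : d (irrOne G) = 1 := by exact_mod_cast (d1 (irrOne G)).symm.trans (rfl : _ = (1 : ℂ))
  have : 3 ≤ F₂.card := by omega
  have : 3 ≤ F₃.card := by omega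
  have c : CB (irrOne G) F₁ F₂ F₃ P₁ P₂ P₃ := ⟨x1.o, x2.o, x3.o, d12, d13, d23, by omega, by omega,
    by omega, by omega, x1.fam, x2.fam, x3.fam, x1.p, x2.p, x3.p, x1.n, x2.n, x3.n, x1.orth x2 o12,
    x1.orth x3 o13, x2.orth x3 o23,
    x1.cst' x2 d12 (by omega) fun _ => h.s2.off_of h.s1 (nc_symm h.n12),
    x1.cst' x3 d13 (by omega) fun _ => h.s3.off_of h.s1 (nc_symm h.n13),
    x2.cst' x1 d12.symm (by omega) fun _ => h.s1.off_of h.s2 h.n12,
    x2.cst' x3 d23 (by omega) fun _ => h.s3.off_of h.s2 (nc_symm h.n23),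
    x3.cst' x1 d13.symm (by omega) fun _ => h.s1.off_of h.s3 h.n13,
    x3.cst' x2 d23.symm (by omega) fun _ => h.s2.off_of h.s3 h.n23,
    fun φ => d φ, fun φ => Int.natCast_pos.2 (d0 φ), by simp [o1], fun a b c e => by
      have := x1.cst 1 off_one a b c e
      simp only [d1] at this ⊢
      exact_mod_cast this, by
      have := x1.off 1 off_one
      simp only [d1] at this
      exact_mod_cast this⟩
  obtain ⟨χ, θ, Y, Z, δ, n⟩ := c.nf
  refine ⟨χ, θ, Y, Z, F₁, F₂, F₃, P₁, P₂, P₃, δ, n, fun g o => ⟨x1.cst g o.1, x2.cst g o.2.1,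
    x3.cst g o.2.2, x1.off g o.1, x2.off g o.2.1, x3.off g o.2.2⟩, x1.off, ?_⟩
  have s : ∑ φ, d φ ^ 2 = Nat.card G := by
    have := sum_irr_one_sq G
    simp only [d1] at this
    exact_mod_cast this
  set S := B (irrOne G) F₁ F₂ F₃ P₁ P₂ P₃
  have k : ∀ φ ∈ S, φ ≠ irrOne G ∧ (#A₁ * #A₂ * #A₃) ^ 2 ≤ d φ ^ 2 := fun φ hφ => by
    obtain ⟨a, b1, b2, b3⟩ := Finset.mem_filter.1 hφ
    obtain ⟨a0, a1, a2, a3⟩ := mem_X.1 a
    exact ⟨a0, Nat.pow_le_pow_left (Nat.le_of_dvd (d0 φ) ((q13.mul_left q23).mul_dvd_of_dvd_of_dvd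
      (q12.mul_dvd_of_dvd_of_dvd (x1.dvd a1 b1 (d1 φ)) (x2.dvd a2 b2 (d1 φ)))
      (x3.dvd a3 b3 (d1 φ)))) 2⟩
  have l := Finset.sum_le_sum_of_subset (f := fun φ => d φ ^ 2)
    (Finset.subset_univ (insert (irrOne G) S))
  rw [Finset.sum_insert fun m => (k _ m).1 rfl, s, o1] at l
  have l' := Finset.card_nsmul_le_sum S (fun φ => d φ ^ 2) _ fun φ m => (k φ m).2
  have := h.ord
  by_contra! hn
  have := Nat.mul_le_mul_right ((#A₁ * #A₂ * #A₃) ^ 2) hn
  rw [smul_eq_mul] at l'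
  nlinarith

namespace Dt
variable (h : Dt A₁ A₂ A₃ χ θ Y Z F₁ F₂ F₃ P₁ P₂ P₃ δ)
include h

theorem six (s : Finset G) (hs : ∀ g ∈ s, Pp A₁ A₂ A₃ g)
    (n : ∀ g ∈ s, ∀ k ∈ s, IsConj g k → g = k) : s.card ≤ 6 := by
  set J := insert (irrOne G) (X (irrOne G) F₁ F₂ F₃)
  have l : LinearIndependent ℂ fun (g : s) (φ : J) => φ.1.1 g := by
    refine Fintype.linearIndependent_iff.2 fun c hc g => ?_
    have v := h.nf.van (W.sum Finset.univ c (L := fun (g : s) φ => φ.1 g) fun g _ =>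
      h.col g (hs g g.2)) fun φ m => by simpa using congrFun hc ⟨φ, m⟩
    have : ∑ φ : IrrCharacter G, (∑ k : s, c k * φ.1 k) * conj (φ.1 g) = 0 :=
      Finset.sum_eq_zero fun φ _ => mul_eq_zero_of_left (v φ) _
    simp only [Finset.sum_mul, mul_assoc] at this
    rw [Finset.sum_comm] at this
    simp only [← Finset.mul_sum] at this
    rw [Finset.sum_eq_single g (fun k _ e => by
      rw [sum_irr_mul_conj_of_not_isConj fun c => e (Subtype.ext (n _ k.2 _ g.2 c)), mul_zero])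
      (by simp), sum_irr_mul_conj_of_isConj (IsConj.refl _)] at this
    exact (mul_eq_zero.1 this).resolve_right (Nat.cast_ne_zero.2 Nat.card_pos.ne')
  have := l.fintype_card_le_finrank
  rw [Module.finrank_fintype_fun_eq_card, Fintype.card_coe, Fintype.card_coe] at this
  have : J.card ≤ _ := h.nf.cnt
  have := h.b
  omega

theorem inv [IsSimpleGroup G] (h1 : SSC A₁) (hs : orderOf s = 2) : ∃ x : G, x * s * x⁻¹ ∈ N(A₁) := by
  by_contra! hn
  have s2 : s * s = 1 := by rw [← pow_two, ← hs, pow_orderOf_eq_one]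
  have s1 : s ≠ 1 := fun e => by simp [e] at hs
  have z := pairSum_eq_zero (a := s) (b := s) (ψ := ∑ φ, (P₁ φ : ℂ) • φ.1) fun x y hx hy => by
    simpa using h.off (x * y) fun g hg => by
      by_contra k
      obtain ⟨u, rfl⟩ := isConj_iff.1 hx
      obtain ⟨v, rfl⟩ := isConj_iff.1 hy
      refine hn (g * u) (h1.norm hg (by simpa using k) ?_)
      convert inv_mem hg using 1
      simp [mul_assoc, ← mul_assoc s s, s2, inv_eq_of_mul_eq_one_right s2]
  have os : Off A₁ s := fun x hx => (hn x (le_normalizer hx)).elim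
  have i : (C[s].index : ℂ) ≠ 0 := Nat.cast_ne_zero.2 index_ne_zero_of_finite
  simp only [pairSum_sum, pairSum_smul, fun φ : IrrCharacter G => φ.2.pairSum_eq s s,
    mul_left_comm _ (_ * _ : ℂ), ← Finset.mul_sum, mul_eq_zero, i, false_or] at z
  have a := h.off s os
  have b := h.off 1 off_one
  rw [h.nf.s1] at z a b
  have d : (δ : ℂ) ^ 2 = 1 := by exact_mod_cast h.nf.hδ
  have o : ∀ g, (irrOne G).1 g = 1 := fun _ => rfl
  have x0 := χ.2.apply_one_ne_zero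
  have t0 := θ.2.apply_one_ne_zero
  simp only [o] at z a b
  have a' : θ.1 s = χ.1 s + δ := by linear_combination -δ * a - (θ.1 s - χ.1 s) * d
  have b' : θ.1 1 = χ.1 1 + δ := by linear_combination -δ * b - (θ.1 1 - χ.1 1) * d
  field_simp at z
  rw [a', b'] at z
  have : (χ.1 s - χ.1 1) ^ 2 = 0 := by
    linear_combination z + (2 * χ.1 1 * χ.1 s - χ.1 s ^ 2 + δ * χ.1 1) * d
  have k := χ.2.mem_charKer_iff.2 (sub_eq_zero.1 (pow_eq_zero_iff two_ne_zero |>.1 this))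
  rw [χ.2.charKer_eq_bot_of_simple fun e => (mem_X.1 h.nf.hχ).1 (Subtype.ext e)] at k
  exact s1 k

theorem fn {x y z : G} (hx : Pp A₁ A₂ A₃ x) (hy : Pp A₁ A₂ A₃ y) (hz : Pp A₁ A₂ A₃ z)
    (xy : ¬ IsConj x y) (xz : ¬ IsConj x z) (yz : ¬ IsConj y z) {a b c : ℚ}
    (hi : ∀ φ : IrrCharacter G, ∃ n : ℤ, a * φ.1 x + b * φ.1 y + c * φ.1 z = n) :
    ∃ L : IrrCharacter G → ℤ, W F₁ F₂ F₃ P₁ P₂ P₃ L ∧ (L (irrOne G) : ℚ) = a + b + c ∧
      ((∑ φ, L φ ^ 2 : ℤ) : ℚ) = a ^ 2 * #C[x] + b ^ 2 * #C[y] + c ^ 2 * #C[z] := by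
  choose L hL using hi
  refine ⟨L, W.cast ?_, ?_, ?_⟩
  · have := W.sum Finset.univ ![(a : ℂ), b, c] (L := fun j (φ : IrrCharacter G) => φ.1 (![x, y, z] j))
      fun j _ => h.col _ (by fin_cases j <;> assumption)
    simpa [Fin.sum_univ_three, hL] using this
  · have := hL (irrOne G)
    simp only [show ∀ g, (irrOne G).1 g = 1 from fun _ => rfl, mul_one] at this
    exact_mod_cast this.symm
  · have k : ∀ φ, (L φ : ℂ) ^ 2 = (a * φ.1 x + b * φ.1 y + c * φ.1 z) *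
        conj (a * φ.1 x + b * φ.1 y + c * φ.1 z) := fun φ => by rw [hL, map_intCast, sq]
    have : ((∑ φ, L φ ^ 2 : ℤ) : ℂ) = a ^ 2 * #C[x] + b ^ 2 * #C[y] + c ^ 2 * #C[z] := by
      push_cast
      simp only [k, map_add, map_mul, map_ratCast, add_mul, mul_add, mul_mul_mul_comm _ (_ : ℂ) (_ : ℚ),
        Finset.sum_add_distrib, ← Finset.mul_sum, sum_irr_mul_conj, IsConj.refl, if_true, xy, xz, yz,
        if_false, mt IsConj.symm xy, mt IsConj.symm xz, mt IsConj.symm yz]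
      ring
    exact_mod_cast this

end Dt

end H5.SC
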