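/-
The type-free unitary endgame (chunk GU of notes/S4.md), part 1: the centralizer of a central involution.
-/
import Cfsg.Agent.H27.W2
import Cfsg.Agent.H19.GG1
import Cfsg.Agent.H17.HT27

set_option autoImplicit false
set_option linter.unusedSectionVars false

namespace H5.S4
open _root_.Cfsg Subgroup H18 H17.GS H27.S4
open H19 hiding eq_bot_mono
open H28.SF (Uq jmem cmem ex_sq)
open H28.CY (two_of_sq two_of_sq_two mem_of_odd)

universe u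
variable {G : Type u} [Group G] [Finite G] {A B H K L M O P Q R U X Y Z : Subgroup G} {a b c d g i k m n s s' t u x y z : G}

theorem uq_le (u : Uq s M) (hs : s ∈ M) (hP : PG 2 P) (h : s ∈ P) : P ≤ M := by
  obtain ⟨S, hS, l⟩ := (hP.of_le (zpowers_le.2 h)).exists_syl (zpowers_le.2 hs)
  obtain ⟨g, -, k⟩ := (u.syl hS (l (mem_zpowers s))).sle_cj le_top hP
  exact k.trans (cj_le_of_mem (u g (hS.le (mem_cj.1 (k h)))) hS.le)

theorem uq' (u : Uq s M) (h : g * s * g⁻¹ ∈ M) : g ∈ M := inv_mem_iff.1 (u _ (by rwa [inv_inv]))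

theorem fus (u : Uq s M) (u' : Uq s' M) (hs : s' ∈ M) (ss : s * s = 1) (ss' : s' * s' = 1) (h1 : s' ∈ K)
    (h2 : g * s * g⁻¹ ∈ K) : ∃ k ∈ K, k * g ∈ M := by
  obtain ⟨P, hP, l⟩ := (pg_zpowers ss').exists_syl (zpowers_le.2 h1)
  obtain ⟨k, hk, e⟩ := exists_conj_mem hP h2 (conj_sq ss g)
  exact ⟨k, hk, uq' u (conj_conj' k g s ▸ uq_le u' hs hP.pi (l (mem_zpowers _)) e)⟩

theorem three_mod (h1 : H ≤ N(O)) (h2 : K ≤ N(O)) (h : ⁅⁅H, K⁆, H⁆ ≤ O) : ⁅⁅H, H⁆, K⁆ ≤ O := by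
  have k := (quo_cents_iff (commg_le_of_le h1 h2) h1).2 h
  rw [← quo_cents_iff (commg_le_of_le h1 h1) h2, quo_comm h1 h1, ← commg_eq_bot]
  rw [quo_comm h1 h2, ← commg_eq_bot] at k
  exact three_subgroup k (by rwa [commg_comm (quo O K)])

theorem ex_cm (hU : PG 2 U) (hP : P ⊴ U) (hZ : U ≤ N(Z)) (h : ¬ P ≤ Z) : ∃ u ∈ P, u ∉ Z ∧ u ∈ Cm Z U := by
  obtain ⟨_, ⟨⟨x, hx, rfl⟩, k⟩, x1⟩ := exists_ne_one (nil_meet_center (hU.quo Z).nil (hP.quo Z)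
    (mt (quo_eq_bot_iff (hP.le.trans hZ)).1 h))
  exact ⟨x, hx, mt qmk_eq_one.2 x1, (mem_Cm_iff x.2 hZ).2 k⟩

/-- a central Sylow subgroup splits off -/
theorem cen_split (hS : Syl 2 Z K) (h : K ⊓ N(Z) ≤ C(Z)) : K = O(K) ⊔ Z :=
  ((Burnside_normal_complement hS h).sup_compl (by simpa using hS)).symm

/-- the centralizer of a set modulo `K` -/
def Cw (K : Subgroup G) (S : G → Prop) : Subgroup G where
  carrier := {x | x ∈ N(K) ∧ ∀ j, S j → x * j * x⁻¹ * j⁻¹ ∈ K}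
  one_mem' := ⟨one_mem _, fun j _ => by simp⟩
  mul_mem' := fun {x y} hx hy => ⟨mul_mem hx.1 hy.1, fun j hj => by
    simpa [mul_assoc] using mul_mem (conj_mem_of_norm hx.1 (hy.2 j hj)) (hx.2 j hj)⟩
  inv_mem' := fun {x} hx => ⟨inv_mem hx.1, fun j hj => by
    simpa [mul_assoc] using conj_mem_of_norm' hx.1 (inv_mem (hx.2 j hj))⟩
theorem mem_Cw : x ∈ Cw K (y = ·) ↔ x ∈ N(K) ∧ x * y * x⁻¹ * y⁻¹ ∈ K := ⟨fun h => ⟨h.1, h.2 y rfl⟩, fun h => ⟨h.1, fun _ k => k ▸ h.2⟩⟩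

/-- the hypotheses -/
structure Ev (L X U Z Q A : Subgroup G) (t z a : G) : Prop extends Lu L U Z Q A t z a where
  tt : t * t = 1
  tM : t ∈ N(L)
  uq : Uq t N(L)
  sX : Syl 2 U X
  nX : X.Normal
  LX : L ≤ X

theorem Cs.J (h : Cs L z y) (hm : m ∈ L) : Cs L z (m * y * m⁻¹) :=
  let ⟨l, hl, k⟩ := h; ⟨m * l, mul_mem hm hl, by rw [← k, conj_conj']⟩

namespace Ev
variable (e : Ev L X U Z Q A t z a)
include e

theorem UL : U ≤ L := e.syl.le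
theorem Zl : Z ≤ U := e.ZQ.trans e.QU
theorem UC : U ≤ C(Z) := cents_symm (e.ZU.le.trans inf_le_right)
theorem QC : Q ≤ C(Z) := e.QU.trans e.UC
theorem UN : U ≤ N(Z) := norms_of_cents e.UC
theorem UQ : U ≤ N(Q) := (le_inf e.UL e.UN).trans e.NQ
theorem UM : U ≤ N(L) := e.UL.trans le_normalizer
theorem QM : Q ≤ N(L) := e.QU.trans e.UM
theorem pQ : PG 2 Q := e.syl.pi.of_le e.QU
theorem ab : Abelem 2 Z := ⟨comm_iff_le_cent.2 (e.Zl.trans e.UC), fun c hc => (sq c).trans (e.el c hc)⟩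
theorem zz : z * z = 1 := e.el z e.zZ
theorem nX' : g ∈ N(X) := have := e.nX; normalIn_top.norm (mem_top g)
theorem jX (hx : x ∈ X) : g * x * g⁻¹ ∈ X := e.nX.conj_mem x hx g

theorem two (hx : x ∈ X) (hm : x ∈ N(L)) (h : PiE {2} x) : x ∈ L := by
  obtain ⟨g, hg, k⟩ := (e.sX.of_le (le_inf e.sX.le e.UM) inf_le_left).sle_cj (zpowers_le.2 ⟨hx, hm⟩) (piG_zpowers.2 h)
  exact cj_le_of_mem_norm hg.2 e.UL (k (mem_zpowers x))
theorem tX : t ∉ X := fun h => e.tL (e.two h e.tM (two_of_sq e.tt))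
theorem fr (hm : m ∈ N(L)) : ∃ l ∈ L, ∃ n ∈ N(Z), m = l * n :=
  let ⟨l, hl, n, hn, k⟩ := (mem_sup_of_norm inf_le_left).1 ((e.syl.frattini (normalIn_norm L)).ge hm)
  ⟨l, hl, n, e.ZU ▸ norm_le_norm_center U hn.2, k⟩
theorem csL (h : Cs L z y) : y ∈ L := let ⟨_, hl, k⟩ := h; k ▸ jmem hl (e.UL (e.Zl e.zZ))
theorem csM (h : Cs L z y) (hm : m ∈ N(L)) : Cs L z (m * y * m⁻¹) := by
  obtain ⟨l, hl, rfl⟩ := h
  obtain ⟨l', hl', n, hn, k⟩ := e.fr (mul_mem hm (le_normalizer hl))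
  rw [conj_conj', k, ← conj_conj']
  exact Cs.J (e.tr _ (conj_mem_of_norm hn e.zZ) (conj_ne_one e.z1 n)) hl'
theorem tiM (hg : g ∈ N(L)) (hc : c ∈ Z) (c1 : c ≠ 1) (h : g * c * g⁻¹ ∈ Z) : g ∈ N(Z) := by
  obtain ⟨l, hl, n, hn, rfl⟩ := e.fr hg
  exact mul_mem (e.ti l hl _ (conj_mem_of_norm hn hc) (conj_ne_one c1 n) (conj_conj' l n c ▸ h)) hn
theorem MQ : N(L) ⊓ N(Z) ≤ N(Q) := by
  obtain ⟨n, hn, k⟩ := e.oQ
  have s := e.syl.of_le (le_inf e.UL e.UN) inf_le_left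
  rw [le_antisymm (le_Oc ⟨e.QU.trans s.le, e.NQ⟩ e.pQ) ((le_inf (Oc_le_hall s) (Oc_le_hall (s.Jmem hn))).trans k)]
  exact norms_Oc _ (norms_inf inf_le_left (norms_norm inf_le_right))
theorem tQ : t ∈ N(Q) := e.MQ ⟨e.tM, cent_le_norm _ e.tZ⟩
theorem cs (h : Cs L z x) (k : g * x * g⁻¹ ∈ L) : Cs L z (g * x * g⁻¹) := by
  obtain ⟨l, -, rfl⟩ := h
  rw [conj_conj'] at k ⊢
  obtain ⟨m, hm, c⟩ := e.inv _ k (conj_sq e.zz _)
  rw [conj_conj'] at c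
  obtain ⟨j, hj, jm⟩ := fus (g := m * (g * l)) e.uq e.uq e.tM e.tt e.tt (mem_cent1_symm.1 c) (by
    rw [← cj_cent1]; exact conj_mem_cj.2 (cent_le_cent1 e.zZ e.tZ))
  have := Cs.J (e.csM (y := z) ⟨1, one_mem _, by simp⟩ jm) (inv_mem hm)
  rwa [← conj_conj' j, conj_mem_cent1.1 hj, ← conj_conj' m, inv_inv, show ∀ w, m⁻¹ * (m * w * m⁻¹) * m = w by intro; group] at this
theorem cM (h : g * t * g⁻¹ * t⁻¹ ∈ N(L)) : g ∈ N(L) := uq' e.uq ((mul_mem_cancel_right (inv_mem e.tM)).1 h)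

/-- odd order subgroups normalized by `t` and `Q` -/
theorem odd (hR : OG R) (h1 : t ∈ N(R)) (h2 : Q ≤ N(R)) (h3 : R ⊓ N(L) ≤ N(Z)) : R ≤ C[a] := by
  have k : R ⊓ N(L) ≤ C[a] := (cents_symm (e.pQ.cents_of_norms (hR.infl _) ((le_inf inf_le_right h3).trans e.MQ)
    (norms_inf h2 (norms_of_le e.QM)))).trans (cent_le_cent1 e.aQ)
  obtain ⟨m, hm, c⟩ := e.ma
  have a1 : a ≠ 1 := fun h => e.aZ (h ▸ one_mem _)
  have t1 : t ≠ 1 := fun h => e.tL (h ▸ one_mem _)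
  obtain ⟨h4, h5⟩ := H18.Be.four t1 a1 (fun h => e.tL (h ▸ e.UL (e.QU e.aQ))) e.tt e.aa e.ta
  refine le_of_four h4 hR (sup_le (zpowers_le.2 h1) (zpowers_le.2 (h2 e.aQ))) fun d hd d1 => ?_
  obtain rfl | rfl | rfl := (h5 d hd).resolve_left d1
  · exact (inf_le_inf_left R fun g hg => uq' e.uq ((conj_mem_cent1.1 hg).symm ▸ e.tM)).trans k
  · exact inf_le_right
  exact (inf_le_inf_left R fun g hg => uq' (e.uq.J (le_normalizer hm)) (by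
    rw [c, conj_mem_cent1.1 hg]; exact mul_mem e.tM (e.QM e.aQ))).trans k

theorem zQ : Z ≤ ⁅Q, Q⁆ := fun c hc => let ⟨_, hy, k⟩ := e.se a e.aQ e.aZ c hc; k ▸ comm_mem e.aQ hy

theorem B1 : X ⊓ C[z] ≤ N(Z) := by
  have sH := e.sX.inf (e.UC.trans (cent_le_cent1 e.zZ))
  have sc : SCl Z (X ⊓ C[z]) := .of_syl sH e.Zl fun c hc g hg k => by
    by_cases c1 : c = 1
    · simp [c1]
    by_cases cz : z * c = 1
    · rw [eq_inv_of_mul_eq_one_right cz, inv_eq e.ab e.zZ, conj_mem_cent1.1 hg.2]; exact e.zZ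
    refine e.PR _ k (e.cs (e.tr c hc c1) (e.UL k)) ?_
    have : z * (g * c * g⁻¹) = g * (z * c) * g⁻¹ := by rw [← conj_mul, conj_mem_cent1.1 hg.2]
    exact this ▸ e.cs (e.tr _ (mul_mem e.zZ hc) cz) (this ▸ e.UL (mul_mem (e.Zl e.zZ) k))
  have nK := Kc_normal sc.le
  set K := Kc Z (X ⊓ C[z])
  have s1 := sH.inf_normal nK
  rw [le_antisymm (show U ⊓ K ≤ Z from by_contra fun h => by
    obtain ⟨u, hu, u1, k⟩ := ex_cm e.syl.pi (inf_normal_of_norm' (nK.norms sH.le)) e.UN h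
    exact u1 (H19.GG.inv_Kc sc e.ab sH e.Zl hu (e.z2 u hu.1 k.2))) (le_inf e.Zl le_Kc)] at s1
  have QK := (nK.norms sH.le).trans' e.QU
  have QN := e.QU.trans e.UN
  have c1 : K ⊓ N(Z) ≤ C(Z) := by
    have n0 : ∀ {Y}, Y ≤ N(K) → Y ≤ N(Z) → Y ≤ N(O(K ⊓ C(Z))) := fun h1 h2 => norms_Oc _ (norms_inf h1 (norms_cent h2))
    have n1 := n0 (norms_of_le inf_le_left) (inf_le_right : K ⊓ N(Z) ≤ _)
    have k := three_mod (n0 QK QN) n1 ((commutator_mono ((le_inf ((commutator_mono le_rfl inf_le_left).trans (commg_le_right QK))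
      ((commutator_mono e.QC le_rfl).trans (commg_le_left (norms_cent inf_le_right)))).trans
        (cen_split (s1.inf (ab_cent e.ab)) (inf_le_left.trans inf_le_right)).le) le_rfl).trans (by
      rw [commg_sup_cent_left (cents_symm e.QC) (n0 (e.ZQ.trans QK) le_normalizer)]
      exact commg_le_left (n0 QK QN)))
    exact cents_symm (commg_eq_bot.1 (le_bot_iff.1 ((le_inf ((commutator_mono e.zQ le_rfl).trans k)
      (commg_le_left inf_le_right)).trans (PiN.inf_eq_bot' (O_og _) sc.pg).le)))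
  have c2 := e.odd (O_og K) (norms_Oc _ (norms_Kc (X := zpowers t) (zpowers_le.2 (cent_le_norm _ e.tZ)) (norms_inf
    (fun _ _ => e.nX') (norms_cent1 (zpowers_le.2 (cent_le_cent1 e.zZ e.tZ))))) (mem_zpowers t)) (norms_Oc _ QK) fun g hg =>
      e.tiM hg.2 e.zZ e.z1 ((conj_mem_cent1.1 (nK.le (Oc_le _ _ hg.1)).2).symm ▸ e.zZ)
  have c3 : Z ≤ C(O(K)) := fun c hc => by
    obtain ⟨y, hy, rfl⟩ := e.se a e.aQ e.aZ c hc
    have := le_cent1_iff.1 c2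
    simpa [mul_assoc] using mul_mem this (conj_mem_of_norm (norms_cent (norms_Oc _ QK) hy) (inv_mem this))
  exact sc.le_of ((cen_split s1 c1).le.trans (sup_le (norms_of_cents (cents_symm c3)) le_normalizer)) inf_le_right

theorem B2 (hs : s ∈ A) (s1 : s ≠ 1) : Cs L z s ∧ X ⊓ C[s] ≤ N(A) := by
  obtain ⟨m, hm, rfl⟩ := e.cA
  obtain ⟨c, hc, rfl⟩ := mem_cj'.1 hs
  obtain ⟨l, hl, rfl⟩ := e.tr c hc (by rintro rfl; simp at s1)
  refine ⟨Cs.J ⟨l, hl, rfl⟩ hm, ?_⟩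
  have := cj_mono (m * l) e.B1
  rwa [cj_inf, cj_of_mem_norm e.nX', cj_cent1, cj_norm, cj_mul, cj_of_mem_norm (e.ti l hl z e.zZ e.z1 hc), ← conj_conj'] at this

end Ev

end H5.S4
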