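/-
The type-free unitary endgame (chunk GU of notes/S4.md), part 2: the normalizer of `Z`.
-/
import Cfsg.Agent.H5.GU1

set_option autoImplicit false
set_option linter.unusedSectionVars false

namespace H5.S4
open _root_.Cfsg Subgroup H18 H17.GS H27.S4
open H19 hiding eq_bot_mono
open H28.SF (Uq jmem cmem ex_sq)
open H28.CY (two_of_sq two_of_sq_two mem_of_odd)

universe u
variable {G : Type u} [Group G] [Finite G] {A B H K L M O P Q R U X Y Z : Subgroup G} {a b c d g i k m n s s' t u x y z : G}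

namespace Ev
variable (e : Ev L X U Z Q A t z a)
include e

theorem C1 (hx : x ∈ Q) (hg : g ∈ N(Z)) (k : g * x * g⁻¹ ∈ U) : g * x * g⁻¹ ∈ Q := by_contra fun n => by
  have tN := cent_le_norm _ e.tZ
  obtain ⟨c, hc, h⟩ | ⟨h1, ⟨p, hp, h2⟩, h3⟩ := e.s2 _ k n (by rw [conj_mul]; exact conj_mem_of_norm hg (e.q2 x hx))
  · have m := conj_mem_of_norm' hg hc
    have e1 : g⁻¹ * (g * x * g⁻¹ * c) * g⁻¹⁻¹ = x * (g⁻¹ * c * g) := by group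
    have m' := mul_mem hx (e.ZQ m)
    exact n (e.ZQ (conj_mem_of_norm hg ((mul_mem_cancel_right m).1 (e.nq _ m' (e1 ▸ e.cs h (e1 ▸ e.UL (e.QU m')))))))
  obtain ⟨p', hp', h4⟩ := h3 x hx fun k => h1 (by rw [conj_mul, k]; simp)
  obtain ⟨j, hj, jm⟩ := fus (K := Cw Z (g * x * g⁻¹ = ·)) (g := g) (e.uq.J (le_normalizer hp'.1)) (e.uq.J (le_normalizer hp.1))
    (jmem (le_normalizer hp.1) e.tM) (conj_sq e.tt _) (conj_sq e.tt _) (mem_Cw.2 ⟨jmem hp.2 tN, by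
      simpa [mul_assoc] using inv_mem h2⟩) (mem_Cw.2 ⟨jmem hg (jmem hp'.2 tN), by
      simpa [mul_assoc] using conj_mem_of_norm hg (inv_mem h4)⟩)
  have := conj_mem_of_norm (e.MQ ⟨jm, mul_mem hj.1 hg⟩) hx
  rw [← conj_conj'] at this
  exact n (inv_mem_iff.1 ((mul_mem_cancel_left this).1 (e.ZQ (mem_Cw.1 hj).2)))

theorem QQ : ⁅Q, Q⁆ ≤ Z := commg_le_iff.2 fun x hx y hy => by
  simpa [mul_assoc] using mul_mem (mul_mem (e.q2 _ (mul_mem hx hy)) (conj_mem_of_norm' (e.UN (e.QU hy)) (e.q2 _ (inv_mem hx))))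
    (e.q2 _ (inv_mem hy))

theorem noB (hB : Z ≤ B) (BQ : B ≤ Q) (h1 : Y ≤ C(Z)) (h2 : Y ≤ N(Q)) (h3 : ⁅Y, B⁆ ≤ Z)
    (h4 : ∀ a ∈ Q, ∀ b ∈ Q, a ∉ B → b ∉ B → ∃ n ∈ Y, n * a * n⁻¹ * b⁻¹ ∈ B)
    (h5 : ∃ a ∈ Q, ∃ b ∈ Q, a ∉ B ∧ b ∉ B ∧ a * b ∉ B) : False := by
  obtain ⟨a, ha, b, hb, a1, b1, ab⟩ := h5
  have k1 : ⁅Y, Q⁆ ≤ Q ⊓ C(B) := le_inf (commg_le_right h2) (commg_comm Q Y ▸ commg_eq_bot.1 (three_subgroup
    (commg_eq_bot.2 (h3.trans (cents_symm e.QC))) (commg_eq_bot.2 (((commutator_mono BQ le_rfl).trans e.QQ).trans (cents_symm h1)))))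
  have k2 : ∀ y ∈ Q, ∃ x ∈ Q ⊓ C(B), ∃ w ∈ B, y = x * w := fun y hy => by
    by_cases y1 : y ∈ B
    · exact ⟨1, one_mem _, y, y1, (one_mul y).symm⟩
    obtain ⟨d, hd, d1, d2⟩ : ∃ d ∈ Q, d ∉ B ∧ y * d ∉ B := by_contra fun k => ab (by
      simpa [mul_assoc] using mul_mem (hB (e.q2 a ha)) (mul_mem (inv_mem (not_not.1 fun l => k ⟨a, ha, a1, l⟩))
        (not_not.1 fun l => k ⟨b, hb, b1, l⟩)))
    obtain ⟨n, hn, k⟩ := h4 d hd _ (mul_mem hy hd) d1 d2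
    have := k1 (comm_mem hn hd)
    exact ⟨_, this, _, inv_mem k, by rw [← mem_cent.1 this.2 _ (inv_mem k)]; group⟩
  have k3 : ∀ x ∈ Q ⊓ C(B), x ∈ B → x ∈ Z := fun x hx xB => by_contra fun n => by
    obtain ⟨y, hy', k⟩ := e.se x hx.1 n z e.zZ
    obtain ⟨y, hy, w, hw, rfl⟩ := k2 y hy'
    exact e.z1 (by rw [k, ← mul_assoc, mem_cent.1 hy.2 x xB, mul_assoc y, ← mem_cent.1 hx.2 w hw]; group)
  have k4 : ∀ x ∈ Q ⊓ C(B), ∀ y ∈ Q ⊓ C(B), x ∉ Z → y ∉ Z → x * x = y * y := fun x hx y hy x1 y1 => by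
    obtain ⟨n, hn, k⟩ := h4 x hx.1 y hy.1 (mt (k3 x hx) x1) (mt (k3 y hy) y1)
    replace k := k3 _ (by simpa [mul_assoc] using mul_mem (k1 (comm_mem hn hx.1)) (mul_mem hx (inv_mem hy))) k
    rw [← conj_eq_of_cent' (h1 hn) (e.q2 x hx.1), ← conj_mul, ← inv_mul_cancel_right (n * x * n⁻¹) y]
    generalize n * x * n⁻¹ * y⁻¹ = c at k
    rw [mul_assoc, ← mul_assoc y, ← mem_cent.1 (e.QC hy.1) c k, ← mul_assoc, ← mul_assoc, e.el c k, one_mul]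
  obtain ⟨x, hx, w, hw, rfl⟩ := k2 a ha
  have x1 : x ∉ Z := fun k => a1 (mul_mem (hB k) hw)
  refine (e.four.trans_le (card_le (K := zpowers (x * x)) fun c hc => ?_)).not_ge (Nat.card_zpowers (x * x) ▸
    Nat.le_of_dvd two_pos (orderOf_dvd_of_pow_eq_one ((sq _).trans (e.el _ (e.q2 x hx.1)))))
  obtain ⟨y, hy', rfl⟩ := e.se x hx.1 x1 c hc
  obtain ⟨y, hy, w, hw, rfl⟩ := k2 y hy'
  rw [show x * (y * w) * x⁻¹ * (y * w)⁻¹ = x * y * x⁻¹ * (x * w * x⁻¹ * w⁻¹) * y⁻¹ by group, conj_eq_of_cent' hx.2 hw,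
    mul_inv_cancel, mul_one]
  by_cases y1 : y ∈ Z
  · simp [conj_eq_of_cent' (e.QC hx.1) y1]
  by_cases y2 : x * y ∈ Z
  · rw [show x * y * x⁻¹ * y⁻¹ = x * (x⁻¹ * (x * y) * x⁻¹⁻¹) * x⁻¹ * x⁻¹ * y⁻¹ by group, conj_eq_of_cent' (e.QC (inv_mem hx.1)) y2,
      conj_eq_of_cent' (e.QC hx.1) y2, mul_assoc (x * y), ← mul_inv_rev, ← conj_eq_of_cent' (e.QC (inv_mem hx.1)) y2]
    simp [mul_assoc]
  have := k4 _ (mul_mem hx hy) y hy y2 y1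
  rw [show x * y * x⁻¹ * y⁻¹ = x * y * (x * y) * y⁻¹ * (x * x)⁻¹ * y⁻¹ by group, this, mul_inv_cancel_right,
    conj_eq_of_cent' (e.QC hy.1) (inv_mem (e.q2 x hx.1))]
  exact inv_mem (mem_zpowers _)

theorem D1 : X ⊓ N(Z) ≤ N(Q) := by
  have sH := e.sX.inf e.UN
  have QN := e.QU.trans e.UN
  have sc : SCl (quo Z Q) (quo Z (X ⊓ N(Z))) := .of_syl (sH.quo inf_le_right) (quo_mono _ e.QU) (by
    rintro _ ⟨x, hx, rfl⟩ _ ⟨g, -, rfl⟩ k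
    rw [← map_inv, ← map_mul, ← map_mul] at k ⊢
    rw [qmk_mem_quo e.UN, sup_eq_right.2 e.Zl] at k
    exact mem_im_of (e.C1 hx g.2 k))
  have nK := Kc_normal (e.QU.trans sH.le)
  have KC := Kc_cents e.QC (inf_le_right : X ⊓ N(Z) ≤ _)
  have eK := quo_Kc QN (inf_le_right : X ⊓ N(Z) ≤ _)
  have tK := norms_Kc (zpowers_le.2 e.tQ) (norms_inf (fun _ _ => e.nX') (norms_norm (zpowers_le.2 (cent_le_norm _ e.tZ))))
  have QK : Q ≤ Kc Q (X ⊓ N(Z)) := le_Kc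
  generalize Kc Q (X ⊓ N(Z)) = K at *
  have st : St allCls (quo Z Q) (quo Z K) := ⟨trivial, (abelem_quo_iff QN).2 ⟨e.QQ, fun x hx => sq x ▸ e.q2 x hx⟩,
    sc.mono (quo_mono _ QK) (quo_mono _ nK.le)⟩
  have YK : qpre Z O(quo Z K) ≤ K := qpre_le (e.ZQ.trans QK) (Oc_le _ _)
  have n0 : ∀ {Y}, Y ≤ N(Z) → Y ≤ N(K) → Y ≤ N(O(qpre Z O(quo Z K))) := fun h1 h2 =>
    norms_Oc _ (norms_qpre h1 (norms_Oc _ (quo_norms h2)))
  have k1 := le_cent1_iff.1 (e.odd (O_og _) (n0 (zpowers_le.2 (cent_le_norm _ e.tZ)) tK (mem_zpowers t)) (n0 QN (norms_of_le QK))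
    (inf_le_left.trans ((Oc_le _ _).trans (qpre_le_norm _))))
  have k2 := e.gQ _ fun p hp => conj_mem_of_norm (norms_cent (n0 inf_le_right nK.norm) ⟨e.LX hp.1, hp.2⟩) k1
  have k3 := (Hall.bot (π := {2}) (M := quo Z (qpre Z O(quo Z K))) (by rw [quo_qpre]; exact O_og _)).qpre
    ⟨le_qpre _, qpre_le_norm _⟩ (ab_pg e.ab)
  rw [qpre_bot] at k3
  have k4 := quo_norms (K := Z) ((cen_split k3 (inf_le_left.trans (YK.trans KC))).le.trans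
    (sup_le (norms_of_cents (cents_symm k2)) (norms_of_le e.ZQ)))
  rw [quo_qpre] at k4
  refine norms_of_quo' inf_le_right QN e.ZQ (sc.le_of (sc.Kc_Kc.ge.trans (eK ▸ st.Kc_le' k4 le_normalizer fun J hJ => ?_)) inf_le_right)
  have m : ∀ {x} (hx : x ∈ Q), x ∈ qpre Z (Bj (quo Z Q) (quo Z K) J) ↔ qmk Z ⟨x, QN hx⟩ ∈ Bj (quo Z Q) (quo Z K) J :=
    fun hx => coe_mem_pre (x := ⟨_, QN hx⟩)
  refine (e.noB (Y := qpre Z (J ⊓ N(quo Z Q))) (le_qpre (Bj _ _ J)) (qpre_le e.ZQ inf_le_left)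
    ((qpre_le (e.ZQ.trans QK) (inf_le_left.trans hJ.le)).trans KC)
    (norms_of_quo' (qpre_le_norm _) QN e.ZQ ((quo_qpre _).le.trans inf_le_right)) ((quo_cents_iff (qpre_le_norm _) (qpre_le_norm _)).1
      (by rw [quo_qpre, quo_qpre]; exact st.inf_norm_le hJ)) (fun a ha b hb a1 b1 => ?_) ?_).elim
  · obtain ⟨n, hn, k⟩ := st.trans hJ (mem_im_of (x := ⟨a, QN ha⟩) ha) (mem_im_of (x := ⟨b, QN hb⟩) hb) (mt (m ha).2 a1) (mt (m hb).2 b1)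
    obtain ⟨n, rfl⟩ := qmk_surj _ n
    rw [← map_inv, ← map_inv, ← map_mul, ← map_mul, ← map_mul] at k
    exact ⟨n, coe_mem_pre.2 hn, coe_mem_pre.2 k⟩
  obtain ⟨_, ⟨⟨a, ha, rfl⟩, -⟩, _, ⟨⟨b, hb, rfl⟩, -⟩, a1, b1, ab⟩ := st.exists_move hJ
  exact ⟨a, ha, b, hb, mt coe_mem_pre.1 a1, mt coe_mem_pre.1 b1, mt (coe_mem_pre (x := a * b)).1 (by rwa [map_mul])⟩

end Ev

end H5.S4
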