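/-
The type-free unitary endgame (chunk GU of notes/S4.md), part 3: the centralizer of `Z` and the end.
-/
import Cfsg.Agent.H5.GU2

set_option autoImplicit false
set_option linter.unusedSectionVars false

namespace H5.S4
open _root_.Cfsg Subgroup H18 H17.GS H27.S4
open H19 hiding eq_bot_mono
open H28.SF (Uq jmem cmem ex_sq)
open H28.CY (two_of_sq two_of_sq_two mem_of_odd)

universe u
variable {G : Type u} [Group G] [Finite G] {A B H K L M O P Q R U X Y Z : Subgroup G} {a b c d g i k m n s s' t u x y z : G}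

theorem mem_zt (n : t ∈ N(K)) (tt : t * t = 1) (hx : x ∈ K ⊔ zpowers t) : x ∈ K ∨ x * t⁻¹ ∈ K := by
  obtain ⟨y, hy, s, hs, rfl⟩ := (mem_sup_of_norm (zpowers_le.2 n)).1 hx
  rcases (mem_zp tt).1 hs with rfl | rfl <;> simp [hy]

theorem fac {k j : ℕ} (h : 2 * 2 ^ j ∣ k.factorial) (h1 : 12 ≤ j) : 2 * (2 ^ j) ^ 3 < k.factorial := by
  have := Fact.mk Nat.prime_two
  rw [← pow_succ'] at h
  obtain ⟨m, rfl⟩ : ∃ m, k = m + 16 := ⟨k - 16, (Nat.sub_add_cancel (by_contra fun n => absurd ((pow_dvd_pow 2 (show 13 ≤ j + 1 by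
    omega)).trans (h.trans (Nat.factorial_dvd_factorial (show k ≤ 15 by omega)))) (by decide))).symm⟩
  have := ((padicValNat_dvd_iff_le (Nat.factorial_ne_zero _)).1 h).trans_lt (padicValNat_factorial_lt_of_ne_zero 2 (by omega))
  refine lt_of_le_of_lt (b := 2 * 8 ^ (m + 14)) (by
    rw [← pow_mul, show 8 = 2 ^ 3 from rfl, ← pow_mul]
    exact Nat.mul_le_mul_left _ (Nat.pow_le_pow_right two_pos (by omega))) ?_
  clear h this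
  induction m with
  | zero => decide
  | succ m ih => rw [show m + 1 + 16 = m + 16 + 1 by omega, show m + 1 + 14 = m + 14 + 1 by omega, Nat.factorial_succ, pow_succ]; nlinarith

namespace Ev
variable (e : Ev L X U Z Q A t z a)
include e

theorem CQ : X ⊓ C(Z) ≤ N(Q) := (inf_le_inf_left X (cent_le_norm Z)).trans e.D1
theorem abA : Abelem 2 A := let ⟨m, _, k⟩ := e.cA; k ▸ abelem_J e.ab m
theorem dec (h : u ∈ A ⊔ Q) : ∃ s ∈ A, ∃ x ∈ Q, u = s * x := (mem_sup_of_norm' (e.AU.trans e.UQ)).1 h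
theorem WM : A ⊔ Q ≤ N(L) := (sup_le e.AU e.QU).trans e.UM
theorem UW : U ≤ N(A ⊔ Q) := fun g hg => mem_norm_of_cj_le fun _ h' => by
  obtain ⟨_, h, rfl⟩ := mem_cj'.1 h'
  refine e.om _ (jmem hg (sup_le e.AU e.QU h)) ?_
  obtain ⟨s, hs, x, hx, rfl⟩ := e.dec h
  rw [conj_mul]
  simpa [inv_eq e.abA hs, mul_assoc] using conj_mem_of_norm (e.UQ hg) (mul_mem (conj_mem_of_norm (e.UQ (e.AU hs)) hx) hx)
theorem G1 (hs : s ∈ A) (s1 : s ≠ 1) (hc : c ∈ X ⊓ C(Z)) (h : c * s * c⁻¹ * s⁻¹ ∈ Q) : c ∈ N(A ⊔ Q) := by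
  have k : c * s * c⁻¹ = s * (s⁻¹ * (c * s * c⁻¹ * s⁻¹) * s) := by group
  have m := conj_mem_of_norm' (e.UQ (e.AU hs)) h
  obtain ⟨y, hy, l⟩ := e.tv s hs s1 _ m (k ▸ e.cs (e.B2 hs s1).1 (k ▸ e.UL (mul_mem (e.AU hs) (e.QU m))))
  exact (mul_mem_cancel_left (inv_mem (e.UW (e.QU hy)))).1 (norms_sup (A := N(A) ⊓ N(Q)) inf_le_left inf_le_right
    ⟨(e.B2 hs s1).2 ⟨X.mul_mem (inv_mem (e.sX.le (e.QU hy))) hc.1, conj_mem_cent1.2 (by rw [← conj_conj', k, ← l]; group)⟩,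
      N(Q).mul_mem (inv_mem (le_normalizer hy)) (e.CQ hc)⟩)
theorem G2 (hy : y ∈ X ⊓ C(Z)) (h : y ∈ N(A ⊔ Q)) (yy : y * y = 1) : y ∈ A ⊔ Q := by
  obtain ⟨g, hg, k⟩ := exists_conj_mem ((e.sX.inf e.UC).inf e.UW) ⟨hy, h⟩ yy
  simpa [mul_assoc] using conj_mem_of_norm' hg.2 (e.om _ k (conj_sq yy g ▸ one_mem _))
theorem tC : t ∈ N(X ⊓ C(Z)) := norms_inf (A := N(Z)) (fun _ _ => e.nX') (norm_le_norm_cent Z) (cent_le_norm _ e.tZ)
theorem sW : Syl 2 (U ⊔ zpowers t) (X ⊓ C(Z) ⊔ zpowers t) :=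
  have s := e.sX.inf e.UC
  ⟨sup_le_sup_right s.le _, s.pi.sup (pg_zpowers e.tt) (zpowers_le.2 e.tU), s.idx.dvd (by
    rw [show X ⊓ C(Z) ⊔ zpowers t = X ⊓ C(Z) ⊔ (U ⊔ zpowers t) by rw [← sup_assoc, sup_eq_left.2 s.le],
      relIndex_sup_right_of_norm (sup_le (norms_of_le s.le) (zpowers_le.2 e.tC))]
    exact relIndex_dvd_left le_sup_left _)⟩
theorem TM : U ⊔ zpowers t ≤ N(L) := sup_le e.UM (zpowers_le.2 e.tM)
theorem WQ : X ⊓ C(Z) ⊔ zpowers t ≤ N(Q) := sup_le e.CQ (zpowers_le.2 e.tQ)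
theorem WC : X ⊓ C(Z) ⊔ zpowers t ≤ N(X ⊓ C(Z)) := sup_le le_normalizer (zpowers_le.2 e.tC)
theorem Wsq (h : x ∈ X ⊓ C(Z) ⊔ zpowers t) : x * x ∈ X ⊓ C(Z) := (mem_zt e.tC e.tt h).elim (fun h => mul_mem h h) fun h => by
  rw [show x * x = x * t⁻¹ * (t * (x * t⁻¹) * t⁻¹) * (t * t) by group, e.tt, mul_one]
  exact mul_mem h (conj_mem_of_norm e.tC h)

theorem G4 (oc : ∀ u ∈ U, t * u * (t * u) ∈ Q → ∃ p ∈ L, (t * u)⁻¹ * (p * t * p⁻¹) ∈ Q) (hy : y ∈ X ⊓ C(Z)) (yy : y * y = 1) :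
    y ∈ N(L) := by
  have l : zpowers (y * t) ≤ X ⊓ C(Z) ⊔ zpowers t := zpowers_le.2 (mul_mem_sup hy (mem_zpowers t))
  have l2 := zpowers_le.2 (constt_mem_zpowers {2} (y * t))
  obtain ⟨i, ⟨hi, -⟩, i1, i2⟩ := ex_sq (D := Q ⊓ zpowers (constt {2} (y * t))) (piG_zpowers.2 (constt_pi _ _))
    (inf_lt_right.2 fun k => e.tX ((X.mul_mem_cancel_left hy.1).1 (constt_mul_compl {2} (y * t) ▸ mul_mem
      (e.sX.le (e.QU (k (mem_zpowers _)))) (mem_of_odd (constt_pi _ _) (e.Wsq (l (constt_mem_zpowers _ _))).1))))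
  have k : t * i * t⁻¹ = i⁻¹ ∧ y * i * y⁻¹ = i⁻¹ := by
    obtain ⟨j, rfl⟩ := l2 hi
    simp only [← conj_zpow, ← inv_zpow]
    constructor <;> congr 1 <;> rw [mul_inv_rev, inv_eq_of_mul_eq_one_right e.tt, inv_eq_of_mul_eq_one_right yy]
    · rw [mul_assoc, mul_assoc, e.tt, mul_one]
    · rw [← mul_assoc, yy, one_mul]
  obtain ⟨m, hm, iT⟩ := (e.sW.inf e.TM).scj_le (zpowers_le.2 ⟨l (l2 hi), e.cM (by
    rw [show i * t * i⁻¹ * t⁻¹ = i * (t * i * t⁻¹)⁻¹ by group, k.1, inv_inv]; exact e.QM i2.1)⟩)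
    ((piG_zpowers.2 (constt_pi _ _)).of_le (zpowers_le.2 hi))
  replace iT := iT (conj_mem_cj.2 (mem_zpowers i))
  have mQ := e.WQ hm.1
  have h1 := conj_mem_of_norm (e.WC hm.1) hy
  have h2 : m * i * m⁻¹ ∈ Cw Q (m * y * m⁻¹ = ·) := mem_Cw.2 ⟨e.WQ (e.sW.le iT), by
    rw [show m * i * m⁻¹ * (m * y * m⁻¹) * (m * i * m⁻¹)⁻¹ * (m * y * m⁻¹)⁻¹ = m * (i * (y * i * y⁻¹)⁻¹) * m⁻¹ by group, k.2, inv_inv]
    exact conj_mem_of_norm mQ i2.1⟩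
  have h3 : m * i * m⁻¹ * (m * i * m⁻¹) ∈ Q := by rw [conj_mul]; exact conj_mem_of_norm mQ i2.1
  have h4 : m * i * m⁻¹ ∉ Q := fun k => i1 ⟨by simpa [mul_assoc] using conj_mem_of_norm' mQ k, hi⟩
  have h5 := conj_sq yy m
  suffices m * y * m⁻¹ ∈ N(L) by simpa [mul_assoc] using jmem (inv_mem hm.2) this
  generalize m * y * m⁻¹ = y at h1 h2 h5
  generalize m * i * m⁻¹ = i at iT h2 h3 h4
  have h6 : ∀ x ∈ Q, x ∈ Cw Q (y = ·) := fun x hx => mem_Cw.2 ⟨le_normalizer hx, by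
    simpa [mul_assoc] using mul_mem hx (conj_mem_of_norm (e.CQ h1) (inv_mem hx))⟩
  have h7 : ∀ {s}, s ∈ Cw Q (y = ·) → y * s * y⁻¹ * s⁻¹ ∈ Q := fun h => by simpa [mul_assoc] using inv_mem (mem_Cw.1 h).2
  rcases mem_zt e.tU e.tt iT with h | h
  · obtain ⟨s, hs, x, hx, rfl⟩ := e.dec (e.om _ h h3)
    exact e.WM (e.G2 h1 (e.G1 hs (by rintro rfl; exact h4 (by simpa using hx)) h1 (h7 ((mul_mem_cancel_right (h6 x hx)).1 h2))) h5)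
  have e1 : t * (t⁻¹ * (i * t⁻¹) * t) = i := by group
  obtain ⟨p, hp, k⟩ := oc _ (conj_mem_of_norm' e.tU h) (e1.symm ▸ h3)
  rw [e1] at k
  exact uq' (e.uq.J (le_normalizer hp)) ((mul_mem_cancel_right (inv_mem (jmem (le_normalizer hp) e.tM))).1
    (e.QM (h7 ((mul_mem_cancel_left (inv_mem h2)).1 (h6 _ k)))))

theorem GR (o1 : ∀ s ∈ C(Z), Cs L z s → t * s * t⁻¹ * s⁻¹ ∈ Q)
    (o2 : ∀ u ∈ U, (∀ s ∈ C(Z), Cs L z s → u * s * u⁻¹ * s⁻¹ ∈ Q) → u ∈ Q) (hc : c ∈ X ⊓ C(Z)) :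
    ∃ m ∈ N(L), m⁻¹ * c ∈ N(A ⊔ Q) := by
  have tW : t ∈ Cw Q fun s => s ∈ C(Z) ∧ Cs L z s := ⟨e.tQ, fun s h => o1 s h.1 h.2⟩
  have n := Oc_norm {2}ᶜ (quo Q (X ⊓ C(Z) ⊔ zpowers t))
  have tl : zpowers (qmk Q ⟨t, e.tQ⟩) ≤ quo Q (X ⊓ C(Z) ⊔ zpowers t) := zpowers_le.2 (mem_im_of (mem_sup_right (mem_zpowers t)))
  have p2 := quo_zpowers e.tQ ▸ (pg_zpowers e.tt).quo Q
  have k1 := le_sup_cent_of_commg_le (tl.trans n) ((O_og _).cop p2) (sol_pg p2) (Hub0.zs (e.sW.quo e.WQ)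
    (mem_im_of (x := ⟨t, e.tQ⟩) (mem_sup_right (mem_zpowers t))) (by
      rintro _ ⟨g, hg, rfl⟩ k
      rw [← map_inv, ← map_mul, ← map_mul] at k ⊢
      rw [qmk_mem_quo (e.sW.le.trans e.WQ), sup_eq_right.2 (le_sup_of_le_left e.QU)] at k
      have gM : (g : G) ∈ N(L) := uq' e.uq (e.TM k)
      have gZ : (g : G) ∈ N(Z) := sup_le (inf_le_right.trans (cent_le_norm Z)) (zpowers_le.2 (cent_le_norm _ e.tZ)) hg
      have m : (g : G) * t * (g : G)⁻¹ ∈ Cw Q fun s => s ∈ C(Z) ∧ Cs L z s := ⟨jmem g.2 e.tQ, fun s h => by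
        simpa [mul_assoc] using conj_mem_of_norm g.2 (o1 _ (conj_mem_of_norm (norm_le_norm_cent Z (inv_mem gZ)) h.1)
          (e.csM h.2 (inv_mem gM)))⟩
      rw [← mul_inv_eq_one, ← map_inv, ← map_mul, qmk_eq_one]
      exact o2 _ ((mem_zt e.tU e.tt k).resolve_left fun k => e.tX (by simpa [mul_assoc] using e.jX (g := (g : G)⁻¹) (e.sX.le k)))
        fun s h h' => (mul_mem m (inv_mem tW)).2 s ⟨h, h'⟩))
  have k2 : O(quo Q (X ⊓ C(Z) ⊔ zpowers t)) ≤ quo Q N(A ⊔ Q) := le_of_ab (abelem_quo e.abA Q) (by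
    obtain ⟨m, -, k⟩ := e.cA
    have := e.four
    rw [card_quo_of_disjoint (e.AU.trans e.UQ) (inf_comm A Q ▸ e.AQ), k, show #(H27.cj m Z) = #Z from card_cj m Z]
    rcases pg_card_cases (ab_pg e.ab) with h | h | h | h <;> omega) (O_og _)
    ((quo_mono _ (e.AU.trans (le_sup_left.trans e.sW.le))).trans n) (by
      rintro _ ⟨s, hs, rfl⟩ s1 r hr
      obtain ⟨r, hr', rfl⟩ : r ∈ quo Q (X ⊓ C(Z)) := mem_of_odd ((O_og _).elt hr.1) (by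
        obtain ⟨r, hr', rfl⟩ := Oc_le _ _ hr.1
        exact map_mul (qmk Q) r r ▸ mem_im_of (e.Wsq hr'))
      have := conj_mem_cent1.1 hr.2
      rw [← mul_inv_eq_one, ← map_inv, ← map_inv, ← map_mul, ← map_mul, ← map_mul, qmk_eq_one] at this
      exact mem_im_of (e.G1 hs (fun k => s1 (by rw [show s = 1 from Subtype.ext k, map_one])) hr' this))
  obtain ⟨m, hm, _, hr, k⟩ := (mem_sup_of_norm' (inf_le_left.trans (sup_le le_normalizer n))).1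
    ((k1.trans_eq (sup_comm _ _)) (mem_im_of (x := ⟨c, e.CQ hc⟩) (mem_sup_left hc)))
  obtain ⟨r, hr', rfl⟩ := k2 hr
  obtain ⟨m, rfl⟩ := qmk_surj _ m
  have := conj_eq_of_cent' hm.2 (mem_zpowers _)
  rw [← mul_inv_eq_one, ← map_inv, ← map_inv, ← map_mul, ← map_mul, ← map_mul, qmk_eq_one] at this
  rw [← map_mul, eq_comm, qmk_eq] at k
  exact ⟨m, e.cM (e.QM this), by simpa [mul_assoc] using mul_mem (show (r : G) ∈ _ from hr') (e.UW (e.QU k))⟩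

theorem G3 (hs : s ∈ A) (hc : c ∈ X ⊓ C(Z)) : c * s * c⁻¹ ∈ N(L) := by
  rcases e.oc with oc | ⟨o1, o2⟩
  · exact e.G4 oc (jmem hc ((e.sX.inf e.UC).le (e.AU hs))) (conj_sq (sq_one e.abA hs) c)
  obtain ⟨m, hm, k⟩ := e.GR o1 o2 hc
  simpa [mul_assoc] using jmem hm (e.WM (conj_mem_of_norm k (mem_sup_left hs)))

theorem csz : Cs L z z := ⟨1, one_mem _, by simp⟩
theorem csX (h : g * z * g⁻¹ ∈ N(L)) : Cs L z (g * z * g⁻¹) :=
  e.cs e.csz (e.two (e.jX (e.sX.le (e.Zl e.zZ))) h (two_of_sq (conj_sq e.zz g)))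

theorem H1 (h : g * z * g⁻¹ ∈ C(Z)) : Cs L z (g * z * g⁻¹) := e.csX (by
  obtain ⟨c, hc, k⟩ := exists_conj_mem (e.sX.inf e.UC) ⟨e.jX (e.sX.le (e.Zl e.zZ)), h⟩ (conj_sq e.zz g)
  obtain ⟨s, hs, x, hx, l⟩ := e.dec (e.om _ k (conj_sq (conj_sq e.zz g) c ▸ one_mem _))
  rw [show g * z * g⁻¹ = c⁻¹ * s * c⁻¹⁻¹ * (c⁻¹ * x * c) by
    rw [show c⁻¹ * s * c⁻¹⁻¹ * (c⁻¹ * x * c) = c⁻¹ * (s * x) * c by group, ← l]; group]
  exact mul_mem (e.G3 hs (inv_mem hc)) (e.QM (conj_mem_of_norm' (e.CQ hc) hx)))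

theorem H2 : X ⊓ C[z] ≤ N(L) := fun c hc => mem_norm_of_cj_le (cj_le_iff.2 (e.gen _ fun m hm k => by
  have := conj_mem_of_norm (norm_le_norm_cent Z (e.B1 hc)) k
  rw [conj_conj'] at this
  obtain ⟨l, hl, k⟩ := e.H1 this
  have n : l⁻¹ * (c * m) ∈ X ⊓ C[z] := ⟨X.mul_mem (inv_mem (e.LX hl)) (mul_mem hc.1 (e.LX hm)), conj_mem_cent1.2 (by
    rw [← conj_conj', ← k]; group)⟩
  rw [← cj_le_iff, show H27.cj m Q = cj m Q from rfl, cj_cj, ← mul_inv_cancel_left l (c * m), cj_mul, cj_of_mem_norm (e.D1 ⟨n.1, e.B1 n⟩)]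
  exact cj_le_of_mem hl (e.QU.trans e.UL)))

end Ev

theorem gu : GU.{u} := fun G _ _ L X U Z Q A t z a h tt tM uq sX nX sim LX => by
  have e : Ev L X U Z Q A t z a := ⟨h, tt, tM, uq, sX, nX, LX⟩
  have L1 : L ≠ ⊥ := ne_bot_of_mem (e.UL (e.Zl e.zZ)) e.z1
  refine ((sim.cases LX (by_contra fun n => ?_)).resolve_left L1).symm
  obtain ⟨-, k⟩ | ⟨n, -, n7, -, ⟨f⟩, k⟩ := H17.HT.holt_rel sim n sX (e.Zl e.zZ) (e.UC.trans (cent_le_cent1 e.zZ)) e.zz e.H2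
    fun g _ k => let ⟨l, hl, k⟩ := e.csX k; ⟨l, ⟨LX hl, le_normalizer hl⟩, k⟩
  · exact e.nU ((le_inf LX le_normalizer).trans (k.le.trans inf_le_right))
  rw [← (k.cases (le_inf LX le_normalizer) inf_le_right).resolve_left L1] at f
  obtain ⟨j, hj⟩ := e.syl.pi.exists_card
  obtain ⟨b1, b2⟩ := e.big
  have := Fin.nontrivial_iff_two_le.2 (show 2 ≤ n - 1 by omega)
  have c : 2 * #L = (n - 1).factorial := by
    rw [Nat.card_congr f.toEquiv, two_mul_nat_card_alternatingGroup, Nat.card_perm, Nat.card_fin]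
  rw [hj] at b1 b2
  exact (fac (c ▸ hj ▸ Nat.mul_dvd_mul_left 2 (card_dvd e.UL)) ((Nat.pow_le_pow_iff_right one_lt_two).1 b2)).not_ge
    (c ▸ Nat.mul_le_mul_left 2 b1)

end H5.S4
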