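import Cfsg.Agent.H5.K31
import Cfsg.Agent.H6.Good
import Cfsg.Agent.H6.Avg

/-! At most two irreducible characters over an invariant character. -/

set_option autoImplicit false
set_option linter.unusedSectionVars false

namespace H5.K3
open Subgroup H20 H19 H6
open scoped Classical

theorem Cc.conj {E : Type*} [Group E] {x y : E} (h : Cc x) (e : IsConj x y) : Cc y := by
  obtain ⟨g, rfl⟩ := isConj_iff.1 e
  intro y hy
  obtain ⟨w, ⟨i, hi⟩, j, hj⟩ := h (g⁻¹ * y * g) (by
    simpa [mul_assoc] using congrArg (fun z => g⁻¹ * z * g) hy)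
  simp only at hi hj
  exact ⟨g * w * g⁻¹, ⟨i, by simp only [conj_zpow, hi]⟩, j, by simp only [conj_zpow, hj]; group⟩

theorem class_sum {E : Type*} [Group E] [Fintype E] (a : E) :
    ∑ e, (if IsConj a e then Nat.card (centralizer ({e} : Set E)) else 0) = Nat.card E := by
  have h := (centralizer ({a} : Set E)).card_mul_index
  rw [← Finset.sum_filter, Finset.sum_const_nat (m := Nat.card (centralizer ({a} : Set E)))]
  · rw [← h, mul_comm, ← Fintype.card_subtype, ← Nat.card_eq_fintype_card, H24.card_isConj]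
  · intro e he
    refine Nat.eq_of_mul_eq_mul_right (Nat.pos_of_ne_zero index_ne_zero_of_finite) (.trans ?_ h.symm)
    exact (congrArg _ (H24.cs_eq_of_isConj (Finset.mem_filter.1 he).2)).trans (card_mul_index _)

variable {Γ E : Type*} [Group Γ] [Finite Γ] [Group E] [Finite E] {T N : Subgroup Γ} {θ : Γ → ℂ}
  {π : T →* E}

/-- preimage -/
def pre (π : T →* E) (B : Subgroup E) : Subgroup Γ := (B.comap π).map T.subtype

theorem pre_le (B : Subgroup E) : pre π B ≤ T := map_subtype_le _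

theorem mem_pre {B : Subgroup E} {x : T} : (x : Γ) ∈ pre π B ↔ π x ∈ B :=
  mem_map_iff_mem (subtype_injective T)

variable (hs : Function.Surjective π) (hk : π.ker = N.subgroupOf T) (hN : N ⊴ T)

include hs in
theorem pre_index (B : Subgroup E) : (pre π B).relIndex T = B.index := by
  rw [relIndex, subgroupOf, pre, comap_map_eq_self_of_injective (subtype_injective T),
    index_comap_of_surjective _ hs]

include hs hk in
theorem rel_card : N.relIndex T = Nat.card E := by
  rw [relIndex, ← hk, index_ker, MonoidHom.range_eq_top.2 hs, card_top]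

include hk hN

theorem pre_zpowers (x : T) : pre π (zpowers (π x)) = N ⊔ zpowers (x : Γ) := by
  rw [pre, ← MonoidHom.map_zpowers, comap_map_eq, hk, Subgroup.map_sup, MonoidHom.map_zpowers,
    subgroupOf_map_subtype, inf_eq_left.2 hN.le, sup_comm]
  rfl

theorem le_pre (B : Subgroup E) : N ≤ pre π B := fun x hx => (mem_pre (x := ⟨x, hN.le hx⟩)).2 (by
  rw [(hk.ge hx : π ⟨x, hN.le hx⟩ = 1)]; exact one_mem B)

theorem comm_iff (x y : T) : (x : Γ) * y * (x : Γ)⁻¹ * (y : Γ)⁻¹ ∈ N ↔ π x * π y = π y * π x := by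
  rw [← mul_inv_eq_iff_eq_mul, ← mul_inv_eq_one, ← map_mul, ← map_inv, ← map_inv, ← map_mul,
    ← map_mul, ← MonoidHom.mem_ker, hk]
  rfl

theorem CN_eq (x : T) : CN T N x = pre π (centralizer {π x}) := Subgroup.ext fun y => by
  rw [mem_CN (hN.norm x.2) hN.norm]
  refine ⟨fun h => (mem_pre (x := ⟨y, h.1⟩)).2 (mem_centralizer_singleton_iff.2
    ((comm_iff hk hN x ⟨y, h.1⟩).1 h.2).symm), fun h => ⟨pre_le _ h, ?_⟩⟩
  exact (comm_iff hk hN x ⟨y, pre_le _ h⟩).2
    (mem_centralizer_singleton_iff.1 ((mem_pre (x := ⟨y, pre_le _ h⟩)).1 h)).symm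

include hs

theorem pre_card (B : Subgroup E) : N.relIndex (pre π B) = Nat.card B := by
  refine Nat.eq_of_mul_eq_mul_right (Nat.pos_of_ne_zero (B.index_ne_zero_of_finite)) ?_
  rw [card_mul_index, ← pre_index hs, relIndex_mul_relIndex _ _ _ (le_pre hk hN B) (pre_le B),
    rel_card hs hk]

variable (hθ : θ ∈ Irr N) (hi : CInv T θ)
include hθ hi

omit hs hk in
theorem ext_cyc (x : T) : Ext (N ⊔ zpowers (x : Γ)) N θ :=
  have h : N ⊔ zpowers (x : Γ) ≤ T := sup_le hN.le (zpowers_le.2 x.2)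
  exists_ext_of_cyc ⟨le_sup_left, h.trans hN.norm⟩ hθ (hi.mono h) rfl

theorem good {x : T} (h : Cc (π x)) : Good T N θ x := fun y hy e => by
  obtain ⟨w, h1, h2⟩ := h _ ((comm_iff hk hN x ⟨y, hy⟩).1 e)
  obtain ⟨w, rfl⟩ := hs w
  refine (ext_cyc hN hθ hi w).mono hθ (le_sup_left.trans le_sup_left) ?_
  rw [← pre_zpowers hk hN w]
  exact sup_le (sup_le (le_pre hk hN _) (zpowers_le.2 (mem_pre.2 h1)))
    (zpowers_le.2 ((mem_pre (x := ⟨y, hy⟩)).2 h2))

theorem ord_eq (h2 : (ovr T N θ).card ≤ 2) (x y : E) (hx : x ≠ 1) (hy : y ≠ 1) (cx : Cc x)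
    (cy : Cc y) : orderOf x = orderOf y := by_contra fun e => by
  have := Fintype.ofFinite T
  have := Fintype.ofFinite E
  have h1 := card_mul_dot T (gw T N θ) 1
  rw [← card_ovr_good hN hθ hi, sum_sub_eq] at h1
  let c := fun e : E => Nat.card (centralizer ({e} : Set E))
  have h3 : Nat.card T * (ovr T N θ).card = ∑ x : T, if Good T N θ x then c (π x) else 0 := by
    refine Nat.cast_injective (R := ℂ) ?_
    push_cast
    refine h1.trans (Finset.sum_congr rfl fun x _ => ?_)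
    simp [gw, CN_eq hk hN, pre_card hs hk hN, c]
  let F := fun e : E => (if IsConj 1 e then c e else 0) + (if IsConj x e then c e else 0) +
    if IsConj y e then c e else 0
  have h4 := sum_hom π hs F
  simp only [F, c, Finset.sum_add_distrib, class_sum] at h4
  have h5 : ∑ g : T, F (π g) ≤ ∑ x : T, if Good T N θ x then c (π x) else 0 :=
    Finset.sum_le_sum fun g _ => by
      have o : ∀ {a : E}, IsConj a (π g) → orderOf a = orderOf (π g) := fun h => by
        obtain ⟨g, e⟩ := isConj_iff.1 h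
        exact e ▸ ((MulAut.conj g).orderOf_eq _).symm
      have g1 := fun a (h : Cc a) e => good hs hk hN hθ hi (x := g) (h.conj e)
      have g2 := g1 1 fun y _ => ⟨y, one_mem _, mem_zpowers y⟩
      have g3 := orderOf_eq_one_iff.not.2 hx
      have g4 := orderOf_eq_one_iff.not.2 hy
      have g5 := @o 1
      have g6 := @o x
      have g7 := @o y
      have g8 := g1 x cx
      have g9 := g1 y cy
      rw [orderOf_one] at g5
      simp only [F]
      split_ifs <;> grind
  simp only [F, c, Finset.sum_add_distrib] at h5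
  have h6 := Nat.mul_le_mul_left (Nat.card E) (h5.trans (h3.ge.trans (Nat.mul_le_mul_left _ h2)))
  have := Nat.mul_pos (Nat.card_pos (α := T)) (Nat.card_pos (α := E))
  rw [h4] at h6
  nlinarith

theorem sq_sum : ∃ e : (Γ → ℂ) → ℕ, ∑ χ ∈ ovr T N θ, e χ ^ 2 = Nat.card E ∧
    ∀ χ ∈ ovr T N θ, ∀ B : Subgroup E, IsCyclic B → e χ ≤ B.index := by
  have hA := fun χ (h : χ ∈ ovr T N θ) => mem_ovr.1 h
  choose! e he he' using fun χ (h : χ ∈ ovr T N θ) =>
    H20.clifford_nat hN.le (irr_chr (hA χ h).1) (irr_chr hθ) (hA χ h).2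
  refine ⟨e, Nat.cast_injective (R := ℂ) ?_, fun χ h B hB => ?_⟩
  · have h6 := dot_Ind_self hN hθ
    rw [H20.inertia_eq_self hi, rel_card hs hk, (Ind_eq_sum_ovr hN.le (irr_zirr hθ)).trans
      (Finset.sum_congr rfl fun χ h => by rw [he' χ h]),
      (orthN_of_irr (ovr_subset _ _ _)).fam.dot_sum_sum] at h6
    simpa [sq] using h6
  obtain ⟨w, hw, hB⟩ := exists_gen hB
  obtain ⟨w, rfl⟩ := hs w
  obtain rfl := le_antisymm hB (zpowers_le.2 hw)
  rw [← pre_index hs, pre_zpowers hk hN]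
  have h1 : N ⊔ zpowers (w : Γ) ≤ T := sup_le hN.le (zpowers_le.2 w.2)
  have h2 : N ⊴ N ⊔ zpowers (w : Γ) := ⟨le_sup_left, h1.trans hN.norm⟩
  obtain ⟨ψ, h3, h4, h5⟩ := irr_exists_between ((irr_cinv (hA χ h).1).mono h1) h2.le (hA χ h).2
  obtain ⟨φ, h6, h7⟩ := ext_cyc hN hθ hi w
  have h10 := zpowers_le.2 (hN.norm w.2)
  have h11 := der_pair_le (hN.norm w.2) (hN.norm w.2) le_normalizer (commg_le_left le_normalizer)
    (commg_le_left h10) (commg_le_left h10) (by simp)
  rw [sup_assoc, sup_idem] at h11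
  obtain ⟨l, h8, -, rfl⟩ := exists_lin_mul h2 h11 hθ (hi.mono h1) h6 h3
    (mem_ovr.1 (mem_ovr_of_Res h6 hθ h7)).2 h5
  have h9 := deg_le_of_dot (chr_Ind (irr_chr h3) h1) (hA χ h).1 (by
    rw [dot_Ind_left h1 _ (irr_cinv (hA χ h).1)]; exact mt dot_eq_zero_comm.1 h4)
  rw [deg_Ind (irr_chr h3) h1, clifford_deg hN (hA χ h).1 hθ (he' χ h) (he χ h).ne',
    H20.inertia_eq_self hi, relIndex_self, mul_one, deg_congr (ψ := θ) (χ := l * φ)
    (by rw [Pi.mul_apply, h8.one, one_mul, ← h7, Res_one])] at h9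
  exact Nat.le_of_mul_le_mul_right h9 (irr_deg_pos hθ)

/-- a transitive `p'`-group with at most two characters over an invariant character -/
theorem small_of_ovr {V : Type*} {p : ℕ} [Fact p.Prime] [AddCommGroup V] [Module (ZMod p) V]
    [Finite V] [Nontrivial V] {ρ : E →* (V ≃ₗ[ZMod p] V)} (ht : H24.NF.Tr ρ)
    (hρ : Function.Injective ρ) (hp : ¬ p ∣ Nat.card E) (h2 : (ovr T N θ).card ≤ 2) :
    Nat.card V ≤ 3 := by
  obtain ⟨e, h3, h4⟩ := sq_sum hs hk hN hθ hi
  refine small ht hρ hp (fun B hB => ?_) ?_ (ord_eq hs hk hN hθ hi h2)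
  · exact h3 ▸ (Finset.sum_le_card_nsmul _ _ _ fun χ h =>
      Nat.pow_le_pow_left (h4 χ h B hB) 2).trans (Nat.mul_le_mul_right _ h2)
  rw [← h3]
  rcases (by omega : (ovr T N θ).card = 0 ∨ (ovr T N θ).card = 1 ∨ (ovr T N θ).card = 2) with h | h | h
  · exact ⟨0, 0, by rw [Finset.card_eq_zero.1 h]; rfl⟩
  · obtain ⟨a, h⟩ := Finset.card_eq_one.1 h
    exact ⟨e a, 0, by simp [h]⟩
  · obtain ⟨a, b, h5, h⟩ := Finset.card_eq_two.1 h
    exact ⟨e a, e b, by rw [h, Finset.sum_pair h5]⟩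

end H5.K3
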