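/-
Common-divisor graphs of relative character degrees: the combinatorial core.
-/
import Cfsg.Agent.S0007

set_option autoImplicit false

namespace H5.RD
open MulAction

variable {G A X : Type*} [Group G] [CommGroup A] [MulDistribMulAction G A] [MulAction G X]
  [MulAction A X]

/-- orbit size -/
noncomputable abbrev ix (G : Type*) [Group G] {Y : Type*} [MulAction G Y] (y : Y) : ℕ :=
  (stabilizer G y).index

theorem ix_eq_one {Y : Type*} [MulAction G Y] {y : Y} : ix G y = 1 ↔ ∀ g : G, g • y = y := by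
  rw [Subgroup.index_eq_one, Subgroup.eq_top_iff']; rfl

theorem fac [Finite G] {Y Z : Type*} [MulAction G Y] [MulAction G Z] {y : Y} {z : Z}
    (h : (ix G y).Coprime (ix G z)) (g : G) : ∃ k : G, k • y = y ∧ k • z = g • z := by
  obtain ⟨a, ha, b, hb, e⟩ := (Cfsg.Agent.S0007.result _ _ h).2 g
  exact ⟨a, ha, by rw [e, mul_smul, mem_stabilizer_iff.1 hb]⟩

/-- the data of a normal subgroup `N ≤ G'`: `A` the linear characters, `X` the irreducible ones -/
structure Sys (G A X : Type*) [Group G] [CommGroup A] [MulDistribMulAction G A] [MulAction G X]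
    [MulAction A X] where
  d : X → ℕ
  o : X
  R : ℕ → X → Prop
  cmp : ∀ (g : G) (l : A) (x : X), g • l • x = (g • l) • g • x
  d_g : ∀ (g : G) (x : X), d (g • x) = d x
  d_l : ∀ (l : A) (x : X), d (l • x) = d x
  o_g : ∀ g : G, g • o = o
  d_o : d o = 1
  lin : ∀ x, d x = 1 → ∃ l : A, x = l • o
  free : ∀ (l : A) (x : X), l • x = x → l ^ d x = 1
  det : ∀ (l : A) (x : X) (a b : ℕ), (∀ g : G, g • l = l) → R a x → R b (l • x) → l ^ (a * b) = 1
  ex : ∀ x, ∃ a, R a x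
  dvd : ∀ a x, R a x → ix G x * d x ∣ a
  one : R 1 o

variable (S : Sys G A X)

/-- the vertices -/
def Sys.V (a : ℕ) : Prop := ∃ x, x ≠ S.o ∧ S.R a x

/-- a relation containing the edges -/
structure Sys.Cn (C : ℕ → ℕ → Prop) : Prop where
  symm : ∀ {a b}, C a b → C b a
  trans : ∀ {a b c}, C a b → C b c → C a c
  edge : ∀ {a b}, S.V a → S.V b → ¬ a.Coprime b → C a b

namespace Sys
variable {S}

theorem ix_dvd {a : ℕ} {x : X} (h : S.R a x) : ix G x ∣ a := (dvd_mul_right _ _).trans (S.dvd a x h)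
theorem d_dvd {a : ℕ} {x : X} (h : S.R a x) : S.d x ∣ a := (dvd_mul_left _ _).trans (S.dvd a x h)

theorem smul_o {l : A} (h : l • S.o = S.o) : l = 1 := by simpa [S.d_o] using S.free l _ h

theorem smul_o_ne {l : A} (h : l ≠ 1) : l • S.o ≠ S.o := fun e => h (smul_o e)

theorem smul_o_inj {l m : A} (h : l • S.o = m • S.o) : l = m := by
  have : (m⁻¹ * l) • S.o = S.o := by rw [mul_smul, h, inv_smul_smul]
  exact (inv_mul_eq_one.1 (smul_o this)).symm

theorem stab_o (l : A) : stabilizer G (l • S.o) = stabilizer G l := by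
  ext g
  rw [mem_stabilizer_iff, mem_stabilizer_iff, S.cmp, S.o_g]
  exact ⟨smul_o_inj, fun e => by rw [e]⟩

theorem ix_o (l : A) : ix G (l • S.o) = ix G l := by rw [ix, stab_o]

theorem inv_pow {l : A} {a : ℕ} (hl : ∀ g : G, g • l = l) (h : S.R a (l • S.o)) : l ^ a = 1 := by
  simpa using S.det l S.o 1 a hl S.one h

include S in
theorem stab_inv {l : A} (hl : ∀ g : G, g • l = l) (x : X) :
    stabilizer G (l • x) = stabilizer G x := by
  ext g
  rw [mem_stabilizer_iff, mem_stabilizer_iff, S.cmp, hl, smul_left_cancel_iff]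

include S in
/-- if the orbit sizes of `l` and `x`, and of `l` and `l • x` are coprime, the orbit of `x` is
stable under `l (g • l)⁻¹`. -/
theorem stable [Finite G] {l : A} {x : X} (h1 : (ix G l).Coprime (ix G x))
    (h2 : (ix G (l • x)).Coprime (ix G l)) (g : G) {y : X} (hy : y ∈ orbit G x) :
    (l * (g • l)⁻¹) • y ∈ orbit G x := by
  obtain ⟨u, rfl⟩ := hy
  obtain ⟨h, a1, a2⟩ := fac h1 u
  obtain ⟨k, b1, b2⟩ := fac h2 (h⁻¹ * g)
  refine ⟨h * k, ?_⟩
  rw [S.cmp, b2] at b1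
  have b3 : k • x = ((h⁻¹ * g) • l)⁻¹ • l • x := by rw [← b1, inv_smul_smul]
  simp only
  rw [mul_smul, b3, S.cmp, S.cmp, a1, smul_inv', ← mul_smul h, mul_inv_cancel_left, a2, ← mul_smul,
    mul_comm]

include S in
theorem dvd_ix [Finite G] {n : A} {x : X} {p : ℕ} (hp : p.Prime) (h1 : n ≠ 1) (h2 : n ^ p = 1)
    (h3 : ¬ p ∣ S.d x) (h : ∀ y ∈ orbit G x, n • y ∈ orbit G x) : p ∣ ix G x := by
  classical
  have := Fact.mk hp
  have : Finite (orbit G x) := Finite.of_surjective _ (Set.rangeFactorization_surjective (f := fun g : G => g • x))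
  have := Fintype.ofFinite (orbit G x)
  let f : Function.End (orbit G x) := fun y => ⟨n • y.1, h _ y.2⟩
  have hf : ∀ k (y : orbit G x), ((f ^ k) y).1 = n ^ k • y.1 := by
    intro k
    induction k with
    | zero => intro y; rw [pow_zero, pow_zero, one_smul]; rfl
    | succ k ih => intro y; rw [pow_succ, pow_succ, mul_smul]; exact ih _
  have hp1 : f ^ p ^ 1 = 1 := by
    funext y; apply Subtype.ext; rw [hf, pow_one, h2, one_smul]; rfl
  have hm := Equiv.Perm.card_fixedPoints_modEq hp1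
  have he : IsEmpty f.fixedPoints := ⟨fun ⟨⟨y, u, hu⟩, hy⟩ => by
    have e : n • y = y := congrArg Subtype.val hy
    have e2 := S.free n y e
    rw [← hu, S.d_g] at e2
    have := pow_gcd_eq_one.2 ⟨h2, e2⟩
    rw [(hp.coprime_iff_not_dvd.2 h3).gcd_eq_one, pow_one] at this
    exact h1 this⟩
  rw [Fintype.card_eq_zero (α := f.fixedPoints), ← Nat.card_eq_fintype_card] at hm
  rw [ix, index_stabilizer, ← Nat.card_coe_set_eq]
  exact (Nat.modEq_zero_iff_dvd).1 hm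

theorem stable_pow {n : A} {x : X} (h : ∀ y ∈ orbit G x, n • y ∈ orbit G x) (k : ℕ) :
    ∀ y ∈ orbit G x, n ^ k • y ∈ orbit G x := by
  induction k with
  | zero => intro y hy; simpa using hy
  | succ k ih => intro y hy; rw [pow_succ, mul_smul]; exact ih _ (h y hy)

theorem ix_inv (l : A) : ix G l⁻¹ = ix G l := by
  have : stabilizer G l⁻¹ = stabilizer G l := by
    ext g; rw [mem_stabilizer_iff, mem_stabilizer_iff, smul_inv', inv_inj]
  rw [ix, this]

theorem ncop {a b u v : ℕ} (h1 : u ∣ a) (h2 : v ∣ b) (h : ¬ u.Coprime v) : ¬ a.Coprime b :=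
  fun e => h ((e.coprime_dvd_left h1).coprime_dvd_right h2)

theorem ncop' {a b u : ℕ} (h1 : u ∣ a) (h2 : u ∣ b) (h : u ≠ 1) : ¬ a.Coprime b :=
  ncop h1 h2 (by rwa [Nat.coprime_self])

theorem eq_one_of {l : A} {a b : ℕ} (h1 : l ^ a = 1) (h2 : l ^ b = 1) (h : a.Coprime b) : l = 1 := by
  have := pow_gcd_eq_one.2 ⟨h1, h2⟩
  rwa [h.gcd_eq_one, pow_one] at this

theorem exists_moved {l : A} (h : ix G l ≠ 1) : ∃ g : G, l * (g • l)⁻¹ ≠ 1 := by
  rw [Ne, ix_eq_one] at h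
  push Not at h
  obtain ⟨g, hg⟩ := h
  exact ⟨g, fun e => hg (mul_inv_eq_one.1 e).symm⟩

theorem smul_ne_o {l : A} {x : X} (h : ix G l ≠ 1) (hc : (ix G l).Coprime (ix G x)) :
    l • x ≠ S.o := fun e => by
  have : x = l⁻¹ • S.o := by rw [← e, inv_smul_smul]
  rw [this, ix_o, ix_inv, Nat.coprime_self] at hc
  exact h hc

end Sys

/-- a minimal invariant subgroup of exponent `p` without fixed points -/
structure Mn (G : Type*) [Group G] [MulDistribMulAction G A] (p : ℕ) (V : Subgroup A) : Prop where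
  inv : ∀ g : G, ∀ l ∈ V, g • l ∈ V
  ne : V ≠ ⊥
  min : ∀ W ≤ V, (∀ g : G, ∀ l ∈ W, g • l ∈ W) → W = ⊥ ∨ W = V
  exp : ∀ l ∈ V, l ^ p = 1
  nc : ∀ l ∈ V, l ≠ 1 → ix G l ≠ 1

/-- the primes dividing the order of `A` -/
def Pr (A : Type*) [CommGroup A] (p : ℕ) : Prop := p.Prime ∧ ∃ l : A, l ≠ 1 ∧ l ^ p = 1

theorem Pr.cases [Finite A] {p : ℕ} (h : Pr A p) :
    (∃ l : A, l ≠ 1 ∧ l ^ p = 1 ∧ ∀ g : G, g • l = l) ∨ ∃ V : Subgroup A, Mn G p V := by
  by_cases hc : ∃ l : A, l ≠ 1 ∧ l ^ p = 1 ∧ ∀ g : G, g • l = l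
  · exact .inl hc
  right
  have : Finite (Subgroup A) := Finite.of_injective _ SetLike.coe_injective
  obtain ⟨V, ⟨a1, a2, a3⟩, hm⟩ := (wellFounded_lt (α := Subgroup A)).has_min
    {V | V ≠ ⊥ ∧ (∀ g : G, ∀ l ∈ V, g • l ∈ V) ∧ ∀ l ∈ V, l ^ p = 1}
    ⟨(powMonoidHom p : A →* A).ker, by
      obtain ⟨l, h1, h2⟩ := h.2
      exact (Subgroup.ne_bot_iff_exists_ne_one).2 ⟨⟨l, h2⟩, fun e => h1 (congrArg Subtype.val e)⟩,
      fun g l hl => by
        rw [MonoidHom.mem_ker, powMonoidHom_apply] at hl ⊢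
        rw [← smul_pow', hl, smul_one], fun l hl => hl⟩
  refine ⟨V, a2, a1, fun W hW hi => ?_, a3, fun l hl h1 e => hc ⟨l, h1, a3 l hl, ix_eq_one.1 e⟩⟩
  by_contra! hh
  exact hm W ⟨hh.1, hi, fun l hl => a3 l (hW hl)⟩ (lt_of_le_of_ne hW hh.2)

theorem exists_pr [Finite A] {l : A} (h : l ≠ 1) :
    ∃ p k, Pr A p ∧ l ^ k ≠ 1 ∧ (l ^ k) ^ p = 1 ∧ p ∣ orderOf l := by
  obtain ⟨p, hp, k, hk⟩ := Nat.exists_prime_and_dvd (mt orderOf_eq_one_iff.1 h)
  have h0 := orderOf_pos l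
  have h1 : l ^ k ≠ 1 := pow_ne_one_of_lt_orderOf (by rintro rfl; omega)
    (by have := hp.two_le; have : k ≠ 0 := (by rintro rfl; omega); rw [hk]; nlinarith [Nat.pos_of_ne_zero this])
  have h2 : (l ^ k) ^ p = 1 := by rw [← pow_mul, mul_comm, ← hk, pow_orderOf_eq_one]
  exact ⟨p, k, ⟨hp, _, h1, h2⟩, h1, h2, k, hk⟩

namespace Sys
variable {S} [Finite G] [Finite A] {p q : ℕ} {V W : Subgroup A} {C : ℕ → ℕ → Prop} {a b c : ℕ}

theorem nc (hV : Mn G p V) {l m : A} (hm : m ∈ V) (h1 : m ≠ 1) (hl : ix G l ≠ 1)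
    (hc : (ix G l).Coprime (ix G m)) : ¬ (ix G (l • m • S.o)).Coprime (ix G l) := fun h2 => by
  rw [← S.ix_o m] at hc
  let W : Subgroup A :=
    { carrier := {w | ∀ y ∈ orbit G (m • S.o), w • y ∈ orbit G (m • S.o)}
      one_mem' := fun y hy => by simpa using hy
      mul_mem' := fun {u v} hu hv y hy => by rw [mul_smul]; exact hu _ (hv y hy)
      inv_mem' := fun {u} hu => by
        have : u⁻¹ = u ^ (orderOf u - 1) := by
          rw [inv_eq_iff_mul_eq_one, ← pow_succ', Nat.sub_add_cancel (orderOf_pos u),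
            pow_orderOf_eq_one]
        rw [this]; exact stable_pow hu _ }
  have a1 : W ≤ V := fun w hw => by
    obtain ⟨g, hg⟩ := hw _ (mem_orbit_self _)
    simp only at hg
    rw [S.cmp, S.o_g, ← mul_smul] at hg
    have := V.mul_mem (hV.inv g m hm) (V.inv_mem hm)
    rwa [smul_o_inj hg, mul_inv_cancel_right] at this
  have a2 : ∀ g : G, ∀ w ∈ W, g • w ∈ W := fun g w hw y hy => by
    have : g • w • g⁻¹ • y ∈ orbit G (m • S.o) :=
      mapsTo_smul_orbit g _ (hw _ (mapsTo_smul_orbit g⁻¹ _ hy))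
    rwa [S.cmp, smul_inv_smul] at this
  rcases hV.min W a1 a2 with e | e
  · obtain ⟨g, hg⟩ := exists_moved hl
    have : l * (g • l)⁻¹ ∈ W := fun y hy => S.stable hc h2 g hy
    rw [e] at this
    exact hg this
  · have : m⁻¹ ∈ W := e ▸ V.inv_mem hm
    obtain ⟨g, hg⟩ := this _ (mem_orbit_self _)
    simp only at hg
    rw [inv_smul_smul, smul_eq_iff_eq_inv_smul, S.o_g] at hg
    exact h1 (smul_o hg)

omit [Finite G] [Finite A] in
theorem central (hp : p.Prime) {l : A} (h1 : l ≠ 1) (h2 : l ^ p = 1) (h3 : ∀ g : G, g • l = l)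
    (ha : S.V a) : ∃ b, S.V b ∧ p ∣ b ∧ ¬ a.Coprime b := by
  by_cases hd : p ∣ a
  · exact ⟨a, ha, hd, ncop' hd hd hp.ne_one⟩
  have hc := hp.coprime_iff_not_dvd.2 hd
  obtain ⟨x, hx, ha⟩ := ha
  obtain ⟨b, hb⟩ := S.ex (l • x)
  refine ⟨b, ⟨_, fun e => ?_, hb⟩, ?_, ?_⟩
  · have : x = l⁻¹ • S.o := by rw [← e, inv_smul_smul]
    have := inv_pow (fun g => by rw [smul_inv', h3]) (this ▸ ha)
    rw [_root_.inv_pow, inv_eq_one] at this
    exact h1 (eq_one_of h2 this hc)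
  · by_contra h
    exact h1 (eq_one_of h2 (S.det l x a b h3 ha hb) (hc.mul_right (hp.coprime_iff_not_dvd.2 h)))
  · by_cases h : ix G x * S.d x = 1
    · obtain ⟨m, rfl⟩ := S.lin x (Nat.eq_one_of_mul_eq_one_left h)
      have hm := ix_eq_one.1 ((S.ix_o m).symm.trans (Nat.eq_one_of_mul_eq_one_right h))
      intro e
      rw [← mul_smul] at hb
      have b1 := inv_pow (fun g => by rw [smul_mul', h3, hm]) hb
      have b2 : m ^ (p * b) = 1 := by
        have := congrArg (· ^ p) b1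
        simp only [one_pow, mul_pow] at this
        rwa [← pow_mul, mul_comm b, pow_mul, h2, one_pow, one_mul, ← pow_mul, mul_comm b] at this
      exact hx (by rw [eq_one_of (inv_pow hm ha) b2 (hc.symm.mul_right e), one_smul])
    · refine ncop' (S.dvd _ _ ha) ?_ h
      have := S.dvd _ _ hb
      rwa [ix, S.stab_inv h3, S.d_l] at this

variable (hC : S.Cn C)
include hC

omit [Finite G] [Finite A] in
theorem central' (hp : p.Prime) {l : A} (h1 : l ≠ 1) (h2 : l ^ p = 1) (h3 : ∀ g : G, g • l = l)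
    (ha : S.V a) (hb : S.V b) : C a b := by
  obtain ⟨u, a1, a2, a3⟩ := central hp h1 h2 h3 ha
  obtain ⟨v, b1, b2, b3⟩ := central hp h1 h2 h3 hb
  exact hC.trans (hC.edge ha a1 a3) (hC.trans (hC.edge a1 b1 (ncop' a2 b2 hp.ne_one))
    (hC.symm (hC.edge hb b1 b3)))

theorem toD (hp : p.Prime) (hV : Mn G p V) {l : A} (hl : l ∈ V) (h1 : l ≠ 1) (hc : S.R c (l • S.o))
    (ha : S.V a) (hd : ¬ p ∣ a) : C a c := by
  have vc : S.V c := ⟨_, smul_o_ne h1, hc⟩
  have dc : ix G l ∣ c := S.ix_o l ▸ ix_dvd hc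
  obtain ⟨x, hx, ra⟩ := id ha
  by_cases h : (ix G l).Coprime (ix G x)
  swap
  · exact hC.symm (hC.edge vc ha (ncop dc (ix_dvd ra) h))
  obtain ⟨b, rb⟩ := S.ex (l • x)
  have vb : S.V b := ⟨_, smul_ne_o (hV.nc l hl h1) h, rb⟩
  have bc : C b c := hC.edge vb vc (ncop (ix_dvd rb) dc fun e => by
    obtain ⟨g, hg⟩ := exists_moved (hV.nc l hl h1)
    exact hd ((S.dvd_ix hp hg (hV.exp _ (V.mul_mem hl (V.inv_mem (hV.inv g l hl))))
      (fun e => hd (e.trans (d_dvd ra))) fun y hy => S.stable h e g hy).trans (ix_dvd ra)))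
  by_cases h2 : S.d x = 1
  swap
  · exact hC.trans (hC.edge ha vb (ncop' (d_dvd ra) (S.d_l l x ▸ d_dvd rb) h2)) bc
  obtain ⟨m, rfl⟩ := S.lin x h2
  rw [smul_comm] at rb
  rw [ix_o] at h
  by_cases h3 : ix G m = 1
  · have b1 := S.det m _ c b (ix_eq_one.1 h3) hc rb
    have b2 := inv_pow (ix_eq_one.1 h3) ra
    by_cases h4 : a.Coprime c
    · refine hC.trans (hC.edge ha vb fun e => hx ?_) bc
      rw [eq_one_of b2 b1 (h4.mul_right e), one_smul]
    · exact hC.edge ha vc h4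
  · exact hC.trans (hC.symm (hC.edge vb ha (ncop (ix_dvd rb) (S.ix_o m ▸ ix_dvd ra)
      (nc hV hl h1 h3 h.symm)))) bc

/-- two vertices, each prime to some prime divisor of `|A|`, are connected -/
theorem sep (hp : Pr A p) (hq : Pr A q) (ha : S.V a) (hb : S.V b) (h1 : ¬ p ∣ a) (h2 : ¬ q ∣ b) :
    C a b := by
  rcases hp.cases (G := G) with ⟨l, a1, a2, a3⟩ | ⟨V, hV⟩
  · exact central' hC hp.1 a1 a2 a3 ha hb
  obtain ⟨⟨l, hl⟩, l1⟩ := (Subgroup.ne_bot_iff_exists_ne_one).1 hV.ne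
  replace l1 : l ≠ 1 := fun e => l1 (Subtype.ext e)
  obtain ⟨c, hc⟩ := S.ex (l • S.o)
  have ac := toD hC hp.1 hV hl l1 hc ha h1
  by_cases e : p = q
  · subst e
    exact hC.trans ac (hC.symm (toD hC hp.1 hV hl l1 hc hb h2))
  rcases hq.cases (G := G) with ⟨l, a1, a2, a3⟩ | ⟨W, hW⟩
  · exact central' hC hq.1 a1 a2 a3 ha hb
  obtain ⟨⟨m, hm⟩, m1⟩ := (Subgroup.ne_bot_iff_exists_ne_one).1 hW.ne
  replace m1 : m ≠ 1 := fun e => m1 (Subtype.ext e)
  obtain ⟨c', hc'⟩ := S.ex (m • S.o)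
  have bc := toD hC hq.1 hW hm m1 hc' hb h2
  have cop := (Nat.coprime_primes hp.1 hq.1).2 e
  have key : ∀ u ∈ V, ∀ v ∈ W, u * v = 1 → u = 1 ∧ v = 1 := fun u hu v hv e => by
    have : u = 1 := eq_one_of (hV.exp u hu)
      (by rw [eq_inv_of_mul_eq_one_left e, _root_.inv_pow, hW.exp v hv, inv_one]) cop
    exact ⟨this, by simpa [this] using e⟩
  obtain ⟨u, hu⟩ := S.ex ((l * m) • S.o)
  have vu : S.V u := ⟨_, smul_o_ne fun e => l1 (key l hl m hm e).1, hu⟩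
  have st : ∀ g ∈ stabilizer G (l * m), g • l = l ∧ g • m = m := fun g hg => by
    rw [mem_stabilizer_iff, smul_mul'] at hg
    have := key (g • l * l⁻¹) (V.mul_mem (hV.inv g l hl) (V.inv_mem hl)) (g • m * m⁻¹)
      (W.mul_mem (hW.inv g m hm) (W.inv_mem hm))
      (by rw [mul_mul_mul_comm, hg, ← mul_inv, mul_inv_cancel])
    exact ⟨mul_inv_eq_one.1 this.1, mul_inv_eq_one.1 this.2⟩
  have du : ix G (l * m) ∣ u := S.ix_o (l * m) ▸ ix_dvd hu
  refine hC.trans ac (hC.trans (hC.edge ⟨_, smul_o_ne l1, hc⟩ vu ?_)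
    (hC.trans (hC.edge vu ⟨_, smul_o_ne m1, hc'⟩ ?_) (hC.symm bc)))
  · exact ncop' (u := ix G l) (S.ix_o l ▸ ix_dvd hc)
      ((Subgroup.index_dvd_of_le fun g hg => (st g hg).1).trans du) (hV.nc l hl l1)
  · exact ncop' (u := ix G m) ((Subgroup.index_dvd_of_le fun g hg => (st g hg).2).trans du)
      (S.ix_o m ▸ ix_dvd hc') (hW.nc m hm m1)

omit hC in
theorem nc2 {l : A} {y : X} (hl : ix G l ≠ 1) (hc : (ix G l).Coprime (ix G y)) (rb : S.R b y)
    (hb : ∀ p, Pr A p → ¬ p ∣ b) : ¬ (ix G (l • y)).Coprime (ix G l) := fun e => by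
  obtain ⟨g, hg⟩ := exists_moved hl
  obtain ⟨p, k, a1, a2, a3, -⟩ := exists_pr hg
  exact hb p a1 ((S.dvd_ix a1.1 a2 a3 (fun e => hb p a1 (e.trans (d_dvd rb)))
    (stable_pow (fun y hy => S.stable hc e g hy) k)).trans (ix_dvd rb))

omit hC [Finite G] in
theorem moved {l : A} (h1 : l • S.o ≠ S.o) (ra : S.R a (l • S.o)) (ha : ∀ p, Pr A p → ¬ p ∣ a) :
    ix G l ≠ 1 := fun e => by
  obtain ⟨p, k, a1, -, -, a2⟩ := exists_pr (l := l) fun e => h1 (by rw [e, one_smul])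
  exact ha p a1 (a2.trans (orderOf_dvd_of_pow_eq_one (inv_pow (ix_eq_one.1 e) ra)))

omit hC in
theorem lin_case {x y : X} (hx : x ≠ S.o) (hy : y ≠ S.o) (h1 : S.d x = 1) (ra : S.R a x)
    (rb : S.R b y) (ha : ∀ p, Pr A p → ¬ p ∣ a) (hb : ∀ p, Pr A p → ¬ p ∣ b) :
    ∃ c, S.V c ∧ ¬ a.Coprime c ∧ ¬ c.Coprime b := by
  obtain ⟨l, rfl⟩ := S.lin x h1
  have hl := moved hx ra ha
  have da : ix G l ∣ a := S.ix_o l ▸ ix_dvd ra
  by_cases h : (ix G l).Coprime (ix G y)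
  swap
  · exact ⟨a, ⟨_, hx, ra⟩, ncop' da da hl, ncop da (ix_dvd rb) h⟩
  obtain ⟨c, rc⟩ := S.ex (l • y)
  refine ⟨c, ⟨_, smul_ne_o hl h, rc⟩, fun e => ncop (ix_dvd rc) da (nc2 hl h rb hb) e.symm, ?_⟩
  by_cases h2 : S.d y = 1
  swap
  · exact ncop' (S.d_l l y ▸ d_dvd rc) (d_dvd rb) h2
  obtain ⟨m, rfl⟩ := S.lin y h2
  rw [smul_comm] at rc
  rw [ix_o, ← S.ix_o l] at h
  exact ncop (ix_dvd rc) (S.ix_o m ▸ ix_dvd rb) (nc2 (moved hy rb hb) h.symm ra ha)

end Sys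
end H5.RD
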