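/-
Common-divisor graphs of relative character degrees.
-/
import Cfsg.Agent.H5.RD1
import Cfsg.Agent.H6.Infl
import Cfsg.Agent.H6.Det
import Cfsg.Agent.H5.Kernel
import Cfsg.Prelude.Def_DegreeGraph

set_option autoImplicit false
set_option linter.unusedSectionVars false

open Cfsg Subgroup
namespace H5.RD
open H20 H19 MulAction
open scoped Classical

universe u
variable {G : Type u} [Group G] [Finite G] (N : Subgroup G) [hN : N.Normal]

/-- linear characters -/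
abbrev AA (N : Subgroup G) : Type u := Ch N

noncomputable instance instActAA : MulDistribMulAction G (AA N) where
  smul g l := (MonoidHom.comp l (MulAut.conjNormal g⁻¹ : MulAut N).toMonoidHom : N →* ℂˣ)
  one_smul l := MonoidHom.ext fun x => by
    change Ch.hom l (MulAut.conjNormal (1 : G)⁻¹ x) = Ch.hom l x
    simp
  mul_smul g h l := MonoidHom.ext fun x => by
    change Ch.hom l (MulAut.conjNormal (g * h)⁻¹ x) =
      Ch.hom l (MulAut.conjNormal h⁻¹ (MulAut.conjNormal g⁻¹ x))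
    simp
  smul_mul _ _ _ := rfl
  smul_one _ := rfl

/-- irreducible characters -/
@[ext] structure XX (N : Subgroup G) : Type u where
  val : G → ℂ
  irr : val ∈ Irr N

theorem mem_nrm (g : G) : g ∈ N(N) := (normalIn_top (H := N)).norm (mem_top g)

noncomputable instance instActXX : MulAction G (XX N) where
  smul g θ := ⟨cfj g⁻¹ θ.1, irr_cfj θ.2 (mem_nrm N _)⟩
  one_smul θ := XX.ext (by change cfj (1 : G)⁻¹ θ.1 = θ.1; simp)
  mul_smul g h θ := XX.ext (by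
    change cfj (g * h)⁻¹ θ.1 = cfj g⁻¹ (cfj h⁻¹ θ.1); rw [mul_inv_rev, cfj_mul])

noncomputable instance instActAX : MulAction (AA N) (XX N) where
  smul l θ := ⟨Ch.fn l * θ.1, irr_mul_lin θ.2 (Ch.lin l)⟩
  one_smul θ := XX.ext (by
    change Ch.fn (1 : Ch N) * θ.1 = θ.1
    rw [Ch.fn_one, triv_mul, Res_eq_self (mem_Irr.1 θ.2).2])
  mul_smul l m θ := XX.ext (by
    change Ch.fn (W := N) (l * m) * θ.1 = Ch.fn l * (Ch.fn m * θ.1)
    rw [Ch.fn_mul, mul_assoc])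

variable {N}

theorem g_val (g : G) (θ : XX N) : (g • θ).1 = cfj g⁻¹ θ.1 := rfl
theorem l_val (l : AA N) (θ : XX N) : (l • θ).1 = Ch.fn l * θ.1 := rfl

theorem fn_smul (g : G) (l : AA N) : Ch.fn (W := N) (g • l) = cfj g⁻¹ (Ch.fn l) := by
  funext x
  by_cases hx : x ∈ N
  · rw [cfj_apply, Ch.fn_of_mem _ hx, Ch.fn_of_mem _ (hN.conj_mem x hx g⁻¹)]; rfl
  · rw [cfj_apply, Ch.fn_of_not_mem _ hx, Ch.fn_of_not_mem]
    exact fun h => hx ((conj_mem_iff_of_norm (mem_nrm N _)).1 h)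

theorem stab_eq (θ : XX N) : stabilizer G θ = H20.inertia ⊤ θ.1 := by
  ext g
  rw [mem_stabilizer_iff, ← inv_mem_iff (x := g), mem_inertia, XX.ext_iff, g_val]
  simp

/-- the determinant -/
noncomputable def dt (N : Subgroup G) (φ : G → ℂ) : AA N := H6.detHom (rs N φ)

theorem dt_mul (l : AA N) {φ : G → ℂ} (h : φ ∈ Chr N) :
    dt N (Ch.fn l * φ) = l ^ deg φ * dt N φ := by
  have : rs N (Ch.fn l * φ) = (fun x => (Ch.hom l x : ℂ)) * rs N φ := by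
    funext x; simp [rs, Ch.fn_of_mem _ x.2]
  rw [dt, this]
  exact H6.detHom_hom_mul _ (mem_Chr.1 h).1 (d := deg φ) (chr_deg (χ := φ) h)

theorem prod_dt (hG : N ≤ commutator G) {χ θ : G → ℂ} (hχ : χ ∈ Irr ⊤) (hθ : θ ∈ Irr N) {e : ℕ}
    (h : dot N χ θ = e) (he : e ≠ 0) : (∏ φ ∈ orb ⊤ θ, dt N φ) ^ e = 1 := by
  have h1 := clifford normalIn_top hχ hθ (by rw [h]; exact_mod_cast he)
  have h2 : rs N χ = (e : ℂ) • ∑ φ ∈ orb ⊤ θ, rs N φ := by
    rw [← rs_Res, h1, h]; funext x; simp [rs, Finset.sum_apply]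
  have h3 : ∀ φ ∈ orb ⊤ θ, IsCharacter N (rs N φ) := fun φ hφ =>
    (mem_Chr.1 (irr_chr (orb_irr hθ (normalIn_top (H := N)).norm hφ))).1
  have h4 := congrArg H6.detHom h2
  rw [H6.detHom_natCast_smul (H6.char_sum _ h3), H6.detHom_sum _ h3,
    H6.detHom_res (mem_Chr_top.1 (irr_chr hχ))] at h4
  refine h4.symm.trans (MonoidHom.ext fun x => ?_)
  exact Abelianization.commutator_subset_ker (H6.detHom χ) (hG x.2)

/-- the system attached to `N ≤ G'` -/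
noncomputable def sys (hG : N ≤ commutator G) : Sys G (AA N) (XX N) where
  d θ := deg θ.1
  o := ⟨triv N, (lin_triv N).irr⟩
  R a θ := ∃ χ ∈ Irr ⊤, dot N χ θ.1 ≠ 0 ∧ deg χ = a
  cmp g l θ := XX.ext (by rw [g_val, l_val, l_val, g_val, cfj_mul_fun, fn_smul])
  d_g g θ := deg_cfj _ _
  d_l l θ := deg_congr (by simp [l_val])
  o_g g := XX.ext (cfj_triv (mem_nrm N _))
  d_o := deg_triv N
  lin θ h := by
    obtain ⟨i, hi⟩ := exists_ch_of_lin (lin_of_deg (irr_chr θ.2) h)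
    exact ⟨i, XX.ext (by rw [l_val, hi, mul_triv, Res_eq_self (mem_Irr.1 θ.2).2])⟩
  free l θ h := by
    have := dt_mul l (irr_chr θ.2)
    rw [← l_val, h] at this
    exact (right_eq_mul.1 this)
  det l θ a b hl := by
    rintro ⟨χ, a1, a2, rfl⟩ ⟨ψ, b1, b2, rfl⟩
    obtain ⟨e, e0, he⟩ := clifford_nat le_top (irr_chr a1) (irr_chr θ.2) a2
    obtain ⟨f, f0, hf⟩ := clifford_nat le_top (irr_chr b1) (irr_chr (l • θ).2) b2
    have c1 := prod_dt hG a1 θ.2 he e0.ne'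
    have c2 := prod_dt hG b1 (l • θ).2 hf f0.ne'
    have hc : ∀ g : G, cfj g (Ch.fn (W := N) l) = Ch.fn l := fun g => by
      rw [← inv_inv g, ← fn_smul, hl]
    have ho : orb ⊤ (l • θ).1 = (orb ⊤ θ.1).image (Ch.fn l * ·) := by
      ext φ
      simp only [Finset.mem_image, mem_orb, l_val, cfj_mul_fun, hc]
      exact ⟨fun ⟨g, h1, h2⟩ => ⟨_, ⟨g, h1, rfl⟩, h2⟩, fun ⟨_, ⟨g, h1, rfl⟩, h2⟩ => ⟨g, h1, h2⟩⟩
    have hi : ∀ φ ∈ orb ⊤ θ.1, φ ∈ Irr N := fun φ => orb_irr θ.2 (normalIn_top (H := N)).norm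
    have inj : Set.InjOn (Ch.fn (W := N) l * ·) (orb ⊤ θ.1) := fun φ h1 φ' h2 e => by
      have : l • (⟨φ, hi φ h1⟩ : XX N) = l • (⟨φ', hi φ' h2⟩ : XX N) :=
        XX.ext e
      exact congrArg XX.val (smul_left_cancel l this)
    have hcard : (orb ⊤ (l • θ).1).card = (orb ⊤ θ.1).card := by
      rw [ho, Finset.card_image_of_injOn inj]
    rw [ho, Finset.prod_image inj, Finset.prod_congr rfl fun φ h =>
      (dt_mul l (irr_chr (hi φ h))).trans (by rw [deg_congr (orb_one h)]),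
      Finset.prod_mul_distrib, Finset.prod_const, mul_pow] at c2
    have c3 := congrArg (· ^ e) c2
    simp only [mul_pow, one_pow] at c3
    rw [← pow_mul (∏ x ∈ _, _) f, mul_comm f, pow_mul, c1, one_pow, mul_one] at c3
    simp only [← pow_mul] at c3
    have d1 := clifford_deg normalIn_top a1 θ.2 he e0.ne'
    have d2 := clifford_deg normalIn_top b1 (l • θ).2 hf f0.ne'
    rw [← card_orb, hcard, show deg (l • θ).1 = deg θ.1 from deg_congr (by simp [l_val])] at d2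
    refine orderOf_dvd_iff_pow_eq_one.1 ((orderOf_dvd_of_pow_eq_one c3).trans ?_)
    rw [d1, d2]
    exact ⟨(H20.inertia ⊤ θ.1).relIndex ⊤ * deg θ.1, by ring⟩
  ex θ := by
    obtain ⟨χ, h1, h2⟩ := irr_exists_above θ.2 le_top
    exact ⟨_, χ, h1, h2, rfl⟩
  dvd a θ := by
    rintro ⟨χ, a1, a2, rfl⟩
    have := clifford_dvd normalIn_top a1 θ.2 a2
    rwa [relIndex_top_right, ← stab_eq] at this
  one := ⟨triv ⊤, (lin_triv ⊤).irr, by
    rw [dot_triv_of_le_cker (by simp)]; simp, deg_triv ⊤⟩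

omit hN in
theorem mem_rel {a : ℕ} : a ∈ relCharDegrees N ↔ ∃ χ ∈ Irr ⊤, ¬ N ≤ cker χ ∧ deg χ = a := by
  constructor
  · rintro ⟨χ, ⟨x, h1, h2⟩, rfl⟩
    exact ⟨χ.1, mem_Irr_top.2 χ.2, fun h => h2 (cker_apply (h h1)), rfl⟩
  · rintro ⟨χ, h1, h2, rfl⟩
    rw [chr_le_cker (irr_chr h1) le_top] at h2
    push Not at h2
    exact ⟨⟨χ, mem_Irr_top.1 h1⟩, h2, rfl⟩

theorem V_iff (hG : N ≤ commutator G) {a : ℕ} : (sys hG).V a ↔ a ∈ relCharDegrees N := by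
  rw [mem_rel]
  constructor
  · rintro ⟨θ, h1, χ, h2, h3, rfl⟩
    refine ⟨χ, h2, fun h => h1 (XX.ext ?_), rfl⟩
    exact (irr_le_cker_iff θ.2).1 (le_cker_of_below (irr_chr h2) le_top θ.2 h3 le_rfl h)
  · rintro ⟨χ, h1, h2, rfl⟩
    obtain ⟨θ, h3, h4⟩ := irr_exists_below h1 (le_top (a := N))
    refine ⟨⟨θ, h3⟩, fun e => ?_, χ, h1, h4, rfl⟩
    have : θ = triv N := congrArg XX.val e
    exact h4 (this ▸ irr_dot_triv_normal h1 normalIn_top h2)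

omit hN in
theorem rel_pos {a : ℕ} (h : a ∈ relCharDegrees N) : 0 < a := by
  obtain ⟨χ, h1, -, rfl⟩ := mem_rel.1 h
  exact irr_deg_pos h1

/-- the graph -/
abbrev Gr (N : Subgroup G) := commonDivisorGraph.induce (relCharDegrees N)

/-- connectedness of two degrees -/
def Cc (N : Subgroup G) (a b : ℕ) : Prop :=
  ∃ (ha : a ∈ relCharDegrees N) (hb : b ∈ relCharDegrees N), (Gr N).Reachable ⟨a, ha⟩ ⟨b, hb⟩

omit hN in
theorem adj_of {a b : relCharDegrees N} (h1 : a ≠ b) (h : ¬ a.1.Coprime b.1) : (Gr N).Adj a b :=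
  ⟨fun e => h1 (Subtype.ext e), by
    have := Nat.gcd_pos_of_pos_left b.1 (rel_pos a.2)
    unfold Nat.Coprime at h
    change 1 < Nat.gcd a.1 b.1
    omega⟩

omit hN in
theorem cc_of {a b : ℕ} (ha : a ∈ relCharDegrees N) (hb : b ∈ relCharDegrees N)
    (h : ¬ a.Coprime b) : Cc N a b := ⟨ha, hb, by
  by_cases e : (⟨a, ha⟩ : relCharDegrees N) = ⟨b, hb⟩
  · rw [e]
  · exact (adj_of e h).reachable⟩

theorem cn (hG : N ≤ commutator G) : (sys hG).Cn (Cc N) where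
  symm := fun ⟨a, b, h⟩ => ⟨b, a, h.symm⟩
  trans := fun ⟨a, _, h⟩ ⟨_, c, h'⟩ => ⟨a, c, h.trans h'⟩
  edge ha hb h := cc_of ((V_iff hG).1 ha) ((V_iff hG).1 hb) h

omit hN in
theorem card_AA : Nat.card (AA N) = ⁅N, N⁆.relIndex N := by
  rw [show Nat.card (AA N) = (commutator N).index from H5.card_unitsHom N, relIndex,
    ← map_subtype_commutator, subgroupOf, comap_map_eq_self_of_injective N.subtype_injective]

theorem pr_iff {p : ℕ} : Pr (AA N) p ↔ p.Prime ∧ p ∣ ⁅N, N⁆.relIndex N := by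
  rw [← card_AA]
  refine ⟨fun ⟨hp, l, h1, h2⟩ => ⟨hp, ?_⟩, fun ⟨hp, h⟩ => ⟨hp, ?_⟩⟩
  · have := Fact.mk hp
    exact orderOf_eq_prime h2 h1 ▸ orderOf_dvd_natCard l
  · have := Fact.mk hp
    obtain ⟨l, hl⟩ := exists_prime_orderOf_dvd_card' p h
    exact ⟨l, fun e => hp.ne_one (by rw [← hl, e, orderOf_one]), hl ▸ pow_orderOf_eq_one l⟩

theorem sep (hG : N ≤ commutator G) {a b p q : ℕ} (hp : p.Prime) (hq : q.Prime)
    (h1 : p ∣ ⁅N, N⁆.relIndex N) (h2 : q ∣ ⁅N, N⁆.relIndex N) (ha : a ∈ relCharDegrees N)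
    (hb : b ∈ relCharDegrees N) (h3 : ¬ p ∣ a) (h4 : ¬ q ∣ b) : Cc N a b :=
  Sys.sep (cn hG) (pr_iff.2 ⟨hp, h1⟩) (pr_iff.2 ⟨hq, h2⟩) ((V_iff hG).2 ha) ((V_iff hG).2 hb) h3 h4

omit hN in
theorem exists_prime (h : ⁅N, N⁆ < N) : ∃ p, p.Prime ∧ p ∣ ⁅N, N⁆.relIndex N :=
  Nat.exists_prime_and_dvd fun e => h.not_ge (relIndex_eq_one.1 e)

theorem shape' (hG : N ≤ commutator G) {a b p : ℕ} (hp : p.Prime) (h1 : p ∣ ⁅N, N⁆.relIndex N)
    (ha : a ∈ relCharDegrees N) (hb : b ∈ relCharDegrees N) (h : ¬ Cc N a b) (h3 : ¬ p ∣ a) :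
    a.Coprime (⁅N, N⁆.relIndex N) ∧ ∀ r : ℕ, r.Prime → r ∣ ⁅N, N⁆.relIndex N → r ∣ b := by
  have k : ∀ r : ℕ, r.Prime → r ∣ ⁅N, N⁆.relIndex N → r ∣ b := fun r hr h2 =>
    by_contra fun e => h (sep hG hp hr h1 h2 ha hb h3 e)
  refine ⟨Nat.coprime_of_dvd fun r hr h4 h5 => h (cc_of ha hb ?_), k⟩
  exact Sys.ncop' h4 (k r hr h5) hr.ne_one

theorem shape (hl : ⁅N, N⁆ < N) (hG : N ≤ commutator G) {a b : ℕ}
    (ha : a ∈ relCharDegrees N) (hb : b ∈ relCharDegrees N) (h : ¬ Cc N a b) :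
    (a.Coprime (⁅N, N⁆.relIndex N) ∧ ∀ r : ℕ, r.Prime → r ∣ ⁅N, N⁆.relIndex N → r ∣ b) ∨
    (b.Coprime (⁅N, N⁆.relIndex N) ∧ ∀ r : ℕ, r.Prime → r ∣ ⁅N, N⁆.relIndex N → r ∣ a) := by
  obtain ⟨p, hp, h1⟩ := exists_prime hl
  by_cases h2 : p ∣ a
  · exact .inr (shape' hG hp h1 hb ha (fun e => h ((cn hG).symm e))
      fun e => h (cc_of ha hb (Sys.ncop' h2 e hp.ne_one)))
  · exact .inl (shape' hG hp h1 ha hb h h2)

theorem three (hl : ⁅N, N⁆ < N) (hG : N ≤ commutator G) {a b c : ℕ} (ha : a ∈ relCharDegrees N)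
    (hb : b ∈ relCharDegrees N) (hc : c ∈ relCharDegrees N) : Cc N a b ∨ Cc N b c ∨ Cc N a c := by
  obtain ⟨p, hp, h1⟩ := exists_prime hl
  have k : ∀ {u v}, u ∈ relCharDegrees N → v ∈ relCharDegrees N → (p ∣ u ↔ p ∣ v) → Cc N u v :=
    fun {u v} hu hv e => by
      by_cases h : p ∣ u
      · exact cc_of hu hv (Sys.ncop' h (e.1 h) hp.ne_one)
      · exact sep hG hp hp h1 h1 hu hv h (mt e.2 h)
  by_cases e : p ∣ a ↔ p ∣ b
  · exact .inl (k ha hb e)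
  by_cases e' : p ∣ b ↔ p ∣ c
  · exact .inr (.inl (k hb hc e'))
  exact .inr (.inr (k ha hc (by tauto)))

theorem card_le_two {Y : Type*} (h : ∀ a b c : Y, a = b ∨ b = c ∨ a = c) : Nat.card Y ≤ 2 := by
  by_contra! hc
  have : Finite Y := Nat.finite_of_card_ne_zero (by omega)
  have := Fintype.ofFinite Y
  rw [Nat.card_eq_fintype_card] at hc
  obtain ⟨a, b, c, h1, h2, h3⟩ := Fintype.two_lt_card_iff.1 hc
  have := h a b c
  tauto

theorem comp_le_two {Y : Type*} {Γ : SimpleGraph Y}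
    (h : ∀ a b c : Y, Γ.Reachable a b ∨ Γ.Reachable b c ∨ Γ.Reachable a c) :
    Nat.card Γ.ConnectedComponent ≤ 2 := card_le_two fun a b c => by
  induction a using SimpleGraph.ConnectedComponent.ind
  induction b using SimpleGraph.ConnectedComponent.ind
  induction c using SimpleGraph.ConnectedComponent.ind
  simpa only [SimpleGraph.ConnectedComponent.eq] using h _ _ _

omit hN in
theorem cc_mono {M : Subgroup G} (h : M ≤ N) {a b : ℕ} (hc : Cc M a b) : Cc N a b := by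
  have k : relCharDegrees M ≤ relCharDegrees N := fun a ⟨χ, ⟨x, h1, h2⟩, h3⟩ =>
    ⟨χ, ⟨x, h h1, h2⟩, h3⟩
  obtain ⟨ha, hb, hr⟩ := hc
  exact ⟨k ha, k hb, hr.map (commonDivisorGraph.induceHomOfLE k).toHom⟩

omit hN in
theorem diam (n : ℕ) : ∀ (N : Subgroup G) [N.Normal], H6.dser n N = ⊥ → N ≤ commutator G →
    ∀ {a b c : ℕ}, a ∈ relCharDegrees N → b ∈ relCharDegrees N → c ∈ relCharDegrees N →
    ¬ Cc N a c → ¬ Cc N b c → ∃ d ∈ relCharDegrees N, ¬ a.Coprime d ∧ ¬ d.Coprime b := by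
  induction n with
  | zero =>
    intro N _ h _ a b c ha
    obtain ⟨χ, -, h2, -⟩ := mem_rel.1 ha
    exact (h2 (by rw [← H6.dser_zero N, h]; exact bot_le)).elim
  | succ n ih =>
  intro N _ h hG a b c ha hb hc ac bc
  have hle : ⁅N, N⁆ ≤ N := commutator_le_left _ _
  have hl : ⁅N, N⁆ < N := lt_of_le_of_ne hle fun e => by
    have : ∀ k, H6.dser k N = N := fun k => by
      induction k with
      | zero => rfl
      | succ k ih => rw [H6.dser_succ, ih, e]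
    obtain ⟨χ, -, h2, -⟩ := mem_rel.1 ha
    exact h2 (by rw [← this (n + 1), h]; exact bot_le)
  obtain ⟨p, hp, h1⟩ := exists_prime hl
  have nd : ∀ {u : ℕ}, u.Coprime (⁅N, N⁆.relIndex N) → ∀ r, Pr (AA N) r → ¬ r ∣ u :=
    fun hu r hr e => Sys.ncop' e (pr_iff.1 hr).2 hr.1.ne_one hu
  rcases shape hl hG ha hc ac with ⟨a1, a2⟩ | ⟨a1, a2⟩ <;>
    rcases shape hl hG hb hc bc with ⟨b1, b2⟩ | ⟨b1, b2⟩
  · obtain ⟨x, x1, x2⟩ := (V_iff hG).2 ha
    obtain ⟨y, y1, y2⟩ := (V_iff hG).2 hb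
    by_cases hx : (sys hG).d x = 1
    · obtain ⟨d, d1, d2⟩ := Sys.lin_case x1 y1 hx x2 y2 (nd a1) (nd b1)
      exact ⟨d, (V_iff hG).1 d1, d2⟩
    by_cases hy : (sys hG).d y = 1
    · obtain ⟨d, d1, d2, d3⟩ := Sys.lin_case y1 x1 hy y2 x2 (nd b1) (nd a1)
      exact ⟨d, (V_iff hG).1 d1, fun e => d3 e.symm, fun e => d2 e.symm⟩
    have up : ∀ {u : ℕ} {z : XX N}, (sys hG).R u z → (sys hG).d z ≠ 1 →
        u ∈ relCharDegrees ⁅N, N⁆ := fun {u z} ⟨χ, c1, c2, c3⟩ hz => mem_rel.2 ⟨χ, c1, fun e =>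
      hz ((H6.der_le_cker z.2).1 (le_cker_of_below (irr_chr c1) le_top z.2 c2 hle e)), c3⟩
    have hnp : ¬ ⁅N, N⁆ ≤ ⁅⁅N, N⁆, ⁅N, N⁆⁆ := fun e => by
      have : ∀ k, H6.dser k ⁅N, N⁆ = ⁅N, N⁆ := fun k => by
        induction k with
        | zero => rfl
        | succ k ih => rw [H6.dser_succ, ih]; exact le_antisymm (commutator_le_left _ _) e
      rw [H6.dser_succ', this] at h
      exact hx ((H6.der_le_cker x.2).1 (h ▸ bot_le))
    obtain ⟨η, e1, e2, e3⟩ := H6.exists_nonlin (der_normal N).der hnp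
    obtain ⟨q, hq, q1⟩ := Nat.exists_prime_and_dvd e3
    have q2 := q1.trans (H6.deg_dvd_of_ab (der_normal N) e1 e2)
    obtain ⟨c', hc'⟩ := (sys hG).ex ⟨η, e1⟩
    have c1 := up hc' e3
    have cc : Cc N c' c := cc_of (cc_mono hle (cc_of c1 c1 (Sys.ncop' (Sys.d_dvd hc')
      (Sys.d_dvd hc') e3))).1 hc (Sys.ncop' (q1.trans (Sys.d_dvd hc')) (a2 q hq q2) hq.ne_one)
    obtain ⟨d, ⟨χ, ⟨z, z1, z2⟩, z3⟩, d2⟩ := ih ⁅N, N⁆ (by rwa [← H6.dser_succ']) (hle.trans hG)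
      (up x2 hx) (up y2 hy) c1 (fun e => ac ((cn hG).trans (cc_mono hle e) cc))
      fun e => bc ((cn hG).trans (cc_mono hle e) cc)
    exact ⟨d, ⟨χ, ⟨z, hle z1, z2⟩, z3⟩, d2⟩
  · exact (Sys.ncop' (a2 p hp h1) h1 hp.ne_one b1).elim
  · exact (Sys.ncop' (b2 p hp h1) h1 hp.ne_one a1).elim
  · exact ⟨a, ha, Sys.ncop' (a2 p hp h1) (a2 p hp h1) hp.ne_one,
      Sys.ncop' (a2 p hp h1) (b2 p hp h1) hp.ne_one⟩

end H5.RD
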