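import Cfsg.Agent.H5.CS2

/-!
# `PSL₂(q)` is determined by its order and its element orders
-/

open Cfsg Subgroup MulAction
open scoped MatrixGroups

namespace H5
open H19 H17.GS

variable {G : Type*} [Group G] [Finite G] {B H K : Subgroup G} {a b c g s w x y z : G}
  {d m n p q r : ℕ} {π : Set ℕ}

theorem ncard_class (x : G) : (classSupp {x}).ncard = C[x].index := by
  rw [ti_ncard (L := C[x]) (fun g hg y hy => by rw [hy]; exact mul_inv_eq_iff_eq_mul.2 (mem_cent1.1 hg))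
    fun g y hy e => by rw [hy] at e; exact mem_cent1.2 (mul_inv_eq_iff_eq_mul.1 e)]
  simp

theorem dvd_ncard_of_conj {A : Set G} (hA : ∀ x ∈ A, ∀ g, g * x * g⁻¹ ∈ A)
    (h : ∀ x ∈ A, d ∣ C[x].index) : d ∣ A.ncard := by
  induction' e : A.ncard using Nat.strong_induction_on with k i generalizing A
  rcases A.eq_empty_or_nonempty with rfl | ⟨x, hx⟩
  · simp [← e]
  have l : classSupp {x} ⊆ A := by rintro _ ⟨y, rfl, g, rfl⟩; exact hA _ hx g
  have c := Set.ncard_sdiff_add_ncard_of_subset l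
  have p := Nat.pos_of_ne_zero (C[x].index_ne_zero_of_finite)
  rw [ncard_class] at c
  rw [← e, ← c]
  refine dvd_add (i _ (by omega) (A := A \ classSupp {x}) (fun y hy g => ⟨hA y hy.1 g,
    fun ⟨_, u, a, v⟩ => hy.2 ⟨_, u, g⁻¹ * a, ?_⟩⟩) (fun y hy => h y hy.1) rfl) (h x hx)
  rw [mul_inv_rev, inv_inv, mul_assoc g⁻¹, mul_assoc g⁻¹, ← mul_assoc _ a⁻¹, ← v]; group

theorem pi_cent_of (h : ∀ r s, r.Prime → s.Prime → r ∈ π → s ∉ π → ¬ Ord G (r * s)) (hr : r.Prime)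
    (r1 : r ∈ π) (d : r ∣ orderOf x) : PiG π C[x] := fun s hs e => by_contra fun n => by
  obtain ⟨y, y1, y2⟩ := exists_orderOf_eq_prime hs e
  obtain ⟨z, z1, z2⟩ := exists_orderOf_eq_prime (H := zpowers x) hr (by rwa [Nat.card_zpowers])
  exact h r s hr hs r1 n (ord_mul z2 y2 (mem_cent1.1 (cent1_le_cent1_of_mem_zpowers z1 y1)).symm
    ((Nat.coprime_primes hr hs).2 fun e => n (e ▸ r1)))

theorem two_mul_le_of_lt (h : H < K) : 2 * #H ≤ #K := by
  obtain ⟨k, e⟩ := card_dvd h.le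
  have := card_lt h
  have : 1 < k := by nlinarith
  nlinarith

theorem hc_of_spec {k : ℕ} (ev : 2 ∣ m) (hG : Nat.card G = 2 * m * k) (cop : (2 * m).Coprime k)
    (hk : 2 * m ∣ k * (m - 1) + 1) (o : Ord G m)
    (h : ∀ r s, r.Prime → s.Prime → r ∈ primes m → s ∉ primes m → ¬ Ord G (r * s)) : HC G m := by
  have m0 := o.pos
  have dv : ∀ {x : G}, x ≠ 1 → PiE (primes m) x → #C[x] ∣ 2 * m := fun {x} x1 hx =>
    let ⟨r, hr, e⟩ := exists_prime_dvd_orderOf x1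
    (pi_cent_of h hr (hx r hr e) e).dvd_of_dvd_mul (.of_coprime_pi cop.coprime_mul_left.symm)
      (hG ▸ card_subgroup_dvd_card _)
  have p2 : PiN (primes m) (2 * m) := ((piN_prime (π := primes m) Nat.prime_two).2 ⟨Nat.prime_two, ev⟩).mul piN_primes
  suffices k : ∀ x : G, x ≠ 1 → PiE (primes m) x → m ≤ #C[x] from ⟨ev, ⟨_, hG, cop⟩, fun x x1 hx => by
    obtain ⟨j, e⟩ := dv x1 hx
    have := k x x1 hx
    have : j ≠ 0 := by rintro rfl; omega
    have : j ≤ 2 := by nlinarith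
    obtain rfl | rfl : j = 1 ∨ j = 2 := by omega
    all_goals omega⟩
  obtain ⟨y, y1⟩ := o
  have cB : #(zpowers y) = m := by rw [Nat.card_zpowers, y1]
  have pB : ∀ {b}, b ∈ zpowers y → PiE (primes m) b := PiN.elt (cB ▸ piN_primes)
  by_cases ti : ∀ g, ∀ b ∈ nt (zpowers y), g * b * g⁻¹ ∈ nt (zpowers y) → g ∈ N(zpowers y)
  · let A := {x : G | x ≠ 1 ∧ PiE (primes m) x}
    let A' := {x : G | ¬ PiE (primes m) x}
    obtain ⟨i, a1⟩ : k ∣ A.ncard := dvd_ncard_of_conj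
      (fun x hx g => ⟨by simpa using hx.1, hx.2.e_conj g⟩) fun x hx => by
        obtain ⟨j, e⟩ := dv hx.1 hx.2
        exact ⟨j, Nat.eq_of_mul_eq_mul_left (card_pos C[x]) (by rw [card_mul_index, hG, e]; ring)⟩
    have a2 : 2 * m ∣ A'.ncard := dvd_ncard_of_conj
      (fun x hx g e => hx (by simpa [mul_assoc] using e.e_conj g⁻¹)) fun x hx => by
        simp only [A', Set.mem_setOf, PiN, not_forall] at hx
        obtain ⟨r, hr, e, n⟩ := hx
        refine (p2.coprime (pi_cent_of (π := (primes m)ᶜ) (fun r s a b c d => mul_comm r s ▸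
          h s r b a (not_not.1 d) c) hr n e)).dvd_of_dvd_mul_left ?_
        rw [card_mul_index, hG]; exact dvd_mul_right _ _
    have a3 : A.ncard + 1 + A'.ncard = 2 * m * k := by
      rw [← Set.ncard_insert_of_notMem (a := 1) (by simp [A]), ← hG, ← Set.ncard_add_ncard_compl (insert 1 A)]
      congr 2
      ext x
      by_cases e : x = 1 <;> simp [A, A', e, PiN.e_one]
    have a4 : i = m - 1 := by
      have k0 : 0 < k := Nat.pos_of_ne_zero (by rintro rfl; omega)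
      have : k * i + 1 ≡ k * (m - 1) + 1 [MOD 2 * m] := ((Nat.modEq_zero_iff_dvd.2
        ((Nat.dvd_add_left a2).1 (a1 ▸ a3 ▸ dvd_mul_right _ _))).trans (Nat.modEq_zero_iff_dvd.2 hk).symm)
      exact Nat.ModEq.eq_of_lt_of_lt ((this.add_right_cancel' 1).cancel_left_of_coprime cop)
        (by nlinarith) (by omega)
    obtain ⟨t, t1, t2⟩ := exists_orderOf_eq_prime Nat.prime_two (cB ▸ ev)
    have l : #N(zpowers y) ≤ 2 * m := (card_le fun g hg => mem_cent1.2 (mul_inv_eq_iff_eq_mul.1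
      (cyc_inv_eq (conj_mem_of_norm hg t1) t1 ((orderOf_conj' _ _).trans t2) t2))).trans
      (Nat.le_of_dvd (by omega) (dv (ne_one_of_ord2 t2) (pB t1)))
    have c := N(zpowers y).card_mul_index
    have e : classSupp (nt (zpowers y)) = A := Set.eq_of_subset_of_ncard_le (by
        rintro _ ⟨b, hb, g, rfl⟩
        exact ⟨by simpa using hb.2, (pB hb.1).e_conj g⟩) (by
      rw [ti_ncard (fun g hg x hx => H20.conj_mem_nt hg hx) ti, H20.ncard_nt, cB, a1, a4, mul_comm]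
      exact Nat.mul_le_mul_left _ (by nlinarith))
    intro x x1 hx
    obtain ⟨b, hb, g, rfl⟩ := e.ge ⟨x1, hx⟩
    rw [← cj_cent1, card_cj, ← cB]
    exact card_le (le_cent1_iff.2 (comm_iff_le_cent.1 (comm_zpowers y) hb.1))
  push Not at ti
  obtain ⟨g, b, b1, b2, g1⟩ := ti
  set B := zpowers y
  have ab : Ab B := comm_zpowers y
  have k0 : ∀ z ∈ B ⊓ cj g⁻¹ B, B ⊔ cj g⁻¹ B ≤ C[z] := fun z hz => sup_le
    (le_cent1_iff.2 (comm_iff_le_cent.1 ab hz.1)) (le_cent1_iff.2 (comm_iff_le_cent.1 (comm_cj.2 ab) hz.2))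
  have lt : B < B ⊔ cj g⁻¹ B := left_lt_sup.2 fun e => g1 (inv_mem_iff.1 (mem_norm_of_cj_le e))
  have k1 : ∀ z ∈ B ⊓ cj g⁻¹ B, z ≠ 1 → C[z] = B ⊔ cj g⁻¹ B ∧ #C[z] = 2 * m := fun z hz z1 => by
    have := two_mul_le_of_lt lt
    have := Nat.le_of_dvd (by omega) (dv z1 (pB hz.1))
    have := card_le (k0 z hz)
    exact ⟨(eq_of_le_of_card_eq (k0 z hz) (by omega)).symm, by omega⟩
  obtain ⟨e1, e2⟩ := k1 b ⟨b1.1, mem_cj_inv.2 b2.1⟩ b1.2
  rw [e1] at e2
  set H := B ⊔ cj g⁻¹ B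
  have hH : Hall (primes m) H ⊤ := ⟨le_top, by rwa [PiG, e2], by
    have := H.card_mul_index
    rw [e2, hG, Nat.mul_right_inj (by omega)] at this
    rw [relIndex_top_right, this]
    exact .of_coprime_pi cop.coprime_mul_left.symm⟩
  have k2 : ∀ x ∈ H, m ≤ #C[x] := fun x hx => by
    by_cases e : x ∈ B ⊓ cj g⁻¹ B
    · exact cB ▸ card_le (le_sup_left.trans (k0 x e))
    have := (hyp_of_card (le_sup_right : cj g⁻¹ B ≤ H) (by rw [e2, card_cj, cB, mul_comm])).card_inf le_sup_left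
    have := two_mul_le_of_lt (H := B ⊓ cj g⁻¹ B) (K := C[x]) (lt_of_le_of_ne
      (fun z hz => mem_cent1_symm.1 (k0 z hz hx)) fun k => e (k.ge (mem_cent1_self x)))
    omega
  intro x x1 hx
  obtain ⟨c, e⟩ : ∃ c, x ∈ cj c H := by
    by_cases x2 : PiE {2} x
    · obtain ⟨S, hS⟩ := exists_syl 2 H
      obtain ⟨c, -, e⟩ := (hH.sub_syl ⟨Nat.prime_two, ev⟩ hS).sle_cj (le_top (a := zpowers x)) (piG_zpowers.2 x2)
      exact ⟨c, cj_mono c hS.le (e (mem_zpowers x))⟩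
    simp only [PiN, not_forall] at x2
    obtain ⟨r, hr, d, n⟩ := x2
    obtain ⟨z, z1, z2⟩ := exists_orderOf_eq_prime (H := zpowers x) hr (by rwa [Nat.card_zpowers])
    obtain ⟨S, hS⟩ := exists_syl r H
    obtain ⟨c, -, e⟩ := (hH.sub_syl (hx r hr d) hS).sle_cj (le_top (a := zpowers z))
      (piG_zpowers.2 (by rw [PiE, z2]; exact (piN_prime hr).2 rfl))
    obtain ⟨w, hw, rfl⟩ := mem_cj'.1 (e (mem_zpowers z))
    have o : PiE {2}ᶜ w := (hS.pi.elt hw).sing n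
    refine ⟨c, ?_⟩
    rw [← (k1 w ⟨idx_odd le_sup_left (by rw [e2, cB]) (hS.le hw) o, idx_odd le_sup_right
      (by rw [e2, card_cj, cB]) (hS.le hw) o⟩ (by rintro rfl; simp [hr.ne_one.symm] at z2)).1, cj_cent1]
    exact cent1_le_cent1_of_mem_zpowers z1 (mem_cent1_self x)
  obtain ⟨w, hw, rfl⟩ := mem_cj'.1 e
  rw [← cj_cent1, card_cj]
  exact k2 w hw

theorem not_sol_of_spec {α β δ : ℕ} (c1 : α.Coprime β) (c2 : α.Coprime δ) (c3 : β.Coprime δ) (l1 : 1 < α)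
    (l2 : 1 < β) (l3 : 1 < δ) (hG : Nat.card G = δ * (α * β)) (k : ∀ n, Ord G n → n ∣ α ∨ n ∣ β ∨ n ∣ δ) :
    ¬ Group.IsSolvable G := fun hs => by
  obtain ⟨p, hp, d1⟩ := Nat.exists_prime_and_dvd l1.ne'
  obtain ⟨q, hq, d2⟩ := Nat.exists_prime_and_dvd l2.ne'
  obtain ⟨r, hr, d3⟩ := Nat.exists_prime_and_dvd l3.ne'
  have f : ∀ {r a b}, r.Prime → Nat.Coprime a b → r ∣ a → ¬ r ∣ b := fun hr c d =>
    (Nat.Prime.coprime_iff_not_dvd hr).1 (c.coprime_dvd_left d)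
  have c : #(⊤ : Subgroup G) = δ * (α * β) := by rw [card_top, hG]
  have L := fun {a b c : ℕ} (h : a * b ∣ c) => dvd_of_mul_right_dvd h
  have R := fun {a b c : ℕ} (h : a * b ∣ c) => dvd_of_mul_left_dvd h
  rcases three_sol (M := (⊤ : Subgroup G)) inferInstance hp hq hr
    (fun e => f hp c1 d1 (e ▸ d2)) (fun e => f hp c2 d1 (e ▸ d3)) (fun e => f hq c3 d2 (e ▸ d3))
    (c ▸ (d1.mul_right _).mul_left _) (c ▸ (d2.mul_left _).mul_left _) (c ▸ d3.mul_right _) with e | e | e <;>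
    rcases k _ e with e | e | e
  exacts [f hq c1.symm d2 (R e), f hp c1 d1 (L e), f hp c2 d1 (L e), f hr c2.symm d3 (R e), f hp c1 d1 (L e),
    f hp c2 d1 (L e), f hq c1.symm d2 (L e), f hr c3.symm d3 (R e), f hq c3 d2 (L e)]

theorem spec_even {e : ℕ} (he : 2 ≤ e) (hG : Nat.card G = 2 ^ e * ((2 ^ e + 1) * (2 ^ e - 1)))
    (h : ∀ n, Ord G n → n ∣ 2 ∨ n ∣ 2 ^ e - 1 ∨ n ∣ 2 ^ e + 1) : L2 (2 ^ e) G := by
  have e1 : 1 ≤ e := by omega
  obtain ⟨c1, c2, c3⟩ := cop_even e1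
  have l := Nat.pow_le_pow_right two_pos he
  refine CIT.l2_even (cit_iff.2 fun r hr r2 o => ?_) (not_sol_of_spec c1 c2 c3 (by omega) (by omega) (by omega) hG
    fun n o => ?_) e1 hG
  · rcases h _ o with k | k | k
    exacts [by have := Nat.le_of_dvd two_pos k; have := hr.two_le; omega,
      not_two_mul_dvd (odd_pow_sub e1) k, not_two_mul_dvd (odd_pow_add e1) k]
  · rcases h _ o with k | k | k
    exacts [.inr (.inr (k.trans (dvd_pow_self 2 (by omega)))), .inr (.inl k), .inl k]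

theorem QN.spec (h : QN q n m) (hG : Nat.card G = 2 * m * (q * n)) (o : Ord G m)
    (k : ∀ k, Ord G k → k ∣ q ∨ k ∣ n ∨ k ∣ m) : L2 q G := by
  have := h.eq
  have := h.le
  have f : ∀ {r a}, Nat.Coprime a (2 * m) → r ∈ primes m → ¬ r ∣ a := fun c d e =>
    d.1.ne_one (Nat.eq_one_of_dvd_coprimes c e (d.2.mul_left _))
  refine (hc_of_spec h.ev hG (h.c2.mul_left h.c3).symm ?_ o fun r s hr hs r1 s1 o => ?_).l2
    (not_sol_of_spec h.c1 h.c2 h.c3 (by omega) (by omega) (by omega) hG fun n o =>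
      (k n o).imp_right (.imp_right (·.mul_left _))) h.le h.eq hG
  · obtain ⟨j, rfl⟩ := h.ev
    obtain ⟨i, rfl⟩ : ∃ i, j = i + 1 := ⟨j - 1, by omega⟩
    rw [show 2 * (i + 1) - 1 = 2 * i + 1 by omega]
    rcases h.eq with ⟨rfl, rfl⟩ | ⟨a, b⟩
    · exact ⟨4 * i ^ 2 + 9 * i + 4, by ring⟩
    · rw [show q = 4 * i + 3 by omega, show n = 2 * i + 1 by omega]
      exact ⟨4 * i ^ 2 + 3 * i + 1, by ring⟩
  · rcases k _ o with e | e | e
    exacts [f h.c2 r1 (dvd_of_mul_right_dvd e), f h.c3 r1 (dvd_of_mul_right_dvd e),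
      s1 ⟨hs, dvd_of_mul_left_dvd e⟩]

theorem l2_of_spec {L : Type*} [Group L] [Finite L] (hL : L2 q L) (h4 : 4 ≤ q)
    (h : ∀ n, Ord G n ↔ Ord L n) (c : Nat.card G = Nat.card L) : L2 q G := by
  have ev : ∀ {e}, 2 ≤ e → L2 (2 ^ e) L → L2 (2 ^ e) G := fun he hL =>
    let ⟨a, b⟩ := hL.even (one_le_two.trans he)
    spec_even he (c.trans a) fun n o => (b n).1 ((h n).1 o)
  obtain ⟨p, f, hp, f0, e⟩ := hL.pp
  by_cases q2 : 2 ∣ q
  · obtain rfl := (Nat.prime_dvd_prime_iff_eq Nat.prime_two hp).1 (Nat.prime_two.dvd_of_dvd_pow (e ▸ q2))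
    subst e
    exact ev ((Nat.pow_le_pow_iff_right one_lt_two).1 h4) hL
  by_cases q5 : q = 5
  · subst q5
    exact l2_four.1 (ev le_rfl (l2_four.2 hL))
  obtain ⟨n, m, k⟩ := exists_QN q2 (by omega)
  obtain ⟨-, b⟩ := hL.odd hp e k.odd
  have := k.eq
  refine k.spec (c.trans (k.card hL)) ((h m).2 ((b m).2 (.inr ?_))) fun j o => ?_
  · rcases this with ⟨a, -⟩ | ⟨a, -⟩
    exacts [.inl (Dvd.intro 1 (by omega)), .inr (Dvd.intro 1 (by omega))]
  rcases (b j).1 ((h j).1 o) with d | d | d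
  · exact .inl (d.trans (e ▸ dvd_pow_self p f0.ne'))
  · rcases this with ⟨a, -⟩ | ⟨a, b⟩
    exacts [.inr (.inr (by rwa [show m = (q - 1) / 2 by omega])), .inr (.inl (by rwa [show n = (q - 1) / 2 by omega]))]
  · rcases this with ⟨a, b⟩ | ⟨a, -⟩
    exacts [.inr (.inl (by rwa [show n = (q + 1) / 2 by omega])), .inr (.inr (by rwa [show m = (q + 1) / 2 by omega]))]

end H5
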