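import Cfsg.Agent.H5.CS3
import Cfsg.Agent.H25.Ito4

/-!
# Groups with class sizes `1, m, mn`, `m` and `n` coprime
-/

open Cfsg Subgroup MulAction

namespace H5
open H19 H17.GS

variable {G : Type*} [Group G] [Finite G] {H K P R : Subgroup G} {a b c g u w x y z : G}
  {m n p q r : ℕ} {π : Set ℕ}

/-- all noncentral class sizes have the same nontrivial `p`-part: normal `p`-complement -/
theorem npc_of_same (hs : Group.IsSolvable G)
    (h : ∀ x ∉ center G, ∀ y ∉ center G, ∀ R ≤ C[x], PG p R → ∀ S, Syl p S C[y] → #R ≤ #S) :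
    Hall {p}ᶜ (Oc {p}ᶜ (⊤ : Subgroup G)) ⊤ := by
  set V := Oc {p}ᶜ (⊤ : Subgroup G)
  have n : ∀ A : Subgroup G, A ≤ N(V) := fun A => le_top.trans (Oc_norm _ _)
  suffices k : ∀ g : G, PiE {p}ᶜ g → g ∈ V from hall_of_syl le_top (Oc_pi _ _) fun r _ r1 _ =>
    let ⟨R, hR⟩ := exists_syl r (⊤ : Subgroup G)
    ⟨R, hR, fun g hg => k g ((hR.pi.elt hg).sing r1)⟩
  intro g gp
  by_cases g1 : g ∈ center G
  · exact le_Oc ⟨le_top, norms_of_cents fun y _ => mem_cent.2 fun z hz =>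
      (mem_center_iff.1 (zpowers_le.2 g1 hz) y).symm⟩ (piG_zpowers.2 gp) (mem_zpowers g)
  obtain ⟨S, hS⟩ := exists_syl p C[g]
  have F := cent_Fit_le (sol_quo (H := ⊤) inferInstance V)
  rw [Fit_eq_Oc (Oc_quo_Oc {p}ᶜ ⊤)] at F
  have U := Oc_pi {p} (quo V ⊤)
  have N := fun A : Subgroup G => (quo_mono V (le_top (a := A))).trans (Oc_norm {p} _)
  have := PxQ U (hS.pi.quo V) ((piG_zpowers.2 gp).quo V) (quo_cents (cent_zpowers g ▸ hS.le)) (N _) (N _)
    fun v hv => by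
      obtain ⟨u, u1, rfl⟩ := mem_im.1 ((quo_inf_cent' (n S) le_top ((Oc_pi _ _).coprime' hS.pi)
        (.inl hS.pi.sol)).le ⟨Oc_le _ _ hv.1, hv.2⟩)
      have e : qmk V u = qmk V ⟨constt {p} u, n ⊤ trivial⟩ := by
        have : qmk V ⟨constt {p}ᶜ u, n ⊤ trivial⟩ = 1 := by
          refine (U.elt (zpowers_le.2 hv.1 ?_)).e_eq_one ((constt_pi {p}ᶜ (u : G)).dvd
            ((orderOf_map_dvd _ _).trans (orderOf_mk _ _).dvd))
          obtain ⟨i, e⟩ := constt_mem_zpowers {p}ᶜ (u : G)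
          exact ⟨i, by dsimp only; rw [← map_zpow]; congr 1; exact Subtype.ext e⟩
        rw [← mul_one (qmk V ⟨constt {p} _, _⟩), ← this, ← map_mul]
        congr 1
        exact Subtype.ext (constt_mul_compl _ _).symm
      rw [e]
      refine im_cent_le (mem_im_of (cent_zpowers g ▸ ?_))
      by_cases c : constt {p} (u : G) ∈ center G
      · exact center_le_cent1 g c
      have l := constt_mem {p} u1.2
      have k := h _ c g g1 (S ⊔ zpowers (constt {p} (u : G))) (sup_le (le_cent1_iff.2 l)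
        (zpowers_le.2 (mem_cent1_self _))) (hS.pi.sup (piG_zpowers.2 (constt_pi _ _))
        (zpowers_le.2 (cent_le_norm _ l))) S hS
      exact hS.le ((eq_of_le_of_card_ge le_sup_left k).ge (mem_sup_right (mem_zpowers _)))
  exact quo_eq_bot_of_pi (n _) (piG_zpowers.2 gp) (by
    rw [compl_compl]; exact U.of_le ((le_inf (quo_mono V le_top) this).trans F)) (mem_zpowers g)

theorem pi_split {a b c d : ℕ} (e : a * b = c * d) (ha : PiN πᶜ a) (hb : PiN π b) (hc : PiN πᶜ c)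
    (hd : PiN π d) (h0 : 0 < a * b) : a = c ∧ b = d := by
  obtain rfl : a = c := Nat.dvd_antisymm ((ha.coprime' hd).dvd_of_dvd_mul_right (e ▸ dvd_mul_right _ _))
    ((hc.coprime' hb).dvd_of_dvd_mul_right (e ▸ dvd_mul_right _ _))
  exact ⟨rfl, Nat.eq_of_mul_eq_mul_left (Nat.pos_of_mul_pos_right h0) e⟩

/-- `g ↦ [g, w]` for `w` in the second centre -/
def chom (h : ∀ g ∈ P, g * w * g⁻¹ * w⁻¹ ∈ center G) : P →* center G :=
  MonoidHom.mk' (fun g => ⟨_, h g g.2⟩) fun a b => Subtype.ext (by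
    have := mem_center_iff.1 (h b b.2)
    calc ((a * b : P) : G) * w * ((a * b : P) : G)⁻¹ * w⁻¹
        = a * ((b * w * (b : G)⁻¹ * w⁻¹) * (w * (a : G)⁻¹ * w⁻¹)) := by simp [mul_assoc]
      _ = _ := by rw [← this]; simp [mul_assoc])

omit [Finite G] in
theorem chom_eq_one {h : ∀ g ∈ P, g * w * g⁻¹ * w⁻¹ ∈ center G} {g : P} : chom h g = 1 ↔ (g : G) ∈ C[w] := by
  rw [mem_cent1, ← mul_inv_eq_iff_eq_mul, ← mul_inv_eq_one (a := _ * _), Subtype.ext_iff]; rfl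

omit [Finite G] in
theorem comm_pow (h : g * w * g⁻¹ * w⁻¹ ∈ center G) (hw : w ^ n ∈ center G) : (g * w * g⁻¹ * w⁻¹) ^ n = 1 := by
  have : g * w ^ n * g⁻¹ = (g * w * g⁻¹ * w⁻¹) ^ n * w ^ n := by
    rw [← conj_pow, ← Commute.mul_pow (mem_center_iff.1 h w).symm, inv_mul_cancel_right]
  rwa [mem_center_iff.1 hw g, mul_inv_cancel_right, eq_comm, mul_eq_right] at this

/-- class sizes `1, m, mn` -/
structure MN (G : Type*) [Group G] (m n : ℕ) : Prop where
  hm : 1 < m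
  hn : 1 < n
  cop : m.Coprime n
  all : ∀ x ∉ center G, C[x].index = m ∨ C[x].index = m * n
  e1 : ∃ x : G, C[x].index = m
  e2 : ∃ x : G, C[x].index = m * n

namespace MN
variable (h : MN G m n)
include h

theorem sol : Group.IsSolvable G := H25.Ito.Two.solv _ rfl fun x y z hx hy hz => by
  have : C[x].index = C[y].index ∨ C[x].index = C[z].index ∨ C[y].index = C[z].index := by
    have := h.all x hx
    have := h.all y hy
    have := h.all z hz
    omega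
  exact this.imp H25.Ito.card_cent_eq (Or.imp H25.Ito.card_cent_eq H25.Ito.card_cent_eq)

omit [Finite G] in
theorem dvd (hx : x ∉ center G) : m ∣ C[x].index := by
  rcases h.all x hx with e | e <;> simp [e]

omit [Finite G] in
theorem ne : m ≠ m * n := by nlinarith [h.hm, h.hn]

variable (hp : p.Prime) (d : p ∣ m)
include hp d

omit [Finite G] in
theorem pn : PiN {p}ᶜ n := .of_coprime (h.cop.coprime_dvd_left d).symm

theorem npc : Hall {p}ᶜ (Oc {p}ᶜ (⊤ : Subgroup G)) ⊤ := npc_of_same h.sol fun x x1 y y1 R l hR S hS => by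
  refine Nat.le_of_dvd (card_pos _) (hS.dvd hR (hR.dvd_of_dvd_mul (h.pn hp d) ((card_dvd l).trans ?_)))
  have a := C[x].card_mul_index
  have b := C[y].card_mul_index
  have m0 : 0 < m := zero_lt_one.trans h.hm
  rcases h.all x x1 with e | e <;> rcases h.all y y1 with f | f <;> rw [e] at a <;> rw [f, ← a] at b
  · rw [Nat.eq_of_mul_eq_mul_right m0 b]; exact dvd_mul_right _ _
  · exact (Nat.eq_of_mul_eq_mul_right m0 (by rw [← b]; ring)).dvd
  · exact ⟨n * n, Nat.eq_of_mul_eq_mul_right m0 (by rw [mul_right_comm, b]; ring)⟩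
  · rw [Nat.eq_of_mul_eq_mul_right (Nat.mul_pos m0 (zero_lt_one.trans h.hn)) b]; exact dvd_mul_right _ _

theorem cen (hP : Syl p P ⊤) (hx : x ∈ C(P)) : x ∈ center G := by_contra fun e =>
  hP.not_dvd_relIndex hp (le_cent1_iff.2 hx) (by rw [relIndex_top_right]; exact d.trans (h.dvd e))

theorem not_le (hP : Syl p P ⊤) : ¬ P ≤ center G := fun e => by
  obtain ⟨x, hx⟩ := h.e1
  exact hP.not_dvd_relIndex hp (e.trans (center_le_cent1 x)) (by rwa [relIndex_top_right, hx])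

theorem pm : PiN {p} m := fun r hr e => by_contra fun n => by
  obtain ⟨P, hP⟩ := exists_syl p (⊤ : Subgroup G)
  have a := h.npc hp d
  have b := h.npc hr e
  obtain ⟨R, hR, k⟩ := inv_syl_exists r (le_top.trans (Oc_norm _ _)) (a.pi.coprime' hP.pi) (.inl hP.pi.sol)
  have l := b.le_of_normal (Oc_norm _ _) le_top (hP.pi.sing_ne (Ne.symm n))
  refine h.not_le hp d hP fun x hx => h.cen hr e (a.sub_syl n hR) ?_
  exact commg_eq_bot.1 (H19.eq_bot_mono (le_inf (commg_le_right k) ((commutator_mono l le_rfl).trans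
    (commg_le_left (le_top.trans (Oc_norm _ _))))) (hR.pi.inf_eq_bot b.pi)) hx

variable (hP : Syl p P ⊤) (hH : Hall {p}ᶜ H ⊤) (nH : ∀ A : Subgroup G, A ≤ N(H))
include hP hH nH

omit h hp d in
theorem sup : H ⊔ P = ⊤ := sup_comm P H ▸ hP.sup_compl hH

theorem f1 (hx : x ∉ center G) : #(P ⊓ C[x]) * m ∣ #P :=
  hP.dvd ((hP.pi.infl _).mul (h.pm hp d)) (by
    rw [card_top, ← C[x].card_mul_index]
    exact mul_dvd_mul (card_dvd inf_le_right) (h.dvd hx))

theorem f2 (hx : x ∉ center G) : C[x].index = m ∧ x ∈ C(H) ∨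
    C[x].index = m * n ∧ #(H ⊓ C[x]) * n = #H ∧ x ∉ C(H) := by
  obtain ⟨S, hS⟩ := exists_syl p C[x]
  have a := hS.card_mul_compl (hH.inf_of_norm' le_top (nH _))
  have b := hP.card_mul_compl hH
  have c := C[x].card_mul_index
  rw [← card_top (G := G), ← a, ← b] at c
  have k := fun {e} (he : PiN {p}ᶜ e) (f : C[x].index = m * e) => (pi_split (a := #(H ⊓ C[x]) * e)
    (b := #S * m) (by rw [mul_comm #H, ← c, f]; ring) ((hH.pi.infl _).mul he) (hS.pi.mul (h.pm hp d)) hH.pi hP.pi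
    (Nat.pos_of_ne_zero fun z => by
      have := card_pos (⊤ : Subgroup G)
      rw [← b, ← c, f, show #S * #(H ⊓ C[x]) * (m * e) = #(H ⊓ C[x]) * e * (#S * m) by ring] at this
      omega)).1
  rcases h.all x hx with e | e
  · have := k PiN.one (by rw [e, mul_one])
    exact .inl ⟨e, le_cent1_iff.1 ((eq_of_le_of_card_eq inf_le_left (by omega)).ge.trans inf_le_right)⟩
  · have := k (h.pn hp d) e
    refine .inr ⟨e, this, fun k => ?_⟩
    rw [inf_eq_left.2 (le_cent1_iff.2 k)] at this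
    nlinarith [card_pos H, h.hn]

theorem f2' (hx : x ∉ C(H)) : C[x].index = m * n ∧ #(H ⊓ C[x]) * n = #H :=
  let k := (h.f2 hp d hP hH nH fun e => hx (center_le_centralizer _ e)).resolve_left fun e => hx e.2
  ⟨k.1, k.2.1⟩

theorem f3 (hx : x ∉ center G) (k : x ∈ P ∨ x ∈ C(H)) : #(P ⊓ C[x]) * m = #P := by
  have i := hH.pi.inf_eq_bot' hP.pi
  have e : C[x] = (H ⊓ C[x]) ⊔ (P ⊓ C[x]) := by
    rcases k with k | k
    · rw [← cent_zpowers, ← sup_inf_cent_of_disjoint (nH _) (norms_of_le (zpowers_le.2 k)) (nH _) i,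
        sup hP hH nH, top_inf_eq]
    · rw [inf_eq_left.2 (le_cent1_iff.2 k), ← sup_inf_modl (nH _) (le_cent1_iff.2 k), sup hP hH nH, top_inf_eq]
  have a : #C[x] = #(H ⊓ C[x]) * #(P ⊓ C[x]) := by
    rw [← card_sup_of_disjoint (norms_inf (nH _) (norms_of_le inf_le_right))
      (H19.eq_bot_mono (inf_le_inf inf_le_left inf_le_left) i), ← e]
  have b := hP.card_mul_compl hH
  have c := C[x].card_mul_index
  rw [← card_top (G := G), a, ← b] at c
  refine Nat.eq_of_mul_eq_mul_right (card_pos H) ?_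
  rcases h.f2 hp d hP hH nH hx with ⟨f, g⟩ | ⟨f, g, -⟩
  · rw [← c, f, inf_eq_left.2 (le_cent1_iff.2 g)]; ring
  · rw [← c, f, ← g]; ring

theorem f5 (hy : y ∈ P) (y1 : y ∉ C(H)) (ha : a ∈ H ⊓ C[y]) : C[y] ≤ C[a] := by
  have c := (mem_cent1.1 ha.2).symm
  have e := cent1_mul (hP.pi.elt hy) (hH.pi.elt ha.1) c
  have := (h.f2' hp d hP hH nH (x := y * a) fun k => y1 (constt_eq (hP.pi.elt hy) (hH.pi.elt ha.1) c ▸
    constt_mem _ k)).1
  rw [← (h.f2' hp d hP hH nH y1).1, e] at this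
  exact (eq_of_le_of_index_eq' inf_le_left this).ge.trans inf_le_right

theorem nle : ¬ P ≤ C(H) := fun e => by
  obtain ⟨x, hx⟩ := h.e2
  have k : x ∈ C(H) := mem_cent.2 fun y hy => (mem_center_iff.1 (h.cen hp d hP (cents_symm e hy)) x).symm
  rcases h.f2 hp d hP hH nH (x := x) (by rw [← idx_eq_one, hx]; nlinarith [h.hm, h.hn]) with f | f
  exacts [h.ne (f.1.symm.trans hx), f.2.2 k]

theorem case2 : #(H ⊓ center G) * n = #H := by
  by_contra e
  have F := fun {x} => h.f2' hp d hP hH nH (x := x)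
  have n0 : 0 < n := zero_lt_one.trans h.hn
  have m0 : 0 < m := zero_lt_one.trans h.hm
  have k1 : ∀ y ∉ C(H), ∃ a ∈ H ⊓ C[y], a ∉ center G := fun y y1 => by
    by_contra! k
    exact e (by rw [← (F y1).2, le_antisymm (inf_le_inf_left _ (center_le_cent1 y)) fun a ha => ⟨ha.1, k a ha⟩])
  have k2 : P ⊓ C(H) ≤ center G := fun u hu => h.cen hp d hP (by
    have : ∀ y ∈ P, y ∉ C(H) → y ∈ C[u] := fun y hy y1 => by
      obtain ⟨a, a1, a2⟩ := k1 y y1
      have := eq_of_le_of_card_ge (inf_le_inf_left P (h.f5 hp d hP hH nH hy y1 a1)) (Nat.le_of_mul_le_mul_right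
        ((Nat.le_of_dvd (card_pos _) (h.f1 hp d hP hH nH a2)).trans
        (h.f3 hp d hP hH nH (fun k => y1 (center_le_centralizer _ k)) (.inl hy)).ge) m0)
      exact mem_cent1_symm.1 (this.ge ⟨hu.1, cent_le_cent1 a1.1 hu.2⟩).2
    obtain ⟨y, y1, y2⟩ := SetLike.not_le_iff_exists.1 (h.nle hp d hP hH nH)
    refine le_cent1_iff.1 fun g hg => ?_
    by_cases c : g ∈ C(H)
    exacts [(mul_mem_cancel_right (this y y1 y2)).1 (this _ (mul_mem hg y1) (mt (mul_mem_cancel_left c).1 y2)),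
      this g hg c])
  obtain ⟨b, b1, b2, b3⟩ : ∃ b ∈ H, b ∈ C(H) ∧ b ∉ center G := by
    obtain ⟨x, hx⟩ := h.e1
    have x1 : x ∉ center G := by rw [← idx_eq_one, hx]; exact h.hm.ne'
    have := ((h.f2 hp d hP hH nH x1).resolve_right fun f => h.ne (hx.symm.trans f.1)).2
    refine ⟨constt {p}ᶜ x, hH.mem_of_normal (nH _) trivial (constt_pi _ _), constt_mem _ this, fun k => x1 ?_⟩
    refine constt_mul_compl {p} x ▸ mul_mem ?_ k
    obtain ⟨g, -, l⟩ := hP.scj_le (le_top (a := zpowers (constt {p} x))) (piG_zpowers.2 (constt_pi _ _))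
    have := k2 ⟨l (conj_mem_cj.2 (mem_zpowers _)), conj_mem_of_norm (norms_cent (nH ⊤) trivial) (constt_mem {p} this)⟩
    rwa [← idx_eq_one, ← cj_cent1, index_cj, idx_eq_one] at this
  obtain ⟨x', x1, x2⟩ := SetLike.not_le_iff_exists.1 fun k : P ≤ C[b] => b3 (h.cen hp d hP (le_cent1_iff.1 k))
  have x3 : x' ∉ C(H) := fun k => x2 (cent_le_cent1 b1 k)
  have k3 : ∀ y ∈ P, y ∉ C(H) → ∀ a ∈ H ⊓ C[y], a ∉ C(H) → H ⊓ C(H) ≤ H ⊓ C[y] := fun y hy y1 a ha a1 =>
    (inf_le_inf_left _ (cent_le_cent1 ha.1)).trans (eq_of_le_of_card_eq (inf_le_inf_left H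
      (h.f5 hp d hP hH nH hy y1 ha)) (Nat.eq_of_mul_eq_mul_right n0 ((F y1).2.trans (F a1).2.symm))).ge
  have k4 : H ⊓ C[x'] ≤ C(H) := fun a ha => by_contra fun a1 =>
    x2 (mem_cent1_symm.1 (k3 x' x1 x3 a ha a1 ⟨b1, b2⟩).2)
  have k5 : ∀ y ∉ C(H), ¬ H ⊓ C(H) ≤ H ⊓ C[y] := fun y y1 l => by
    have := eq_of_le_of_card_eq ((le_inf inf_le_left k4).trans l)
      (Nat.eq_of_mul_eq_mul_right n0 ((F x3).2.trans (F y1).2.symm))
    exact x2 (mem_cent1_symm.1 (this.ge (l ⟨b1, b2⟩)).2)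
  obtain ⟨_, ⟨⟨x, x0, rfl⟩, x4⟩, x5⟩ := exists_ne_one (PiN.center_ne_bot (p := p) (hP.pi.dvd (card_map_dvd P
    (QuotientGroup.mk' (center G)))) fun k => h.not_le hp d hP (by
      rwa [Subgroup.map_eq_bot_iff, QuotientGroup.ker_mk'] at k))
  have x6 : x ∉ C(H) := fun k => mk_ne_one.1 x5 (k2 ⟨x0, k⟩)
  obtain ⟨a, a1, a2⟩ := k1 x x6
  have a3 : a ∈ C(H) := by_contra fun k => k5 x x6 (k3 x x0 x6 a a1 k)
  obtain ⟨w, w1, w2⟩ := SetLike.not_le_iff_exists.1 (k5 x x6)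
  have nW : ∀ A : Subgroup G, A ≤ N(H ⊓ C(H)) := fun A => norms_inf (nH A) (norms_cent (nH A))
  have T := ab_commg_inf_cent (comm_center H) (nW (zpowers x))
    ((hH.pi.infl _).coprime' (piG_zpowers.2 (hP.pi.elt x0)))
  rw [cent_zpowers] at T
  set v := w * x * w⁻¹ * x⁻¹ with hv
  have v1 : v ∈ ⁅H ⊓ C(H), zpowers x⁆ := comm_mem w1 (mem_zpowers x)
  have v2 : v ∉ C[x] := fun k => w2 ⟨w1.1, mem_cent1.2 (by
    rw [← mul_inv_eq_iff_eq_mul, ← mul_inv_eq_one]; exact T.le ⟨v1, k⟩)⟩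
  have v3 := commg_le_left (nW _) v1
  have k6 : P ⊓ C[a * v] ≤ C[a] ⊓ C[v] := fun c hc => by
    obtain ⟨z, z1, z2⟩ : ∃ z ∈ center G, c * x * c⁻¹ = x * z := ⟨x⁻¹ * (c * x * c⁻¹), by
      have := mem_cent.1 x4 _ (mem_map_of_mem _ hc.1)
      rw [← QuotientGroup.eq_one_iff, ← QuotientGroup.mk'_apply]
      simp only [map_mul, map_inv, this]; group, by group⟩
    have i : c * a * c⁻¹ ∈ C[x] := by
      have := (conj_mem_cj (g := c)).2 a1.2
      rw [cj_cent1, z2, mem_cent1_symm, mul_mem_cancel_right (center_le_cent1 _ z1)] at this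
      exact mem_cent1_symm.1 this
    have j : c * v * c⁻¹ ∈ ⁅H ⊓ C(H), zpowers x⁆ := by
      have := comm_mem (conj_mem_of_norm (nW ⊤ (mem_top c)) w1) (mem_zpowers x)
      convert this using 1
      calc _ = c * w * c⁻¹ * (c * x * c⁻¹) * (c * w * c⁻¹)⁻¹ * (c * x * c⁻¹)⁻¹ := by rw [hv]; group
        _ = c * w * c⁻¹ * x * (z * (c * w * c⁻¹)⁻¹) * z⁻¹ * x⁻¹ := by rw [z2]; group
        _ = _ := by rw [← mem_center_iff.1 z1]; group
    have l := mul_inv_eq_iff_eq_mul.2 (mem_cent1.1 hc.2)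
    have : a⁻¹ * (c * a * c⁻¹) = v * (c * v * c⁻¹)⁻¹ := by
      rw [inv_mul_eq_iff_eq_mul, ← mul_assoc a, ← l]; group
    have o : a⁻¹ * (c * a * c⁻¹) = 1 := T.le (mem_inf.2 ⟨this ▸ mul_mem v1 (inv_mem j),
      mul_mem (inv_mem (mem_inf.1 a1).2) i⟩)
    rw [o, eq_comm, mul_inv_eq_one] at this
    rw [inv_mul_eq_one] at o
    exact ⟨mem_cent1.2 (mul_inv_eq_iff_eq_mul.1 o.symm), mem_cent1.2 (mul_inv_eq_iff_eq_mul.1 this.symm)⟩
  have f := fun {x} a b => h.f3 hp d hP hH nH (x := x) a (.inr b)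
  have av : a * v ∉ center G := fun k => a2 (h.cen hp d hP (le_cent1_iff.1 fun c hc =>
    (k6 ⟨hc, mem_cent1.2 (mem_center_iff.1 k c)⟩).1))
  have g1 := eq_of_le_of_card_eq (le_inf inf_le_left (k6.trans inf_le_left))
    (Nat.eq_of_mul_eq_mul_right m0 ((f av (mul_mem a3 v3.2)).trans (f a2 a3).symm))
  exact v2 (mem_cent1_symm.1 (k6 (g1.ge ⟨x0, mem_cent1_symm.1 a1.2⟩)).2)

theorem cent_eq (hy : y ∉ C(H)) : H ⊓ C[y] = H ⊓ center G :=
  (eq_of_le_of_card_eq (inf_le_inf_left _ (center_le_cent1 y)) (Nat.eq_of_mul_eq_mul_right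
    (zero_lt_one.trans h.hn) ((h.case2 hp d hP hH nH).trans (h.f2' hp d hP hH nH hy).2.symm))).symm

theorem abH : H ≤ C(H) := fun x hx => by_contra fun k =>
  k (center_le_centralizer _ ((h.cent_eq hp d hP hH nH k).le ⟨hx, mem_cent1_self x⟩).2)

theorem exists_h : ∃ x ∈ H, x ∉ center G := by
  by_contra! k
  have := h.case2 hp d hP hH nH
  rw [inf_eq_left.2 k] at this
  nlinarith [card_pos H, h.hn]

theorem cent_h (hx : x ∈ H) (x1 : x ∉ center G) : P ⊓ C[x] = P ⊓ C(H) :=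
  le_antisymm (fun _ hy => ⟨hy.1, by_contra fun k =>
    x1 ((h.cent_eq hp d hP hH nH k).le ⟨hx, mem_cent1_symm.1 hy.2⟩).2⟩) (inf_le_inf_left _ (cent_le_cent1 hx))

theorem card_U : #(P ⊓ C(H)) * m = #P := by
  obtain ⟨x, hx, x1⟩ := h.exists_h hp d hP hH nH
  rw [← h.cent_h hp d hP hH nH hx x1, h.f3 hp d hP hH nH x1 (.inr (h.abH hp d hP hH nH hx))]

theorem abU (hu : u ∈ P ⊓ C(H)) : P ⊓ C(H) ≤ C[u] := by
  obtain ⟨x, hx, x1⟩ := h.exists_h hp d hP hH nH
  have c := mem_cent.1 hu.2 x hx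
  have x2 : PiE {p}ᶜᶜ u := (hP.pi.elt hu.1).compl_compl
  have := h.f3 hp d hP hH nH (not_mem_center_mul (hH.pi.elt hx) x2 c x1)
    (.inr (mul_mem (h.abH hp d hP hH nH hx) hu.2))
  rw [cent1_mul (hH.pi.elt hx) x2 c, ← inf_assoc, h.cent_h hp d hP hH nH hx x1,
    ← h.card_U hp d hP hH nH] at this
  exact (eq_of_le_of_card_eq inf_le_left (Nat.eq_of_mul_eq_mul_right (zero_lt_one.trans h.hm) this)).ge.trans
    inf_le_right

theorem cent_u (hu : u ∈ P ⊓ C(H)) (u1 : u ∉ center G) : P ⊓ C[u] = P ⊓ C(H) :=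
  (eq_of_le_of_card_eq (le_inf inf_le_left (h.abU hp d hP hH nH hu)) (Nat.eq_of_mul_eq_mul_right
    (zero_lt_one.trans h.hm) ((h.card_U hp d hP hH nH).trans (h.f3 hp d hP hH nH u1 (.inl hu.1)).symm))).symm

theorem exists_w : ∃ w ∈ P ⊓ C(H), w ∉ center G ∧ w ^ p ∈ center G ∧
    ∀ g ∈ P, g * w * g⁻¹ * w⁻¹ ∈ center G := by
  have k : ¬ P ⊓ C(H) ≤ center G := fun e => by
    obtain ⟨y, y1, y2⟩ := SetLike.not_le_iff_exists.1 (h.nle hp d hP hH nH)
    exact y2 ((eq_of_le_of_card_eq (le_inf inf_le_left (e.trans (center_le_cent1 y))) (Nat.eq_of_mul_eq_mul_right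
      (zero_lt_one.trans h.hm) ((h.card_U hp d hP hH nH).trans (h.f3 hp d hP hH nH
      (fun k => y2 (center_le_centralizer _ k)) (.inl y1)).symm))).ge ⟨y1, mem_cent1_self y⟩).2
  let f := QuotientGroup.mk' (center G)
  have a : PG p ((P ⊓ C(H)).map f) := (hP.pi.infl _).dvd (card_map_dvd _ _)
  have := a.meet_cent (hP.pi.dvd (card_map_dvd P f)) ((map_mono (norms_inf le_normalizer
    (norms_cent (nH P)))).trans (le_normalizer_map f)) fun e => k (by
      rwa [Subgroup.map_eq_bot_iff, QuotientGroup.ker_mk'] at e)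
  obtain ⟨_, ⟨⟨w, w1, rfl⟩, w2⟩, o⟩ := exists_orderOf_eq_prime hp ((a.infl _).dvd_of_ne_bot this)
  refine ⟨w, w1, mk_ne_one.1 fun e => hp.ne_one (by rw [← o, orderOf_eq_one_iff]; exact e),
    (QuotientGroup.eq_one_iff _).1 ?_, fun g hg => (QuotientGroup.eq_one_iff _).1 ?_⟩
  · change f _ = 1
    rw [map_pow, ← o, pow_orderOf_eq_one]
  · change f _ = 1
    simp only [map_mul, map_inv, mem_cent.1 w2 _ (mem_map_of_mem f hg)]; group

theorem eq_p : m = p := by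
  obtain ⟨w, w1, w2, w3, w4⟩ := h.exists_w hp d hP hH nH
  have e := h.cent_u hp d hP hH nH w1 w2
  set U := P ⊓ C(H)
  have i := hH.pi.inf_eq_bot' hP.pi
  have n1 : P ≤ N(U) := norms_inf le_normalizer (norms_cent (nH P))
  have n2 : H ≤ N(U) := norms_of_cents (cents_symm inf_le_right)
  have a : Abelem p (quo U P) := (abelem_quo_iff n1).2 ⟨commg_le_iff.2 fun x hx y hy => by
      have := chom_eq_one.1 (show chom w4 (⟨x, hx⟩ * ⟨y, hy⟩ * ⟨x, hx⟩⁻¹ * ⟨y, hy⟩⁻¹) = 1 by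
        simp only [map_mul, map_inv]
        exact commutatorElement_eq_one_iff_mul_comm.2 (mul_comm' _ _))
      exact e.le (mem_inf.2 ⟨mul_mem (mul_mem (mul_mem hx hy) (inv_mem hx)) (inv_mem hy), this⟩),
    fun x hx => e.le (mem_inf.2 ⟨pow_mem hx p, chom_eq_one.1 (show chom w4 (⟨x, hx⟩ ^ p) = 1 by
      rw [map_pow]; exact Subtype.ext (comm_pow (w4 x hx) w3))⟩)⟩
  have c : Cyc (quo U P) := by_contra fun c => by
    obtain ⟨x, hx, x1⟩ := h.exists_h hp d hP hH nH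
    have := le_of_cent1_le (L := quo U (H ⊓ center G)) a.1 c (quo_norms (nH P))
      (cop_quo (hH.pi.coprime' hP.pi) U) (by
        rintro _ ⟨y, hy, rfl⟩ y1 _ ⟨⟨z, hz, rfl⟩, k⟩
        replace hz : (z : G) ∈ H := hz
        refine mem_im_of ((h.cent_eq hp d hP hH nH (y := (y : G)) fun l => y1 (qmk_eq_one.2 ⟨hy, l⟩)).le
          ⟨hz, mem_cent1.2 ?_⟩)
        rw [← mul_inv_eq_iff_eq_mul, ← mul_inv_eq_one]
        refine i.le ⟨by simpa [mul_assoc] using mul_mem hz (conj_mem_of_norm (nH ⊤ (mem_top (y : G))) (inv_mem hz)),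
          (qmk_eq_one (x := z * y * z⁻¹ * y⁻¹).1 ?_).1⟩
        simp only [map_mul, map_inv, mem_cent1.1 k]; group)
    obtain ⟨u, hu, z, hz, rfl⟩ := (mem_sup_of_norm (inf_le_left.trans n2)).1
      ((quo_le_quo_iff n2 (inf_le_left.trans n2)).1 this hx)
    rw [show u = 1 from i.le (mem_inf.2 ⟨(mul_mem_cancel_right (mem_inf.1 hz).1).1 hx, hu.1⟩), one_mul] at x1
    exact x1 hz.2
  have k := card_mul_relIndex (inf_le_left : U ≤ P)
  rw [← h.card_U hp d hP hH nH, Nat.mul_right_inj (card_ne_zero _), ← card_quo n1] at k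
  refine Nat.dvd_antisymm ?_ d
  rw [← k, ← IsCyclic.exponent_eq_card]
  exact Monoid.exponent_dvd_of_forall_pow_eq_one fun g => Subtype.ext (a.2 g g.2)

theorem C_eq : C(H) = H ⊔ (P ⊓ C(H)) := by
  rw [← sup_inf_modl (nH _) (h.abH hp d hP hH nH), sup hP hH nH, top_inf_eq]

theorem abC : Ab C(H) := by
  rw [h.C_eq hp d hP hH nH]
  exact comm_sup (comm_iff_le_cent.2 (h.abH hp d hP hH nH)) (comm_iff_le_cent.2 fun u hu =>
    le_cent1_iff.1 (h.abU hp d hP hH nH hu)) (cents_symm inf_le_right)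

theorem idx (hx : x ∈ C(H)) (x1 : x ∉ center G) : C[x].index = m :=
  ((h.f2 hp d hP hH nH x1).resolve_right fun k => k.2.2 hx).1

theorem index_C : C(H).index = m := by
  obtain ⟨x, hx, x1⟩ := h.exists_h hp d hP hH nH
  have a := h.abH hp d hP hH nH hx
  rw [← h.idx hp d hP hH nH a x1]
  congr 1
  refine le_antisymm (cent_le_cent1 hx) ?_
  rw [h.C_eq hp d hP hH nH, ← h.cent_h hp d hP hH nH hx x1, ← sup_inf_modl (nH _) (le_cent1_iff.2 a),
    sup hP hH nH, top_inf_eq]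

theorem dvd_pred : p ∣ n - 1 := by
  have a : p ∣ ((H : Set G) \ (H ⊓ center G : Subgroup G)).ncard := dvd_ncard_of_conj
    (fun x hx g => ⟨conj_mem_of_norm (nH ⊤ (mem_top g)) hx.1, fun k => hx.2 ⟨hx.1, by
      have := (mem_inf.1 k).2
      rwa [← idx_eq_one, ← cj_cent1, index_cj, idx_eq_one] at this⟩⟩)
    fun x hx => d.trans (h.dvd fun k => hx.2 ⟨hx.1, k⟩)
  rw [Set.ncard_sdiff (by exact inf_le_left (a := H)), ← Nat.card_coe_set_eq, ← Nat.card_coe_set_eq,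
    SetLike.coe_sort_coe, SetLike.coe_sort_coe, ← h.case2 hp d hP hH nH, ← Nat.mul_sub_one] at a
  exact (hp.dvd_mul.1 a).resolve_left ((hH.pi.infl _).not_dvd hp rfl)

theorem card_der : #⁅P, P⁆ = p := by
  obtain ⟨w, w1, w2, w3, w4⟩ := h.exists_w hp d hP hH nH
  have e := h.cent_u hp d hP hH nH w1 w2
  obtain ⟨y, y1, y2⟩ := SetLike.not_le_iff_exists.1 (h.nle hp d hP hH nH)
  have cU := h.card_U hp d hP hH nH
  have cy := h.f3 hp d hP hH nH (fun k => y2 (center_le_centralizer _ k)) (.inl y1)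
  have aU := fun {u} => h.abU hp d hP hH nH (u := u)
  rw [h.eq_p hp d hP hH nH] at cU cy
  set U := P ⊓ C(H)
  have c1 : y * w * y⁻¹ * w⁻¹ ≠ 1 := fun k => y2 (e.le ⟨y1, mem_cent1.2 (by
    rwa [← mul_inv_eq_iff_eq_mul, ← mul_inv_eq_one])⟩).2
  set c := y * w * y⁻¹ * w⁻¹ with hc
  have cX : #(zpowers c) = p := by rw [Nat.card_zpowers, orderOf_of_pow hp (comm_pow (w4 y y1) w3) c1]
  suffices k : ⁅P, P⁆ ≤ zpowers c by rwa [le_antisymm k (zpowers_le.2 (comm_mem y1 w1.1))]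
  have r : ∀ {A B : Subgroup G}, A ≤ B → #A * p = #B → (A.relIndex B).Prime := fun l e => by
    rwa [Nat.eq_of_mul_eq_mul_left (card_pos _) ((card_mul_relIndex l).trans e.symm)]
  have n1 : P ≤ N(U) := norms_inf le_normalizer (norms_cent (nH P))
  have s1 : U ⊔ zpowers y = P := (eq_of_prime_index le_sup_left (sup_le inf_le_left (zpowers_le.2 y1))
    (r inf_le_left cU)).resolve_left fun k => y2 (k.le (mem_sup_right (mem_zpowers y))).2
  have s2 : U ⊔ (P ⊓ C[y]) = P := le_antisymm (sup_le inf_le_left inf_le_left) (s1.ge.trans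
    (sup_le_sup_left (zpowers_le.2 (mem_inf.2 ⟨y1, mem_cent1_self y⟩)) _))
  have c2 : #(U ⊓ (P ⊓ C[y])) * p = #U := by
    have := card_sup_mul_inf (B := P ⊓ C[y]) (inf_le_left.trans n1)
    rw [s2, ← cy] at this
    exact Nat.eq_of_mul_eq_mul_left (card_pos (P ⊓ C[y])) (by linarith)
  have s3 : U ⊓ (P ⊓ C[y]) ⊔ zpowers w = U := (eq_of_prime_index le_sup_left (sup_le inf_le_left
    (zpowers_le.2 w1)) (r inf_le_left c2)).resolve_left fun k => c1 (by
      rw [hc, ← mem_cent1.1 (k.le (mem_sup_right (mem_zpowers w))).2.2]; group)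
  haveI : (zpowers c).Normal := ⟨fun x hx g => by
    rwa [mem_center_iff.1 (zpowers_le.2 (w4 y y1) hx) g, mul_inv_cancel_right]⟩
  let f := QuotientGroup.mk' (zpowers c)
  rw [← QuotientGroup.ker_mk' (zpowers c), ← Subgroup.map_eq_bot_iff, map_commutator, ← comm_iff_der, ← s1,
    Subgroup.map_sup, MonoidHom.map_zpowers]
  haveI : IsMulCommutative U := comm_iff_le_cent.2 fun u hu => le_cent1_iff.1 (aU hu)
  refine comm_sup inferInstance (comm_zpowers _) ?_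
  rw [cent_zpowers, ← s3, Subgroup.map_sup, MonoidHom.map_zpowers]
  refine sup_le ?_ (zpowers_le.2 (mem_cent1.2 (Eq.symm ?_)))
  · rintro _ ⟨u, hu, rfl⟩
    rw [mem_cent1, ← map_mul, ← map_mul, mem_cent1.1 hu.2.2]
  · rw [← mul_inv_eq_iff_eq_mul, ← mul_inv_eq_one, ← map_inv, ← map_inv, ← map_mul, ← map_mul, ← map_mul]
    exact (QuotientGroup.eq_one_iff _).2 (mem_zpowers c)

end MN

end H5
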