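import Cfsg.Agent.H6.LinG2
import Cfsg.Agent.H3.Transfer

/-! The Feit–Thompson–Blichfeldt bound for linear groups with an abelian "TI" subgroup. -/

set_option autoImplicit false
set_option linter.unusedSectionVars false

namespace H5.FTB
open _root_.Cfsg Subgroup H20 H19 H6
open scoped ComplexConjugate Classical

universe u

variable {Γ : Type u} [Group Γ] [Finite Γ] {G H N : Subgroup Γ} {χ : Γ → ℂ} {p : ℕ}

/-- centralizers of non-central elements meet at most one conjugate of `H` -/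
def One (H G : Subgroup Γ) : Prop :=
  ∀ g ∈ G, g ∉ C(G) → ∀ a ∈ G, H ⊓ C[g] ≠ ⊥ → cj a H ⊓ C[g] ≠ ⊥ → a ∈ N(H)

theorem ex1 (h : H ≠ ⊥) : ∃ x ∈ H, x ≠ 1 := (H.bot_or_exists_ne_one).resolve_left h

theorem ti_sum {S : Set Γ} (hS : S ⊆ G) (h1 : (1 : Γ) ∉ S)
    (hti : ∀ g ∈ G, ∀ x ∈ S, g * x * g⁻¹ ∈ S → g ∈ N) (hχ : χ ∈ Irr G) :
    ∑ x ∈ fin S, ‖χ x‖ ^ 2 < #N := by
  have hc := irr_cinv hχ
  have h2 : (#G : ℝ) * ∑ x ∈ fin S, ‖χ x‖ ^ 2 =
      ∑ g ∈ fin (G : Set Γ), ∑ x ∈ fin (G : Set Γ), if g * x * g⁻¹ ∈ S then ‖χ x‖ ^ 2 else 0 := by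
    rw [← nsmul_eq_mul, ← sum_sub_const]
    refine sum_fin_congr fun g hg => ?_
    have := sum_sub_conj (H := G) (G.le_normalizer hg) (fun x => if x ∈ S then ‖χ x‖ ^ 2 else 0)
    simp only [hc.conj hg] at this
    rw [this, ← sum_fin_subset hS _ fun x _ hx => if_neg hx]
    exact sum_fin_congr fun x hx => (if_pos hx).symm
  have h3 : ∀ x ∈ G, (∑ g ∈ fin (G : Set Γ), if g * x * g⁻¹ ∈ S then ‖χ x‖ ^ 2 else 0) ≤
      if x = 1 then 0 else #N * ‖χ x‖ ^ 2 := fun x _ => by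
    rw [← Finset.sum_filter, Finset.sum_const, nsmul_eq_mul]
    split_ifs with e
    · rw [Finset.filter_false_of_mem fun g _ => by simpa [e] using h1]; simp
    refine mul_le_mul_of_nonneg_right (Nat.cast_le.2 ?_) (by positivity)
    rcases ((fin (G : Set Γ)).filter fun g => g * x * g⁻¹ ∈ S).eq_empty_or_nonempty with e' | ⟨a, ha⟩
    · simp [e']
    simp only [Finset.mem_filter, mem_fin, SetLike.mem_coe] at ha
    rw [← card_fin_sub]
    refine Finset.card_le_card_of_injOn (· * a⁻¹) (fun g hg => ?_) fun _ _ _ _ e => mul_right_cancel e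
    simp only [Finset.coe_filter, mem_fin, SetLike.mem_coe, Set.mem_setOf_eq, coe_fin] at hg ⊢
    exact hti _ (mul_mem hg.1 (inv_mem ha.1)) _ ha.2 (by simpa [mul_assoc] using hg.2)
  have h4 := card_mul_nrm G χ
  rw [irr_nrm hχ, mul_one, sum_sub_eq_one_add] at h4
  have h5 : 0 < ‖χ 1‖ ^ 2 := by have := irr_one_ne hχ; positivity
  rw [Finset.sum_comm] at h2
  have h6 := (Finset.sum_le_sum fun x hx => h3 x (mem_fin.1 hx)).trans_eq (sum_sub_eq_one_add G _)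
  rw [← h2, if_pos rfl, zero_add, sum_fin_congr (g := fun x => #N * ‖χ x‖ ^ 2)
    fun x hx => if_neg (H20.mem_nt.1 hx).2, ← Finset.mul_sum] at h6
  have := cardR_pos G
  have := cardR_pos N
  nlinarith

theorem core (hH : H ≤ G) (hab : Ab H) (hZ : H ⊓ C(G) = ⊥) (ho : One H G) (hχ : χ ∈ Irr G)
    (hk : ¬ H ≤ cker χ) : #H * ‖dot H χ (triv H)‖ ^ 2 < (deg χ : ℝ) ^ 2 := by
  have h0 : H ≠ ⊥ := fun e => hk (e ▸ bot_le)
  set N := G ⊓ N(H)
  let S : Set Γ := {g | g ∈ G ∧ g ∉ C(G) ∧ H ⊓ C[g] ≠ ⊥}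
  have hN : H ⊴ N := ⟨le_inf hH H.le_normalizer, inf_le_right⟩
  have hSN : S ⊆ N := fun g hg => by
    obtain ⟨h, ⟨a, b⟩, c⟩ := ex1 hg.2.2
    have d : h ∈ C[h] := mem_cent1.2 rfl
    refine ⟨hg.1, ho h (hH a) (fun e => c (mem_bot.1 (hZ ▸ ⟨a, e⟩))) g hg.1 (ne_bot_of_mem ⟨a, d⟩ c)
      (ne_bot_of_mem ⟨mem_cj.2 ?_, d⟩ c)⟩
    rwa [mul_assoc, mem_cent1.1 b, inv_mul_cancel_left]
  have h1 := ti_sum (N := N) (fun g (hg : g ∈ S) => hg.1) (fun e => e.2.1 (one_mem _))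
    (fun g hg x hx e => ⟨hg, N(H).inv_mem_iff.1 (ho x hx.1 hx.2.1 g⁻¹ (inv_mem hg) hx.2.2 (by
      have := e.2.2
      rwa [← cj_cent1, ← cj_cj_inv g H, ← cj_inf, Ne, cj_eq_bot] at this))⟩) hχ
  have hc : CInv N χ := (irr_cinv hχ).mono inf_le_left
  let α : Γ → ℂ := ∑ θ ∈ (Irr N).filter (fun θ => H ≤ cker θ), dot N χ θ • θ
  have h2 : ∀ g ∈ N, H ⊓ C[g] = ⊥ → χ g = α g := fun g hg e => by
    rw [apply_eq_sum_irr hc hg, ← Finset.sum_filter_add_sum_filter_not _ (fun θ => H ≤ cker θ),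
      Finset.sum_eq_zero (s := Finset.filter (fun θ => ¬ H ≤ cker θ) _) fun θ hθ => by
        rw [irr_zero_of_reg (Finset.mem_filter.1 hθ).1 hN (Finset.mem_filter.1 hθ).2 e, mul_zero],
      add_zero]
    simp only [α, Finset.sum_apply, Pi.smul_apply, smul_eq_mul]
  have h3 : ∀ g ∈ N, #H * α g = ∑ h ∈ fin (H : Set Γ), χ (h * g) := fun g hg => by
    rw [sum_fin_congr fun h hh => apply_eq_sum_irr hc (N.mul_mem (hN.le hh) hg), Finset.sum_comm]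
    simp only [α]
    rw [Finset.sum_apply, Finset.mul_sum, Finset.sum_filter]
    refine Finset.sum_congr rfl fun θ hθ => ?_
    rw [← Finset.mul_sum]
    split_ifs with e
    · rw [sum_fin_congr fun h hh => cker_mul (e hh) g, sum_sub_const, nsmul_eq_mul, Pi.smul_apply,
        smul_eq_mul, mul_left_comm]
    · rw [irr_sum_coset hθ hN e, mul_zero]
  have h4 : nrm N α + 1 ≤ nrm N χ := by
    rw [nrm_eq_sum_irr hc, ← Finset.sum_filter_add_sum_filter_not _ (fun θ => H ≤ cker θ),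
      ((orthN_Irr N).mono (Finset.filter_subset _ _)).fam.nrm_sum, add_le_add_iff_left]
    obtain ⟨θ, a, b, c⟩ : ∃ θ ∈ Irr N, dot N χ θ ≠ 0 ∧ ¬ H ≤ cker θ := by
      by_contra! e
      exact hk (le_cker_of_below' (irr_chr hχ) inf_le_left hN.le e)
    refine le_trans ?_ (Finset.single_le_sum (f := fun θ => ‖dot N χ θ‖ ^ 2)
      (fun _ _ => by positivity) (Finset.mem_filter.2 ⟨a, c⟩))
    have := zirr_one_le_norm_dot (zirr_Res (irr_zirr hχ) inf_le_left) (irr_zirr a)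
      (by rwa [dot_Res_left])
    rw [dot_Res_left] at this
    nlinarith
  set Z := G ⊓ C(G)
  have hz : ∀ z ∈ Z, ∀ c ∈ G, c * z * c⁻¹ * z⁻¹ ∈ cker χ := fun z hz c hc => by
    rw [mem_cent.1 hz.2 c hc]; simp
  have hZH : Z ≤ C(H) := inf_le_right.trans (cent_mono hH)
  have hW : H ⊔ Z ≤ N := sup_le hN.le (le_inf inf_le_left (hZH.trans (cent_le_norm H)))
  have h5 : ∀ w ∈ H ⊔ Z, ‖α w‖ = ‖dot H χ (triv H)‖ := fun w hw => by
    obtain ⟨h, a, z, b, rfl⟩ := (mem_sup_of_norm (hZH.trans (cent_le_norm H))).1 hw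
    have e := h3 _ (hW hw)
    rw [sum_fin_congr (g := fun k => χ z / χ 1 * χ (k * h)) fun k hk => by
      rw [← mul_assoc, mem_cent.1 (hZH b) _ (mul_mem hk a), irr_central hχ b.1 (hz z b)],
      ← Finset.mul_sum, sum_sub_mul_right a, mul_comm, ← eq_mul_inv_iff_mul_eq₀ (cardC_ne H)] at e
    rw [e, dot_triv_right, mul_assoc, norm_mul, norm_div, irr_norm_central hχ b.1 (hz z b),
      chr_norm_one (irr_chr hχ), div_self (Nat.cast_pos.2 (H20.irr_deg_pos hχ)).ne', one_mul,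
      mul_comm]
  have h6 : ∀ F : Γ → ℝ, ∑ x ∈ fin (N : Set Γ), F x = ∑ x ∈ fin {x | x ∈ N ∧ H ⊓ C[x] = ⊥}, F x +
      ∑ x ∈ fin {x | x ∈ N ∧ H ⊓ C[x] ≠ ⊥}, F x := fun F => by
    rw [← sum_fin_union (Set.disjoint_left.2 fun x a b => b.2 a.2)]
    congr 2
    ext x; by_cases e : H ⊓ C[x] = ⊥ <;> simp [e]
  have h7 : ∑ x ∈ fin {x | x ∈ N ∧ H ⊓ C[x] ≠ ⊥}, ‖χ x‖ ^ 2 =
      ∑ x ∈ fin S, ‖χ x‖ ^ 2 + #Z * (deg χ : ℝ) ^ 2 := by
    rw [← nsmul_eq_mul, ← sum_sub_const, ← sum_fin_congr (A := Z) (f := fun x => ‖χ x‖ ^ 2)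
      (g := fun _ => (deg χ : ℝ) ^ 2) fun z hz' => by
      rw [irr_norm_central hχ hz'.1 (hz z hz')],
      ← sum_fin_union (Set.disjoint_left.2 fun x a b => a.2.1 b.2)]
    congr 2
    ext x
    refine ⟨fun e => (em (x ∈ C(G))).elim (fun a => .inr ⟨e.1.1, a⟩) fun a => .inl ⟨e.1.1, a, e.2⟩,
      fun e => e.elim (fun a => ⟨hSN a, a.2.2⟩) fun a => ⟨hW (mem_sup_right a), ?_⟩⟩
    rwa [inf_eq_left.2 (le_cent1_iff.2 (hZH a))]
  have h8 : #H * #Z * ‖dot H χ (triv H)‖ ^ 2 ≤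
      ∑ x ∈ fin {x | x ∈ N ∧ H ⊓ C[x] ≠ ⊥}, ‖α x‖ ^ 2 := by
    rw [← Nat.cast_mul, ← card_sup_of_disjoint (hZH.trans (cent_le_norm H))
      (H19.eq_bot_mono (inf_le_inf_left _ inf_le_right) hZ), ← nsmul_eq_mul, ← sum_sub_const,
      ← sum_fin_congr (A := (H ⊔ Z :)) (f := fun x => ‖α x‖ ^ 2)
      (g := fun _ => ‖dot H χ (triv H)‖ ^ 2) fun w hw => by rw [h5 w hw]]
    refine Finset.sum_le_sum_of_subset_of_nonneg (fin_subset fun w hw => ⟨hW hw, ?_⟩)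
      fun _ _ _ => by positivity
    rwa [inf_eq_left.2 (le_cent1_iff.2 (sup_le (comm_iff_le_cent.1 hab) hZH hw))]
  have h9 := card_mul_nrm N χ
  have h10 := card_mul_nrm N α
  rw [h6, h7, sum_fin_congr (g := fun x => ‖α x‖ ^ 2) fun x hx => by rw [h2 x hx.1 hx.2]] at h9
  rw [h6] at h10
  have := cardR_pos N
  have := cardR_pos Z
  nlinarith

theorem deg_le_nrm (hab : Ab H) (hχ : χ ∈ Chr H) : (deg χ : ℝ) ≤ nrm H χ := by
  have h1 := apply_eq_sum_irr (chr_cinv hχ) H.one_mem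
  rw [nrm_eq_sum_irr (chr_cinv hχ), ← chr_norm_one hχ, h1]
  refine (norm_sum_le _ _).trans (Finset.sum_le_sum fun θ hθ => ?_)
  obtain ⟨n, hn⟩ := chr_dot_nat hχ (irr_chr hθ)
  rw [(irr_lin_of_ab hθ hab).one, mul_one, hn, Complex.norm_natCast]
  exact_mod_cast Nat.le_self_pow two_ne_zero n

theorem core2 (hH : H ≤ G) (hab : Ab H) (hZ : H ⊓ C(G) = ⊥) (ho : One H G) (hχ : χ ∈ Irr G)
    (h1 : deg χ ≠ 1) (hM : ∀ M, M ⊴ G → H ≤ M → M = G) : (#H : ℝ) < (1 + deg χ) ^ 2 := by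
  have hc := chr_mul (irr_chr hχ) (chr_star (irr_chr hχ))
  choose! a ha using fun ψ (h : ψ ∈ Irr G) => chr_dot_nat hc (irr_chr h)
  choose! c hc' using fun ψ (h : ψ ∈ Irr G) =>
    chr_dot_nat (chr_Res (irr_chr h) hH) (irr_chr (triv_mem_Irr H))
  simp only [dot_Res_left] at hc'
  have h2 : a (triv G) = 1 := Nat.cast_injective (R := ℂ) (by
    rw [← ha _ (triv_mem_Irr G), dot_mul_left, star_star, mul_triv, dot_Res_right, irr_dot_self hχ,
      Nat.cast_one])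
  have h3 : deg χ ^ 2 = ∑ ψ ∈ Irr G, a ψ * deg ψ := Nat.cast_injective (R := ℂ) (by
    have := apply_eq_sum_irr (chr_cinv hc) G.one_mem
    rw [Pi.mul_apply, star_apply', H20.irr_deg hχ, Complex.conj_natCast] at this
    rw [Nat.cast_pow, pow_two, this, Nat.cast_sum]
    exact Finset.sum_congr rfl fun ψ h => by rw [ha ψ h, H20.irr_deg h, Nat.cast_mul])
  have h4 : deg χ ≤ ∑ ψ ∈ Irr G, a ψ * c ψ := by
    have e := deg_le_nrm hab (chr_Res (irr_chr hχ) hH)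
    have e' : dot H χ χ = (∑ ψ ∈ Irr G, a ψ * c ψ : ℕ) := by
      rw [← dot_Res_right, ← mul_triv, ← star_star χ, ← dot_mul_left, star_star,
        H20.eq_sum_irr (chr_cf hc), dot_sum_left, Nat.cast_sum]
      exact Finset.sum_congr rfl fun ψ h => by rw [dot_smul_left, ha ψ h, hc' ψ h, Nat.cast_mul]
    rw [deg_Res, nrm, dot_Res_left, dot_Res_right, e', Complex.natCast_re] at e
    exact_mod_cast e
  have h5 : c (triv G) = 1 := Nat.cast_injective (R := ℂ) (by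
    rw [← hc' _ (triv_mem_Irr G), ← dot_Res_left, Res_triv hH, dot_triv_triv, Nat.cast_one])
  rw [← Finset.add_sum_erase _ _ (triv_mem_Irr G), h2] at h3 h4
  rw [h5] at h4
  rw [(lin_triv G).deg] at h3
  by_contra! h6
  have h7 : ∀ ψ ∈ (Irr G).erase (triv G), (1 + deg χ) * c ψ + 1 ≤ deg ψ := fun ψ h => by
    have e := Finset.mem_erase.1 h
    have := core hH hab hZ ho e.2 fun e' => e.1 ((irr_le_cker_iff e.2).1
      (hM _ (cker_normal e.2) e').ge)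
    rw [hc' ψ e.2, Complex.norm_natCast] at this
    have e1 : (((1 + deg χ) * c ψ : ℕ) : ℝ) ^ 2 < (deg ψ : ℝ) ^ 2 := by
      push_cast; nlinarith [sq_nonneg (c ψ : ℝ)]
    exact_mod_cast lt_of_pow_lt_pow_left₀ 2 (by positivity) e1
  have h8 := Finset.sum_le_sum fun ψ h => Nat.mul_le_mul_left (a ψ) (h7 ψ h)
  simp only [mul_add, mul_one, Finset.sum_add_distrib, mul_left_comm _ (1 + deg χ),
    ← Finset.mul_sum] at h8
  have h9 : ∑ ψ ∈ (Irr G).erase (triv G), a ψ ≠ 0 := fun e => by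
    rw [Finset.sum_eq_zero fun ψ h => by rw [Finset.sum_eq_zero_iff.1 e ψ h, zero_mul]] at h3
    exact h1 (by nlinarith)
  have := H20.irr_deg_pos hχ
  obtain ⟨d, hd⟩ : ∃ d, deg χ = d + 1 := ⟨_, (Nat.sub_add_cancel this).symm⟩
  rw [hd] at h3 h4 h8
  have := Nat.mul_le_mul_left (1 + (d + 1)) (show d ≤ _ by omega : d ≤
    ∑ ψ ∈ (Irr G).erase (triv G), a ψ * c ψ)
  have := Nat.pos_of_ne_zero h9
  nlinarith

theorem syl_der_cent {P : Subgroup Γ} (hP : Syl p P G) : P ⊓ ⁅G, G⁆ ⊓ C(G) ≤ ⁅P, P⁆ := fun z hz => by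
  have h1 := H3.inf_commutator_inf_center_le (H := P.subgroupOf G)
    (by rw [card_subgroupOf' hP.le]; exact hP.coprime)
  have h2 : (⟨z, hP.le hz.1.1⟩ : G) ∈ ⁅P.subgroupOf G, P.subgroupOf G⁆ := h1 ⟨⟨hz.1.1, by
    have := hz.1.2
    rw [← G.map_subtype_commutator] at this
    obtain ⟨y, hy, e⟩ := this
    rwa [show y = ⟨z, hP.le hz.1.1⟩ from Subtype.ext e] at hy⟩,
    mem_center_iff.2 fun g => Subtype.ext (mem_cent.1 hz.2 g g.2)⟩
  have h3 := mem_map_of_mem G.subtype h2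
  rwa [map_commutator, map_subgroupOf_eq_of_le hP.le] at h3

theorem psol_of_normal [hp : Fact p.Prime] {P : Subgroup Γ} (hP : Syl p P G) (h : P ⊴ G) :
    IsPSolvable p G := by
  haveI := h.subgroupOf
  refine H1.isPSolvable_of_normal (P.subgroupOf G) (H1.isPSolvable_of_isPGroup
    ((pG_iff.1 hP.pi).comap_subtype)) (H1.isPSolvable_of_coprime ?_)
  exact ((Nat.Prime.coprime_iff_not_dvd hp.out).2 (hP.not_dvd hp.out)).symm

theorem ftb (hp : p.Prime) (hχ : χ ∈ Chr ⊤) (hk : cker χ = ⊥) (hd : deg χ + 1 < p)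
    (h : ∀ K P : Subgroup Γ, ¬ p ^ 2 ∣ #K → Syl p P K → P ⊴ K) {P : Subgroup Γ}
    (hP : Syl p P G) : P ⊴ G := by
  haveI := Fact.mk hp
  induction' hn : #G using Nat.strong_induction_on with m ih generalizing G P
  subst hn
  replace ih : ∀ K < G, ∀ Q, Syl p Q K → Q ⊴ K := fun K a Q b => ih _ (card_lt a) b rfl
  have hab : ∀ A, PG p A → Ab A := fun A b => comm_iff_der.2 (le_bot_iff.1 (hk ▸
    (der_le_cker_of_lt hχ le_top fun q c d => by have : q = p := b q c d; omega)))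
  by_contra hc
  have h1 : ∀ M, M ⊴ G → P ≤ M → M = G := fun M a b => by_contra fun e => hc ⟨hP.le, by
    rw [(hP.of_le b a.le).eq_Oc (ih M (a.le.lt_of_ne e) P (hP.of_le b a.le)).norm]
    exact a.norm.trans (norm_le_norm_Oc _ _)⟩
  have hG := chr_Res hχ (le_top (a := G))
  have hk' : G ⊓ cker (Res G χ) = ⊥ :=
    le_bot_iff.1 (hk ▸ (le_cker_of_Res hχ le_top inf_le_left).1 inf_le_right)
  have h2 : ⁅G, G⁆ = G := by_contra fun e => by
    obtain ⟨Q, hQ⟩ := exists_syl p ⁅G, G⁆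
    have a := H1.isPSolvable_sup (hP.le.trans (der_normal G).norm)
      (H1.isPSolvable_of_isPGroup (pG_iff.1 hP.pi))
      (psol_of_normal hQ (ih _ ((der_le G).lt_of_ne e) Q hQ))
    rw [h1 _ (normal_of_der_le le_sup_right (sup_le hP.le (der_le G))) le_sup_left] at a
    obtain ⟨e'⟩ := quo_equiv (NormalIn.bot G).norm (bot_inf_eq G)
    have := (ito_small ((H1.isPSolvable_congr e').1 a) hG hk' (by rw [deg_Res]; omega)
      fun e => hc ((Rp_eq_bot hP).1 e)).1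
    rw [deg_Res] at this
    omega
  have hz : ∀ Q, Syl p Q G → Q ⊓ C(G) = ⊥ := fun Q hQ => le_bot_iff.1 (by
    rw [← comm_iff_der.1 (hab Q hQ.pi)]
    exact le_trans (inf_le_inf_right _ (le_inf le_rfl (h2.symm ▸ hQ.le))) (syl_der_cent hQ))
  have h3 : ∀ g ∈ G, g ∉ C(G) → ∀ Q, Syl p Q (G ⊓ C[g]) → Q ⊴ G ⊓ C[g] := fun g a b =>
    ih _ (inf_le_left.lt_of_ne fun e => b (le_cent1_iff.1 (inf_eq_left.1 e)))
  have h4 : ∀ Q, Syl p Q G → ∀ x ∈ Q, x ≠ 1 → ∀ R, R ≤ G ⊓ C[x] → PG p R → R ≤ Q :=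
    fun Q a x b c R d e => by
    have f := a.of_le (le_inf a.le (le_cent1_iff.2 (comm_iff_le_cent.1 (hab Q a.pi) b))) inf_le_left
    exact f.le_of_normal (h3 x (a.le b) (fun e => c (mem_bot.1 (hz Q a ▸ ⟨b, e⟩))) Q f).norm d e
  have ho : One P G := fun g a b k c d e => by
    obtain ⟨x, ⟨x1, x2⟩, x3⟩ := ex1 d
    obtain ⟨y, ⟨y1, y2⟩, y3⟩ := ex1 e
    have hk := hP.Jmem c
    obtain ⟨Q, hQ⟩ := exists_syl p (G ⊓ C[g])
    have f := h3 g a b Q hQ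
    have f1 := hQ.le_of_normal f.norm (zpowers_le.2 ⟨hP.le x1, mem_cent1.2 (mem_cent1.1 x2)⟩)
      (hP.pi.of_le (zpowers_le.2 x1))
    have f2 := hQ.le_of_normal f.norm (zpowers_le.2 ⟨hk.le y1, y2⟩) (hk.pi.of_le (zpowers_le.2 y1))
    have f3 := h4 P hP x x1 x3 Q (le_inf (hQ.le.trans inf_le_left) (le_cent1_iff.2
      (comm_iff_le_cent.1 (hab Q hQ.pi) (f1 (mem_zpowers x))))) hQ.pi (f2 (mem_zpowers y))
    exact mem_norm_of_cj_le (h4 P hP y f3 y3 _ (le_inf hk.le (le_cent1_iff.2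
      (comm_iff_le_cent.1 (hab _ hk.pi) y1))) hk.pi)
  obtain ⟨ψ, a, b, c⟩ : ∃ ψ ∈ Irr G, dot G (Res G χ) ψ ≠ 0 ∧ deg ψ ≠ 1 := by
    by_contra! e
    have : ⁅G, G⁆ ≤ cker (Res G χ) := le_cker_of_constituents hG fun ψ a b =>
      (irr_lin_iff a).1 ⟨irr_chr a, by rw [H20.irr_deg a, e ψ a b, Nat.cast_one]⟩
    rw [h2] at this
    exact hc ⟨hP.le, ((le_inf le_rfl this).trans hk'.le).trans bot_le⟩
  have h5 := core2 hP.le (hab P hP.pi) (hz P hP) ho a c h1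
  have h6 := deg_le_of_dot hG a b
  rw [deg_Res] at h6
  have h7 := Nat.le_of_dvd (card_pos P) (hP.dvd (PiN.pow ((piN_prime hp).2 (Set.mem_singleton p)) 2)
    (by_contra fun e => hc (h G P e hP)))
  have h8 : #P < (1 + deg ψ) ^ 2 := by exact_mod_cast h5
  have := Nat.pow_le_pow_left (show 1 + deg ψ ≤ p by omega) 2
  omega

end H5.FTB
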