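import Cfsg.Prelude.Def_Classical
import Cfsg.Prelude.Def_Sporadic
import Cfsg.Prelude.Def_LieTwisted

/-! Interface for S3535 (groups isospectral to symplectic and orthogonal groups); see `notes/IS.md`. -/

set_option autoImplicit false

namespace H5.IS

open Subgroup

/-- the spectrum -/
abbrev om (G : Type*) [Monoid G] : Set ℕ := Set.range (orderOf : G → ℕ)

/-- the 26 sporadic orders and the order of the Tits group, each with its 2-adic valuation -/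
def ords : List (ℕ × ℕ) := [(7920, 4), (95040, 6), (443520, 7), (10200960, 7), (244823040, 10), (175560, 3),
  (604800, 7), (50232960, 7), (86775571046077562880, 21), (4157776806543360000, 21), (42305421312000, 18),
  (495766656000, 10), (64561751654400, 17), (4089470473293004800, 18), (1255205709190661721292800, 21),
  (44352000, 9), (898128000, 7), (4030387200, 10), (145926144000, 14), (448345497600, 13), (460815505920, 9),
  (273030912000000, 14), (51765179004000000, 8), (90745943887872000, 15),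
  (4154781481226426191177580544000000, 41), (808017424794512875886459904961710757005754368000000000, 46),
  (17971200, 11)]

/-! ### Spectra of the classical groups -/

/-- facts shared by `B_n, C_n` (`lo = hi = n`) and `D_n^±` (`lo = n - 1`, `hi = n`) over `F_q`, `q` a power of `p` -/
structure Cm (W : Set ℕ) (p q lo hi : ℕ) : Prop where
  pin : p ∈ W
  inn : ∀ r m, r.Prime → r ≠ 2 → 0 < m → m ≤ lo → r ∣ q ^ (2 * m) - 1 → r ∈ W
  pw : ∀ r j, r.Prime → r ≠ 2 → r ≠ p → 0 < j → r ^ j ∈ W → ∃ m ≤ hi, 0 < m ∧ r ^ j ∣ q ^ (2 * m) - 1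
  rs : ∀ r s, r.Prime → s.Prime → r ≠ 2 → s ≠ 2 → r ≠ p → s ≠ p → r ≠ s → r * s ∈ W →
    (∃ m ≤ hi, ∃ l ≤ hi, 0 < m ∧ 0 < l ∧ m + l ≤ hi ∧ r ∣ q ^ (2 * m) - 1 ∧ s ∣ q ^ (2 * l) - 1) ∨
      ∃ m ≤ hi, 0 < m ∧ (r * s ∣ q ^ m - 1 ∨ r * s ∣ q ^ m + 1)
  rp : ∀ r, r.Prime → r ≠ 2 → r ≠ p → r * p ∈ W → ∃ m < hi, 0 < m ∧ r ∣ q ^ (2 * m) - 1

/-- primitive prime divisors of `q ^ e - 1` are not adjacent to `2` -/
def Eo (W : Set ℕ) (q e : ℕ) : Prop := ∀ r : ℕ, r.Prime → orderOf (q : ZMod r) = e → 2 * r ∉ W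

/-- the full powers of primitive prime divisors of `q ^ e - 1` are element orders -/
def En (W : Set ℕ) (q e : ℕ) : Prop :=
  ∀ r j : ℕ, r.Prime → orderOf (q : ZMod r) = e → r ^ j ∣ q ^ e - 1 → r ^ j ∈ W

/-- the indices `e` used; type `t = 0`: `B_n, C_n`, `t = 1`: `D_n^+`, `t = 2`: `D_n^-` -/
def Es (t n q : ℕ) : List ℕ :=
  if t = 0 then
    if q % 2 = 0 then (if n % 2 = 1 then [2 * n, n] else [2 * n]) else if n % 2 = 0 ∨ q % 4 = 1 then [2 * n] else [n]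
  else if t = 1 then
    if q % 2 = 0 then [2 * n - 2, if n % 2 = 1 then n else n - 1]
    else if q % 4 = 1 then [2 * n - 2] else if n % 2 = 0 then [n - 1] else [n]
  else if q % 2 = 0 then [2 * n, 2 * n - 2] else if n % 2 = 0 ∨ q % 4 = 1 then [2 * n] else [2 * n - 2]

/-- upper bound: the spectrum of `Sp₈(2)` -/
def W8 (W : Set ℕ) : Prop :=
  ∀ m ∈ W, m ∣ 14 ∨ m ∣ 15 ∨ m ∣ 17 ∨ m ∣ 18 ∨ m ∣ 20 ∨ m ∣ 21 ∨ m ∣ 24 ∨ m ∣ 30

/-- what is used of the spectrum of `Sp₆(2)`, `Ω₈⁺(2)` -/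
def W6 (W : Set ℕ) : Prop := W8 W ∧ 14 ∉ W ∧ 17 ∉ W ∧ 18 ∉ W ∧ 21 ∉ W ∧ 9 ∈ W

/-- anisotropic binary form -/
abbrev An {F : Type} [Field F] (a b : F) : Prop := ∀ z₁ z₂ : F, z₁ ^ 2 + a * z₁ * z₂ + b * z₂ ^ 2 = 0 → z₁ = 0 ∧ z₂ = 0

/-- `C_n` -/
def SC : Prop := ∀ (F : Type) [Field F] [Fintype F] (p : ℕ) [Fact p.Prime] [CharP F p] (n : ℕ), 2 ≤ n →
  Cm (om (Cfsg.PSp n F)) p (Fintype.card F) n n ∧ ∀ e ∈ Es 0 n (Fintype.card F),
    Eo (om (Cfsg.PSp n F)) (Fintype.card F) e ∧ En (om (Cfsg.PSp n F)) (Fintype.card F) e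

/-- `B_n` -/
def SB : Prop := ∀ (F : Type) [Field F] [Fintype F] (p : ℕ) [Fact p.Prime] [CharP F p] (n : ℕ), 3 ≤ n →
  Odd (Fintype.card F) → Cm (om (Cfsg.POmega F (Cfsg.quadFormOdd n F))) p (Fintype.card F) n n ∧
    ∀ e ∈ Es 0 n (Fintype.card F), Eo (om (Cfsg.POmega F (Cfsg.quadFormOdd n F))) (Fintype.card F) e ∧
      En (om (Cfsg.POmega F (Cfsg.quadFormOdd n F))) (Fintype.card F) e

/-- a property of the spectra of `D_n^±`, `n ≥ 4`; arguments `W p q t n` -/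
def SD (A : Set ℕ → ℕ → ℕ → ℕ → ℕ → Prop) : Prop :=
  ∀ (F : Type) [Field F] [Fintype F] (p : ℕ) [Fact p.Prime] [CharP F p] (n : ℕ), 4 ≤ n →
    A (om (Cfsg.POmega F (Cfsg.quadFormPlus n F))) p (Fintype.card F) 1 n ∧ ∀ a b : F, An a b →
      A (om (Cfsg.POmega F (Cfsg.quadFormMinus (n - 1) F a b))) p (Fintype.card F) 2 n

def DC : Prop := SD fun W p q _ n => Cm W p q (n - 1) n
def DN : Prop := SD fun W _ q t n => ∀ e ∈ Es t n q, En W q e
def DE : Prop := SD fun W _ q t n => q % 2 = 0 → ∀ e ∈ Es t n q, Eo W q e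
def DO : Prop := SD fun W _ q t n => q % 2 = 1 → ∀ e ∈ Es t n q, Eo W q e

/-- `Sp₈(2)`, `Ω₈⁻(2)` -/
def V8 : Prop := ∀ (F : Type) [Field F] [Fintype F], Fintype.card F = 2 →
  (W8 (om (Cfsg.PSp 4 F)) ∧ 9 ∈ om (Cfsg.PSp 4 F) ∧ 21 ∈ om (Cfsg.PSp 4 F)) ∧ ∀ a b : F, An a b →
    W8 (om (Cfsg.POmega F (Cfsg.quadFormMinus 3 F a b))) ∧ 9 ∈ om (Cfsg.POmega F (Cfsg.quadFormMinus 3 F a b)) ∧
      21 ∈ om (Cfsg.POmega F (Cfsg.quadFormMinus 3 F a b))

/-- `Sp₆(2)`, `Ω₈⁺(2)` -/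
def V6 : Prop := ∀ (F : Type) [Field F] [Fintype F], Fintype.card F = 2 →
  W6 (om (Cfsg.PSp 3 F)) ∧ W6 (om (Cfsg.POmega F (Cfsg.quadFormPlus 4 F)))

/-- `PSp₄(5)` and the Tits group -/
def V5 : Prop := (∀ (F : Type) [Field F] [Fintype F], Fintype.card F = 5 → 8 ∉ om (Cfsg.PSp 2 F)) ∧
  8 ∈ om Cfsg.Lie.TitsGroup ∧ Nat.card Cfsg.Lie.TitsGroup = 17971200

/-! ### Arithmetic -/

/-- the residual cases `(t, n, q, N)` -/
def resid : List (ℕ × ℕ × ℕ × ℕ) := [(0, 3, 11, 175560), (1, 4, 11, 175560), (0, 3, 11, 273030912000000),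
  (1, 4, 11, 273030912000000), (0, 3, 5, 604800), (1, 4, 5, 604800), (0, 6, 2, 64561751654400),
  (2, 6, 2, 64561751654400), (0, 6, 2, 448345497600), (2, 6, 2, 448345497600), (0, 6, 2, 17971200),
  (0, 3, 17, 145926144000), (1, 4, 17, 145926144000), (0, 2, 13, 4030387200), (0, 2, 8, 17971200),
  (0, 3, 3, 17971200), (1, 4, 3, 17971200), (0, 2, 307, 145926144000), (0, 2, 7, 604800), (0, 2, 5, 17971200),
  (0, 3, 2, 604800), (1, 4, 2, 604800), (1, 4, 2, 4030387200), (0, 4, 2, 4030387200), (2, 4, 2, 4030387200)]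

def NU : Prop := ∀ (t n p f N a : ℕ), p.Prime → 0 < f → t ≤ 2 → 2 ≤ n → (t ≠ 0 → 4 ≤ n) → (n = 2 → 3 < p ^ f) →
  (N, a) ∈ ords → (∀ e ∈ Es t n (p ^ f), ∀ r : ℕ, r.Prime → orderOf ((p ^ f : ℕ) : ZMod r) = e →
    r ∣ N ∧ ∀ j, r ^ j ∣ (p ^ f) ^ e - 1 → r ^ j ∣ N * (2 ^ a - 1)) →
  (∀ r : ℕ, r.Prime → r ∣ N → r = 2 ∨ r = p ∨ ∃ m ≤ n, 0 < m ∧ r ∣ (p ^ f) ^ (2 * m) - 1) → (t, n, p ^ f, N) ∈ resid

/-! ### Groups -/

/-- `G` modulo a solvable normal subgroup is almost simple with socle `S` -/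
structure St {G B : Type} [Group G] [Group B] (π : G →* B) (S : Subgroup B) : Prop where
  sj : Function.Surjective π
  sol : Group.IsSolvable π.ker
  nor : S.Normal
  sim : IsSimpleGroup S
  nab : ¬ IsMulCommutative S
  cen : centralizer (S : Set B) = ⊥

/-- simple sections of groups without four-groups -/
def DI : Prop := ∀ (Y X : Type) [Group Y] [Finite Y] [Group X] (H : Subgroup Y) (f : H →* X),
  Function.Surjective f → IsSimpleGroup X → ¬ IsMulCommutative X →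
  (∀ a b : Y, orderOf a = 2 → orderOf b = 2 → Commute a b → a = b) → Nat.card X ∉ ords.map Prod.fst

def RD : Prop := ∀ (G X : Type) [Group G] [Finite G] [Group X] (H : Subgroup G) (f : H →* X) (r : ℕ),
  H.IsSubnormal → Function.Surjective f → IsSimpleGroup X → ¬ IsMulCommutative X →
  Nat.card X ∈ ords.map Prod.fst → r.Prime → r ≠ 2 → r ∈ om G → 2 * r ∉ om G →
  ∃ (B : Type) (_ : Group B) (π : G →* B) (S : Subgroup B), St π S ∧ Nonempty (S ≃* X)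

def T1 : Prop := ∀ (G B : Type) [Group G] [Finite G] [Group B] [Finite B] (π : G →* B) (S : Subgroup B) (a r : ℕ),
  St π S → (Nat.card S, a) ∈ ords → r.Prime → r ≠ 2 → r ∈ om G → 2 * r ∉ om G →
  ¬ r ∣ Nat.card π.ker ∧ r ∣ Nat.card S ∧ ∀ j, r ^ j ∣ Nat.card B → r ^ j ∣ Nat.card S * (2 ^ a - 1)

def RT : Prop := DI → RD ∧ T1

/-- a coclique `t, s, u` with `s, u` not dividing `#S` -/
def CQ : Prop := ∀ (G B : Type) [Group G] [Finite G] [Group B] [Finite B] (π : G →* B) (S : Subgroup B) (t s u k m : ℕ),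
  St π S → t.Prime → s.Prime → u.Prime → s ≠ u → Nat.card S = t ^ k * m → ¬ t ∣ m → 0 < k →
  ¬ s ∣ Nat.card S → ¬ u ∣ Nat.card S → ¬ s ∣ t ^ k - 1 → ¬ u ∣ t ^ k - 1 → s ∈ om G → u ∈ om G →
  t * s ∉ om G → t * u ∉ om G → s * u ∉ om G → False

/-- `s` divides the order of the radical, so Sylow `t`-subgroups are cyclic -/
def CY : Prop := ∀ (G B : Type) [Group G] [Finite G] [Group B] [Finite B] (π : G →* B) (S : Subgroup B) (t s k m : ℕ),
  St π S → t.Prime → s.Prime → t ≠ 2 → Nat.card S = t ^ k * m → ¬ t ∣ m → 2 ≤ k →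
  ¬ s ∣ Nat.card S → ¬ s ∣ t ^ k - 1 → s ∈ om G → t * s ∉ om G → t ^ 2 ∈ om G

/-- cyclic Sylow 5-subgroups -/
def CT : Prop := T1 → ∀ (G B : Type) [Group G] [Finite G] [Group B] [Finite B] (π : G →* B) (S : Subgroup B), St π S →
  (Nat.card S = 604800 ∧ 25 ∈ om G ∨ Nat.card S = 145926144000 ∧ 125 ∈ om G) →
  10 ∉ om G → 15 ∉ om G → 35 ∉ om G → False

/-- Mazurov's lemma on Frobenius subgroups `⟨x⟩ ⋊ ⟨g⟩` of a quotient -/
def FR : Prop := ∀ (G B : Type) [Group G] [Finite G] [Group B] [Finite B] (π : G →* B) (x g : B) (r s : ℕ),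
  Function.Surjective π → Group.IsSolvable π.ker → r.Prime → orderOf x = r → ¬ r ∣ Nat.card π.ker →
  (∀ t : ℕ, t.Prime → t ∣ Nat.card π.ker → r * t ∉ om G) → g * x * g⁻¹ ∈ zpowers x →
  (∀ i : ℕ, Commute (g ^ i) x → g ^ i = 1) → s.Prime → s ∣ Nat.card π.ker → s * orderOf g ∈ om G

/-- a Sylow subgroup `C₉ × C₃` with automizer `C₂ × C₂` -/
structure P9 {S : Type} [Group S] (a b s : S) : Prop where
  oa : orderOf a = 9
  ob : orderOf b = 3
  cm : Commute a b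
  nb : b ∉ zpowers a
  cd : Nat.card (zpowers a ⊔ zpowers b : Subgroup S) = 27
  sg : ∀ g ∈ normalizer ((zpowers a ⊔ zpowers b : Subgroup S) : Set S),
    (g * a * g⁻¹ = a ∨ g * a * g⁻¹ = a⁻¹) ∧ (g * b * g⁻¹ = b ∨ g * b * g⁻¹ = b⁻¹)
  sa : s * a * s⁻¹ = a⁻¹
  sb : s * b * s⁻¹ = b
  ix : (centralizer ((zpowers a ⊔ zpowers b : Subgroup S) : Set S)).relIndex
    (normalizer ((zpowers a ⊔ zpowers b : Subgroup S) : Set S)) = 4

def P27 : Prop := ∀ (S : Type) [Group S] [Finite S], IsSimpleGroup S → ¬ IsMulCommutative S →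
  27 ∣ Nat.card S → ¬ 81 ∣ Nat.card S → 9 ∈ om S → 27 ∉ om S → ∃ a b s : S, P9 a b s

/-- order of `J₂` -/
def J6 : Prop := T1 → FR → P27 → ∀ (G B : Type) [Group G] [Finite G] [Group B] [Finite B] (π : G →* B) (S : Subgroup B),
  St π S → Nat.card S = 604800 → W6 (om G) → False

/-- order of `He`: first reduction -/
def HA : Prop := T1 → FR → ∀ (G B : Type) [Group G] [Finite G] [Group B] [Finite B] (π : G →* B) (S : Subgroup B),
  St π S → Nat.card S = 4030387200 → W8 (om G) → S = ⊤ ∧ IsPGroup 3 π.ker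

def SO : Prop := ∀ (Y : Type) [Group Y] [Finite Y], Nat.card Y ∣ 2 ^ 10 * 27 * 343 →
  (∀ m ∈ om Y, m ∣ 14 ∨ m ∣ 21) → Group.IsSolvable Y

/-- centralizers of elements of order 7 are 7-closed -/
def Cl (Y : Type) [Group Y] : Prop := ∀ x : Y, orderOf x = 7 →
  ∃ Q : Subgroup Y, IsPGroup 7 Q ∧ ∀ u : Y, Commute x u → orderOf u = 7 → u ∈ Q

/-- the number of Sylow 7-subgroups -/
def C7 : Prop := ∀ (Y : Type) [Group Y] [Finite Y] [Fact (Nat.Prime 7)] (R : Sylow 7 Y), Cl Y → 49 ∉ om Y →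
  (Nat.card R = 49 → Nat.card (Sylow 7 Y) % 49 = 1) ∧ (Nat.card R = 343 → ∃ k ≤ 8,
    Nat.card (Sylow 7 Y) % 343 = (1 + 7 * k + 49 * (k * (k - 1))) % 343 ∧ (14 ∉ om Y → k = 0))

/-- order `#He`, spectrum inside that of `Sp₈(2)` -/
structure He (S : Type) [Group S] : Prop where
  cd : Nat.card S = 4030387200
  om : W8 (om S)

/-- normalizers of Sylow 7-subgroups -/
def HD (S : Type) [Group S] : Prop := ∀ R : Subgroup S, Nat.card R = 343 →
  ¬ 27 ∣ Nat.card (normalizer (R : Set S)) ∧ (3 ∣ Nat.card (normalizer (R : Set S)) → 9 ∣ Nat.card (normalizer (R : Set S)))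

def HN : Prop := C7 → ∀ (S : Type) [Group S] [Finite S], He S → HD S ∧ ¬ Cl S

def HK : Prop := SO → ∀ (G S : Type) [Group G] [Finite G] [Group S] [Finite S] (π : G →* S), Function.Surjective π →
  IsSimpleGroup S → IsPGroup 3 π.ker → π.ker ≠ ⊥ → He S → W8 (om G) → Cl S

/-- no element of order 7 centralizes `Ω₁(P)` -/
def N7 {S : Type} [Group S] (a b : S) : Prop := ∀ x : S, orderOf x = 7 → Commute x (a ^ 3) → ¬ Commute x b

def H1 : Prop := SO → ∀ (S : Type) [Group S] [Finite S] (a b s : S), He S → HD S → P9 a b s → N7 a b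

/-- a large 7-subgroup in `C(y)` -/
def Bg {S : Type} [Group S] (a b y : S) : Prop := 343 ∣ Nat.card (centralizer {y}) ∨ ∃ X : Subgroup S,
  Nat.card X = 49 ∧ X ≤ centralizer {y} ∧ a ^ 3 ∈ normalizer (X : Set S) ∧ b ∈ normalizer (X : Set S)

def H2 : Prop := SO → ∀ (S : Type) [Group S] [Finite S] (a b s : S), He S → HD S → P9 a b s → N7 a b → 21 ∈ om S →
  Bg a b (a ^ 3) ∨ Bg a b b

def H3 : Prop := C7 → ∀ (S : Type) [Group S] [Finite S] (a b s y : S), He S → HD S → P9 a b s → N7 a b →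
  y = a ^ 3 ∨ y = b → ¬ Bg a b y

end H5.IS
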