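import Cfsg.Agent.H5.IS1
import Cfsg.Agent.H4.OX11
import Cfsg.Agent.H3.FrobAction

/-! S3535: the reduction to the socle. -/

set_option autoImplicit false
set_option linter.unusedSectionVars false

namespace H5.IS

open Subgroup Function H19 H4.OZ H17.GS

variable {G B X : Type} [Group G] [Finite G] [Group B] [Finite B] [Group X] {π : G →* B} {S : Subgroup B}
  {H P K : Subgroup G} {r s t : ℕ} {x y : G}

theorem ne_of (h : 2 * r ∉ om G) : NE r G := fun g e => h ⟨g, e⟩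

theorem om_mul (hx : orderOf x = r) (hy : orderOf y = s) (c : r.Coprime s) (h : y ∈ C[x]) : r * s ∈ om G :=
  ⟨x * y, by rw [Commute.orderOf_mul_eq_mul_orderOf_of_coprime (mem_cent1.1 h).symm (by rwa [hx, hy]), hx, hy]⟩

/-- an `r`-group acting on an `s`-group when `rs` is not an element order -/
theorem semireg (hr : r.Prime) (hs : s.Prime) (n : r ≠ s) (h : r * s ∉ om G) (hK : PG r K) (hP : PG s P) : Semireg K P :=
  fun x hx x1 => by_contra fun m => by
    obtain ⟨y, hy, oy⟩ := exists_orderOf_eq_prime hr ((hK.infl _).dvd_of_ne_bot m)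
    obtain ⟨z, hz, oz⟩ := exists_orderOf_eq_prime hs ((hP.of_le (zpowers_le.2 hx)).dvd_of_ne_bot (by simpa using x1))
    exact h (om_mul oy oz ((Nat.coprime_primes hr hs).2 n) (mem_cent1_symm.1 (cent1_le_cent1_of_mem_zpowers hz hy.2)))

theorem dvd_pred (hr : r.Prime) (hs : s.Prime) (n : r ≠ s) (h : r * s ∉ om G) (hK : PG r K) (hP : PG s P)
    (l : P ≤ N(K)) : #P ∣ #K - 1 := H3.card_dvd_card_sub_one_of_fpf l (semireg hr hs n h hK hP)

theorem frat (sj : Surjective π) (hP : Syl r P π.ker) : N(P).map π = ⊤ := by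
  have := congrArg (Subgroup.map π) (hP.frattini normalIn_top)
  rwa [Subgroup.map_sup, top_inf_eq, (Subgroup.map_eq_bot_iff _).2 le_rfl, bot_sup_eq, map_top_of_surjective _ sj] at this

theorem card_ker (sj : Surjective π) : Nat.card G = Nat.card B * #π.ker := by
  rw [card_eq_card_quotient_mul_card_subgroup π.ker,
    Nat.card_congr (QuotientGroup.quotientKerEquivOfSurjective π sj).toEquiv]

theorem DI.ker (D : DI) (h : NE r G) (hr : r.Prime) (r2 : r ≠ 2) (sj : Surjective π) {f : S →* X} (hf : Surjective f)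
    (hs : IsSimpleGroup X) (hn : ¬ IsMulCommutative X) (hc : Nat.card X ∈ ords.map Prod.fst) : ¬ r ∣ #π.ker := fun d => by
  obtain ⟨P, hP⟩ := exists_syl r π.ker
  have sj' : Surjective (π.comp N(P).subtype) := by
    rw [← MonoidHom.range_eq_top, MonoidHom.range_comp, range_subtype, frat sj hP]
  refine D N(P) X _ (f.comp ((π.comp N(P).subtype).subgroupComap S))
    (hf.comp (MonoidHom.subgroupComap_surjective_of_surjective _ _ sj')) hs hn (fun a b ha hb c => by_contra fun n => ?_) hc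
  rw [← Subgroup.orderOf_coe] at ha hb
  have k : ∀ {z : G}, orderOf z = 2 → z * z = 1 := fun e => by rw [← sq, ← e, pow_orderOf_eq_one]
  obtain ⟨Y, hY, m⟩ := (el4 (ne_one_of_ord2 ha) (ne_one_of_ord2 hb) (fun e => n (Subtype.ext e)) (k ha) (k hb)
    (congrArg Subtype.val c)).exists_cent_ne_bot (sup_le (zpowers_le.2 a.2) (zpowers_le.2 b.2))
    (hP.pi.mono fun q e e' => r2 (e.symm.trans e')) (hP.sne_bot hr d)
  obtain ⟨t, -, t2, rfl⟩ := hY.exists_gen
  obtain ⟨x, hx, ox⟩ := exists_orderOf_eq_prime hr ((hP.pi.infl _).dvd_of_ne_bot m)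
  exact h.comm hr r2 ox t2 (cent_zpowers t ▸ hx.2)

theorem nsol (hs : IsSimpleGroup X) (hn : ¬ IsMulCommutative X) : ¬ Group.IsSolvable X := fun h =>
  hn ⟨⟨IsSimpleGroup.comm_iff_isSolvable.2 h⟩⟩

theorem St.dvd (h : St π S) (n : NE r B) (hr : r.Prime) (r2 : r ≠ 2) (d : r ∣ Nat.card B) : r ∣ #S := by_contra fun m => by
  obtain ⟨a, oa⟩ := om_prime hr d
  have cA : #(zpowers a) = r := by rw [Nat.card_zpowers, oa]
  have := h.nor
  exact nsol h.sim h.nab (Fp.solvable (A := zpowers a) ⟨cA ▸ hr, cA ▸ hr.odd_of_ne_two r2, le_normalizer_of_normal,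
    cA ▸ (hr.coprime_iff_not_dvd.2 m).symm, by_contra fun o =>
      let ⟨t, ht, t2⟩ := exists_inv o; n.comm hr r2 oa t2 (mem_cent1_symm.1 (cent_zpowers a ▸ ht.2))⟩)

theorem fac (f : H →* X) (hf : Surjective f) (k : π.ker.subgroupOf H ≤ f.ker) :
    ∃ f' : H.map π →* X, Surjective f' :=
  have k' : (π.subgroupMap H).ker ≤ f.ker := fun _ hx => k (congrArg Subtype.val hx)
  ⟨(π.subgroupMap H).liftOfSurjective (π.subgroupMap_surjective H) ⟨f, k'⟩, fun y =>
    let ⟨x, e⟩ := hf y; ⟨_, (MonoidHom.liftOfRightInverse_comp_apply _ _ _ ⟨f, k'⟩ x).trans e⟩⟩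

theorem ords_two : ∀ x ∈ ords, 2 ^ x.2 ∣ x.1 ∧ ¬ 2 ^ (x.2 + 1) ∣ x.1 := by decide +kernel

theorem syl_card (hr : r.Prime) (hP : Syl r P H) {k : ℕ} (h1 : r ^ k ∣ #H) (h2 : ¬ r ^ (k + 1) ∣ #H) : #P = r ^ k := by
  obtain ⟨j, e⟩ := hP.pi.exists_card
  have a := (Nat.pow_dvd_pow_iff_le_right hr.one_lt).1 (e ▸ hP.dvd (PiN.prime_pow hr k) h1)
  rw [e, le_antisymm (by_contra fun c => h2 ((pow_dvd_pow r (by omega)).trans (e ▸ card_dvd hP.le))) a]

theorem t1 (D : DI) : T1 := fun G B _ _ _ _ π S a r h ha hr r2 h1 h2 => by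
  have n := ne_of h2
  have := h.nor
  have k := D.ker n hr r2 h.sj (f := .id S) surjective_id h.sim h.nab (List.mem_map_of_mem ha)
  obtain ⟨x, hx⟩ := h1
  refine ⟨k, h.dvd (n.map h.sj) hr r2 ((hr.dvd_mul.1 (card_ker h.sj ▸ hx ▸ orderOf_dvd_natCard x)).resolve_right k),
    fun j hj => ?_⟩
  obtain ⟨T, hT⟩ := exists_syl 2 S
  obtain ⟨R, hR⟩ := exists_syl r N(T)
  have c := card_sup_dvd (A := S) (B := N(T)) le_normalizer_of_normal
  rw [← top_inf_eq N(T), hT.frattini normalIn_top, top_inf_eq, card_top, ← hR.card_mul, ← mul_assoc] at c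
  rw [← syl_card Nat.prime_two hT (ords_two _ ha).1 (ords_two _ ha).2]
  exact ((PiN.prime_pow hr j).dvd_of_dvd_mul hR.idx (hj.trans c)).trans (Nat.mul_dvd_mul_left _
    (dvd_pred Nat.prime_two hr r2.symm (fun e => h2 (om_sj h.sj e)) hT.pi hR.pi hR.le))

theorem rd (D : DI) : RD := fun G X _ _ _ H f r hH hf hs hn hc hr r2 ⟨x, hx⟩ h2 => by
  have n := ne_of h2
  have d : r ∣ Nat.card G := hx ▸ orderOf_dvd_natCard x
  have ns := nsol hs hn
  obtain ⟨S, a1, a2, a3, a4⟩ := s4008 (R := Cfsg.solvableRadical G) (fun s => ns (Group.isSolvable_of_surjective hf)) hr r2 d n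
    H1.solvRad_isSolvable fun N a b => H1.le_solvRad a b
  set π := QuotientGroup.mk' (Cfsg.solvableRadical G)
  have h : St π S := ⟨QuotientGroup.mk'_surjective _, by rw [QuotientGroup.ker_mk']; exact H1.solvRad_isSolvable, a1, a2, a3, a4⟩
  refine ⟨_, _, π, S, h, ?_⟩
  obtain ⟨f', hf'⟩ := fac (π := π) f hf ((Subgroup.map_eq_bot_iff _).1
    (((inferInstance : (π.ker.subgroupOf H).Normal).map f hf).eq_bot_or_eq_top.resolve_right fun e => ns (by
      have := h.sol
      have : Group.IsSolvable (π.ker.subgroupOf H) := H1.isSolvable_comap _ this (by rw [ker_subtype]; infer_instance)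
      have : Group.IsSolvable (⊤ : Subgroup X) := e ▸ H1.isSolvable_map this f
      exact Group.isSolvable_of_surjective (f := (⊤ : Subgroup X).subtype) fun x => ⟨⟨x, mem_top x⟩, rfl⟩)))
  have nt : (⊥ : Subgroup X) ≠ ⊤ := bot_ne_top
  rcases ((inferInstance : (S.subgroupOf (H.map π)).Normal).map f' hf').eq_bot_or_eq_top with e | e
  · obtain ⟨f'', hf''⟩ := fac (π := QuotientGroup.mk' S) f' hf' (by rwa [QuotientGroup.ker_mk', ← Subgroup.map_eq_bot_iff])
    refine absurd ?_ (D.ker (n.map h.sj) hr r2 (QuotientGroup.mk'_surjective S) hf'' hs hn hc)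
    rw [QuotientGroup.ker_mk']
    exact h.dvd (n.map h.sj) hr r2 ((hr.dvd_mul.1 (card_ker h.sj ▸ d)).resolve_right (D.ker n hr r2 h.sj hf' hs hn hc))
  have l : S ≤ H.map π := subgroupOf_eq_top.1 ((((hH.map h.sj).subgroupOf (K := S)).eq_bot_or_top_of_isSimpleGroup a2).resolve_left
    fun b => nt (by rw [← e, subgroupOf_eq_bot.2 (subgroupOf_eq_bot.1 b).symm, Subgroup.map_bot]))
  have sj : Surjective (f'.comp (inclusion l)) := fun y =>
    let ⟨z, hz, b⟩ := e.ge (mem_top y); ⟨⟨_, hz⟩, b⟩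
  refine ⟨.ofBijective _ ⟨(MonoidHom.ker_eq_bot_iff _).1 ((MonoidHom.normal_ker _).eq_bot_or_eq_top.resolve_right fun b => nt ?_), sj⟩⟩
  rw [← map_top_of_surjective _ sj, ← b, eq_comm, Subgroup.map_eq_bot_iff]

theorem rt : RT := fun D => ⟨rd D, t1 D⟩

end H5.IS
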