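import Cfsg.Agent.H5.IS2
import Cfsg.Agent.S3633
import Cfsg.Agent.S0985
import Cfsg.Agent.H5.SyN

/-! S3535: chunks CQ, CY, CT, J6, HA. -/

set_option autoImplicit false
set_option linter.unusedSectionVars false

namespace H5.IS

open Subgroup Function H19

variable {G B : Type} [Group G] [Finite G] [Group B] [Finite B] {π : G →* B} {S : Subgroup B}
  {H P K : Subgroup G} {r s t k m : ℕ} {x y : G}

theorem ker_dvd (h : St π S) (ht : t.Prime) (hs : s.Prime) (c : #S = t ^ k * m) (c1 : ¬ t ∣ m) (k0 : 0 < k)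
    (c2 : ¬ s ∣ #S) (c3 : ¬ s ∣ t ^ k - 1) (h1 : s ∈ om G) (h2 : t * s ∉ om G) : s ∣ #π.ker := by
  obtain ⟨x, hx⟩ := h1
  refine (hs.dvd_mul.1 (card_ker h.sj ▸ hx ▸ orderOf_dvd_natCard x)).resolve_left fun d => c3 ?_
  obtain ⟨a, oa⟩ := om_prime hs d
  have cA : #(zpowers a) = s := by rw [Nat.card_zpowers, oa]
  have := h.nor
  obtain ⟨P, hP, n⟩ := inv_syl_exists (A := zpowers a) (K := S) t le_normalizer_of_normal
    (cA ▸ (hs.coprime_iff_not_dvd.2 c2).symm) (.inl (sol_zpowers a))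
  rw [← syl_card ht hP (c ▸ dvd_mul_right _ _) (fun e => c1 (Nat.dvd_of_mul_dvd_mul_left (pow_pos ht.pos k) (c ▸ e))), ← cA]
  exact dvd_pred ht hs (fun e => c2 (c ▸ e ▸ (dvd_pow_self t k0.ne').mul_right m)) (fun e => h2 (om_sj h.sj e)) hP.pi
    (.of_card hs cA) n

theorem cq : CQ := fun G B _ _ _ _ π S t s u k m h ht hs hu n c c1 k0 s1 u1 s2 u2 s3 u3 ts tu su => by
  classical
  have := h.nor
  have d : t ∣ #S := c ▸ (dvd_pow_self t k0.ne').mul_right m
  have n1 : t ≠ s := fun e => s1 (e ▸ d)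
  have n2 : t ≠ u := fun e => u1 (e ▸ d)
  have o : ∀ {r}, r ∈ om G → r ∣ Nat.card G := fun ⟨x, e⟩ => e ▸ orderOf_dvd_natCard x
  refine n ((Cfsg.Agent.S3633.result {t, s, u} (by rw [Finset.card_eq_three.2 ⟨t, s, u, n1, n2, n, rfl⟩]) ⟨?_, ?_⟩ π.ker h.sol).1
    s (by simp) u (by simp) (ker_dvd h ht hs c c1 k0 s1 s2 s3 ts) (ker_dvd h ht hu c c1 k0 u1 u2 u3 tu))
  · simp only [Finset.mem_insert, Finset.mem_singleton, forall_eq_or_imp, forall_eq]
    exact ⟨⟨ht, o (h.om (om_prime ht d))⟩, ⟨hs, o s3⟩, hu, o u3⟩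
  · simp only [Finset.mem_insert, Finset.mem_singleton, forall_eq_or_imp, forall_eq]
    exact ⟨⟨fun e => absurd rfl e, fun _ => ts, fun _ => tu⟩, ⟨fun _ => mul_comm t s ▸ ts, fun e => absurd rfl e, fun _ => su⟩,
      fun _ => mul_comm t u ▸ tu, fun _ => mul_comm s u ▸ su, fun e => absurd rfl e⟩

theorem cy : CY := fun G B _ _ _ _ π S t s k m h ht hs _ c c1 k2 s1 s2 s3 ts => by
  have d := ker_dvd h ht hs c c1 (by omega) s1 s2 s3 ts
  obtain ⟨P, hP⟩ := exists_syl s π.ker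
  have := Fact.mk ht
  have n : s ≠ t := fun e => s1 (c ▸ e ▸ (dvd_pow_self s (by omega)).mul_right m)
  obtain ⟨A, hA, l⟩ : ∃ A : Subgroup G, #A = t ^ 2 ∧ A ≤ N(P) := by
    obtain ⟨A, hA⟩ := Sylow.exists_subgroup_card_pow_prime (G := N(P)) t (n := 2) (((pow_dvd_pow t k2).mul_right m).trans
      (c ▸ (card_dvd le_top).trans (frat h.sj hP ▸ card_map_dvd _ π)))
    exact ⟨A.map N(P).subtype, by rwa [card_subtype], map_subtype_le A⟩
  have pA : PG t A := .of_card_pow ht hA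
  by_cases cy : IsCyclic A
  · obtain ⟨a, ha⟩ := IsCyclic.exists_ofOrder_eq_natCard (α := A)
    exact om_sub A ⟨a, ha.trans hA⟩
  exact absurd (le_bot_iff.1 (le_of_cent1_le (IsPGroup.isMulCommutative_of_card_eq_prime_sq hA) cy l
    (hP.pi.coprime (pA.sing_ne n.symm)) fun a ha a1 => (semireg hs ht n (mul_comm t s ▸ ts) hP.pi pA a ha a1).le))
    (hP.sne_bot hs d)

theorem aut_dvd (x : G) (h : H ≤ N(zpowers x)) : C[x].relIndex H ∣ (orderOf x).totient := by
  have k : ((zpowers x).normalizerMonoidHom.comp (inclusion h)).ker = C(zpowers x).subgroupOf H := by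
    rw [← MonoidHom.comap_ker, normalizerMonoidHom_ker]; rfl
  rw [relIndex, ← cent_zpowers, ← k, index_ker, ← Nat.card_zpowers, ← IsCyclic.card_mulAut]
  exact card_subgroup_dvd_card _

theorem cent_not_dvd (hr : r.Prime) (hs : s.Prime) (n : r ≠ s) (h : r * s ∉ om G) (hx : orderOf x = r) : ¬ s ∣ #C[x] :=
  fun d => let ⟨_, hy, o⟩ := exists_orderOf_eq_prime hs d; h (om_mul hx o ((Nat.coprime_primes hr hs).2 n) hy)

theorem ct0 (c : Nat.card G = 5 ^ (k + 1) * m) (h : 5 ^ (k + 1) ∈ om G) (h2 : 10 ∉ om G)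
    (h3 : 15 ∉ om G) (h7 : 35 ∉ om G) (hm : m ∣ 377 * 7 ^ 1 * 3 ^ 3 * 2 ^ 14) :
    ∃ d ∈ Nat.divisors 377, ∃ e ∈ Nat.divisors 4, d * e ∣ m ∧ m / (d * e) % 5 ^ (k + 1) = 1 := by
  have p5 := Nat.prime_five
  have := Fact.mk p5
  have m5 : ¬ 5 ∣ m := fun e => absurd (e.trans hm) (by norm_num)
  obtain ⟨g, hg⟩ := h
  have cg : #(zpowers g) = 5 ^ (k + 1) := by rw [Nat.card_zpowers, hg]
  have sg : Syl 5 (zpowers g) ⊤ := syl_mk le_top (.of_card_pow p5 cg) fun e => m5 (by
    have := card_mul_relIndex (le_top (a := zpowers g))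
    rw [cg, card_top, c] at this
    exact Nat.eq_of_mul_eq_mul_left (by positivity) this ▸ e)
  have cy : ∀ {P : Subgroup G}, Syl 5 P ⊤ → Cyc P := fun h => let ⟨_, _, e⟩ := sg.sconj h; e ▸ cyc_J (cyc_zpowers g) _
  have key : ∀ {P : Subgroup G} {x : G}, Syl 5 P ⊤ → x ∈ P → orderOf x = 5 → P.relIndex C[x] ∣ 377 ∧ C[x] ≤ N(P) :=
    fun {P x} hP hx o => by
      have l : P ≤ C[x] := le_cent1_iff.2 (comm_iff_le_cent.1 (comm_of_cyclic (cy hP)) hx)
      have a : ∀ s : ℕ, s.Prime → 5 ≠ s → 5 * s ∉ om G → ∀ j, (P.relIndex C[x]).Coprime (s ^ j) := fun s hs n h j =>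
        ((hs.coprime_iff_not_dvd.2 fun e => cent_not_dvd p5 hs n h o (e.trans (relIndex_dvd_card ..))).symm).pow_right j
      have d : P.relIndex C[x] ∣ m := by
        have := card_mul_relIndex (le_top (a := P))
        rw [hP.card_eq sg, cg, card_top, c] at this
        exact Nat.eq_of_mul_eq_mul_left (by positivity) this ▸ relIndex_dvd_right l le_top
      have d' := (a 7 Nat.prime_seven (by decide) h7 1).dvd_of_dvd_mul_right ((a 3 Nat.prime_three (by decide) h3 3).dvd_of_dvd_mul_right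
        ((a 2 Nat.prime_two (by decide) h2 14).dvd_of_dvd_mul_right (d.trans hm)))
      have e := H5.syl_idx_mod p5 (hP.of_le l le_top)
      exact ⟨d', relIndex_eq_one.1 ((by decide : ∀ n ∈ Nat.divisors 377, n ≡ 1 [MOD 5] → n = 1) _
        (Nat.mem_divisors.2 ⟨(relIndex_dvd_left le_normalizer _).trans d', by decide⟩) e)⟩
  have n : Nat.card (Sylow 5 G) ≡ 1 [MOD 5 ^ (k + 1)] := by_contra fun h => by
    obtain ⟨P, R, n, i⟩ := Cfsg.Agent.S0985.result 5 (k + 1) h
    have hP := syl_sylow_top P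
    have hR := syl_sylow_top R
    have b : (R : Subgroup G) ⊓ P ≠ ⊥ := fun e => by
      have := card_inf_mul_relIndex (R : Subgroup G) P
      rw [e, card_bot, one_mul, hP.card_eq sg, cg] at this
      exact absurd (this.ge.trans i) (by simp [pow_succ])
    obtain ⟨x, hx, o⟩ := exists_orderOf_eq_prime p5 ((hR.pi.infl _).dvd_of_ne_bot b)
    exact n (Sylow.ext (hP.eq_of_le hR (hR.le_of_norm le_top hP.pi ((le_cent1_iff.2
      (comm_iff_le_cent.1 (comm_of_cyclic (cy hP)) hx.2)).trans (key hR hx.1 o).2))))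
  obtain ⟨x, hx, o⟩ := exists_orderOf_eq_prime p5 (H := zpowers g) (cg ▸ dvd_pow_self 5 k.succ_ne_zero)
  obtain ⟨a, b⟩ := key sg hx o
  have l : zpowers g ≤ C[x] := le_cent1_iff.2 (comm_iff_le_cent.1 (comm_zpowers g) hx)
  have e : m = N(zpowers g).index * ((zpowers g).relIndex C[x] * C[x].relIndex N(zpowers g)) := by
    refine Nat.eq_of_mul_eq_mul_left (by positivity : 0 < 5 ^ (k + 1)) ?_
    rw [← c, ← cg, relIndex_mul_relIndex _ _ _ l b, mul_left_comm, card_mul_relIndex le_normalizer, index_mul_card]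
  refine ⟨_, Nat.mem_divisors.2 ⟨a, by decide⟩, _, Nat.mem_divisors.2 ⟨by
    simpa [o, Nat.totient_prime p5] using aut_dvd x (cyc_norm (cyc_zpowers g) (zpowers_le.2 hx)), by decide⟩, Dvd.intro_left _ e.symm, ?_⟩
  rw [e, Nat.mul_div_cancel _ (Nat.mul_pos (relIndex_pos ..) (relIndex_pos ..)), H5.syl_idx p5 sg, n]
  exact Nat.mod_eq_of_lt (Nat.one_lt_pow k.succ_ne_zero p5.one_lt)

/-- elements of order prime to the kernel and the index lie over `S` -/
theorem om_in (h : St π S) (hr : r.Prime) (k1 : ¬ r ∣ #π.ker) (k2 : ¬ r ∣ S.index) (e : r ^ k ∈ om G) : r ^ k ∈ om S := by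
  obtain ⟨g, hg⟩ := e
  have := h.nor
  have o : orderOf (π g) = r ^ k := by
    refine Nat.dvd_antisymm (hg ▸ orderOf_map_dvd π g) (hg ▸ orderOf_dvd_of_pow_eq_one ?_)
    exact PiN.e_eq_one (π := {r}) (PiN.e_pow (x := g) (by unfold PiE; rw [hg]; exact .prime_pow hr k) _)
      ((PiN.of_not_dvd k1).elt (by rw [MonoidHom.mem_ker, map_pow, pow_orderOf_eq_one]))
  refine ⟨⟨π g, zpowers_le.1 (le_of_pi_of_relIndex (π := {r}) (M := ⊤) le_normalizer_of_normal le_top le_top
    (piG_zpowers.2 (by unfold PiE; rw [o]; exact .prime_pow hr k)) (by rw [relIndex_top_right]; exact .of_not_dvd k2))⟩, ?_⟩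
  rw [← Subgroup.orderOf_coe, o]

theorem idx_not_dvd (hr : r.Prime) (c : r ^ k ∣ #S) (h : ¬ r ^ (k + 1) ∣ Nat.card B) : ¬ r ∣ S.index := fun e =>
  h (S.card_mul_index ▸ pow_succ r k ▸ mul_dvd_mul c e)

theorem ct : CT := fun T G B _ _ _ _ π S h c h2 h3 h7 => by
  have p5 := Nat.prime_five
  rcases c with ⟨c, e⟩ | ⟨c, e⟩
  · obtain ⟨a, -, b⟩ := T G B π S 7 5 h (by rw [c]; decide +kernel) p5 (by decide) (om_dvd e (by decide)) h2
    exact absurd (ct0 (k := 1) (m := 24192) c (om_in h p5 a (idx_not_dvd (k := 2) p5 (by rw [c]; decide)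
      fun d => absurd (c ▸ b 3 d) (by decide)) e) (fun a => h2 (h.om a)) (fun a => h3 (h.om a)) (fun a => h7 (h.om a)) (by decide))
      (by decide +kernel)
  · obtain ⟨a, -, b⟩ := T G B π S 14 5 h (by rw [c]; decide +kernel) p5 (by decide) (om_dvd e (by decide)) h2
    exact absurd (ct0 (k := 2) (m := 1167409152) c (om_in h p5 a (idx_not_dvd (k := 3) p5 (by rw [c]; decide)
      fun d => absurd (c ▸ b 4 d) (by decide)) e) (fun a => h2 (h.om a)) (fun a => h3 (h.om a)) (fun a => h7 (h.om a)) (by decide))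
      (by decide +kernel)

theorem cent_pg (hr : r.Prime) (hx : orderOf x = r ^ k) (h : ∀ s, s.Prime → s ≠ r → r ^ k * s ∉ om G) : PG r C[x] :=
  fun s hs d => by_contra fun n => let ⟨_, hy, o⟩ := exists_orderOf_eq_prime hs d
    h s hs n (om_mul hx o (((Nat.coprime_primes hr hs).2 (Ne.symm n)).pow_left k) hy)

/-- an isolated prime whose normalizer is as large as possible -/
theorem nr (h : St π S) (hr : r.Prime) {e : ℕ} (c : #S = r * m) (c2 : ¬ r ^ 2 ∣ Nat.card B)
    (iso : ∀ s, s.Prime → s ≠ r → r * s ∉ om G) (h1 : ∀ d ∈ (r - 1).divisors, d ∣ m → m / d ≡ 1 [MOD r] → d = e)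
    (h2 : ∀ d ∈ (r - 1).divisors, e ∣ d → d ∈ om G → d = e) : S = ⊤ ∧ ∃ x g : B, orderOf x = r ∧ orderOf g = e ∧
      g * x * g⁻¹ ∈ zpowers x ∧ ∀ i : ℕ, Commute (g ^ i) x → g ^ i = 1 := by
  have := h.nor
  obtain ⟨x, hx, o⟩ := exists_orderOf_eq_prime hr (H := S) (c ▸ dvd_mul_right r m)
  have cx : #(zpowers x) = r := by rw [Nat.card_zpowers, o]
  have sx : Syl r (zpowers x) ⊤ := syl_mk le_top (.of_card hr cx) fun d => c2 (by
    rw [← card_top, ← card_mul_relIndex (le_top (a := zpowers x)), cx, sq]; exact mul_dvd_mul_left r d)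
  have cc : C[x] = zpowers x := sx.max (zpowers_le.2 (mem_cent1_self x)) le_top
    (cent_pg (k := 1) hr (by simpa) fun s a b d => iso s a b (om_sj h.sj (by simpa using d)))
  have dv : ∀ {H : Subgroup B}, H ≤ N(zpowers x) → (zpowers x).relIndex H ∈ (r - 1).divisors := fun l =>
    Nat.mem_divisors.2 ⟨by simpa only [cc, o, Nat.totient_prime hr] using aut_dvd x l, by have := hr.two_le; omega⟩
  obtain ⟨H, sd⟩ := (sx.of_le le_normalizer le_top).exists_compl le_rfl
  have ch : Cyc H := by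
    have : IsCyclic (MulAut (zpowers x)) := by
      have := Fact.mk hr
      have : IsCyclic (ZMod #(zpowers x))ˣ := cx.symm ▸ inferInstance
      exact isCyclic_of_surjective _ (IsCyclic.mulAutMulEquiv (zpowers x)).symm.surjective
    refine isCyclic_of_injective ((zpowers x).normalizerMonoidHom.comp (inclusion sd.norm)) ((MonoidHom.ker_eq_bot_iff _).1 ?_)
    rw [← MonoidHom.comap_ker, normalizerMonoidHom_ker, cent_zpowers, cc]
    exact subgroupOf_eq_bot.2 (disjoint_iff.2 sd.inf)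
  obtain ⟨g, rfl⟩ := cyc_iff.1 ch
  have l := zpowers_le.2 hx
  have l1 : zpowers x ≤ N(zpowers x) ⊓ S := le_inf le_normalizer l
  have e1 : m = (zpowers x).relIndex (N(zpowers x) ⊓ S) * N(zpowers x).relIndex S := by
    refine Nat.eq_of_mul_eq_mul_left hr.pos ?_
    rw [← c, ← inf_relIndex_right N(zpowers x) S, relIndex_mul_relIndex _ _ _ l1 inf_le_right, ← cx, card_mul_relIndex l]
  have e2 := h1 _ (dv inf_le_left) (Dvd.intro _ e1.symm) (by
    rw [e1, Nat.mul_div_cancel_left _ (relIndex_pos ..)]; exact H5.syl_idx_mod hr (sx.of_le l le_top))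
  have og : (zpowers x).relIndex N(zpowers x) = orderOf g := sd.relIndex_left.trans (Nat.card_zpowers g)
  have e3 := h2 _ (dv le_rfl) (e2 ▸ relIndex_dvd_right l1 inf_le_left) (om_sj h.sj ⟨g, og.symm⟩)
  have ns : N(zpowers x) ≤ S := (eq_of_le_of_card_eq (inf_le_left (b := S)) (by
    rw [← card_mul_relIndex l1, ← card_mul_relIndex (le_normalizer (H := zpowers x)), e2, e3])).ge.trans inf_le_right
  refine ⟨top_le_iff.1 (((sx.of_le l le_top).frattini normalIn_top).ge.trans (sup_le le_rfl (inf_le_right.trans ns))),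
    x, g, o, og.symm.trans e3, conj_mem_of_norm (sd.norm (mem_zpowers g)) (mem_zpowers x), fun i a => ?_⟩
  exact mem_bot.1 (sd.inf ▸ ⟨cc ▸ mem_cent1.2 a, pow_mem (mem_zpowers g) i⟩)

theorem w8_iso (w : W8 (om G)) {r : ℕ} (L : List ℕ) (d : ∀ n ∈ [14, 15, 17, 18, 20, 21, 24, 30], ∀ s ∈ Nat.divisors n,
    r * s ∣ n → s = 1 ∨ r * s ∈ L) (h : ∀ n ∈ L, n ∉ om G) (s : ℕ) (hs : s.Prime) : r * s ∉ om G := fun e => by
  have k : ∀ n ∈ [14, 15, 17, 18, 20, 21, 24, 30], ¬ r * s ∣ n := fun n a b =>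
    (d n a s (Nat.mem_divisors.2 ⟨(dvd_mul_left s r).trans b, by rintro rfl; simp at a⟩) b).elim hs.ne_one fun c => h _ c e
  rcases w _ e with c | c | c | c | c | c | c | c <;> exact k _ (by decide) c

theorem ha : HA := fun T F G B _ _ _ _ π S h c w => by
  have p : Nat.Prime 17 := by norm_num
  have iso := w8_iso w (r := 17) [] (by decide +kernel) (by simp)
  obtain ⟨a, -, b⟩ := T G B π S 10 17 h (by rw [c]; decide +kernel) p (by decide) (h.om (om_prime p (by rw [c]; decide)))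
    (iso 2 Nat.prime_two)
  obtain ⟨e, x, g, o1, o2, n, f⟩ := nr h p (m := 237081600) (e := 8) c (fun d => absurd (c ▸ b 2 d) (by decide))
    (fun s hs _ => iso s hs) (by decide +kernel) fun d a b e => by_contra fun n => by
      obtain rfl := (by decide +kernel : ∀ d ∈ (17 - 1).divisors, 8 ∣ d → d ≠ 8 → d = 16) d a b n
      exact absurd (w _ e) (by decide)
  refine ⟨e, PiN.isPGroup fun s hs d => by_contra fun n3 => ?_⟩
  have := F G B π x g 17 s h.sj h.sol p o1 a (fun t ht _ => iso t ht) n f hs d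
  rw [o2, mul_comm] at this
  obtain rfl : s = 3 := by
    rcases w _ this with c | c | c | c | c | c | c | c <;> have := Nat.le_of_dvd (by decide) c <;>
      have := hs.two_le <;> have : s ≤ 3 := by omega
    all_goals interval_cases s <;> omega
  exact n3 rfl

theorem j6 : J6 := fun T F P G B _ _ _ _ π S h c ⟨w, n14, _, n18, n21, h9⟩ => by
  have p := Nat.prime_seven
  have p3 := Nat.prime_three
  have iso := w8_iso w (r := 7) [14, 21] (by decide +kernel) (List.forall_mem_cons.2 ⟨n14, List.forall_mem_singleton.2 n21⟩)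
  obtain ⟨a, -, b⟩ := T G B π S 7 7 h (by rw [c]; decide +kernel) p (by decide) (h.om (om_prime p (by rw [c]; decide))) n14
  obtain ⟨rfl, x, g, o1, o2, n, f⟩ := nr h p (m := 86400) (e := 6) c (fun d => absurd (c ▸ b 2 d) (by decide))
    (fun s hs _ => iso s hs) (by decide +kernel) fun d a b _ => Nat.dvd_antisymm (Nat.dvd_of_mem_divisors a) b
  have k : ¬ 3 ∣ #π.ker := fun d => n18 (by
    simpa [o2] using F G B π x g 7 3 h.sj h.sol p o1 a (fun t ht _ => iso t ht) n f p3 d)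
  obtain ⟨a, b, s, q⟩ := P _ h.sim h.nab (by rw [c]; decide) (by rw [c]; decide) (om_in (k := 2) h p3 k (by simp) h9)
    fun e => absurd (w _ (h.om e)) (by decide)
  set Q := zpowers a ⊔ zpowers b
  have e1 := card_mul_relIndex (le_top (a := Q))
  rw [q.cd, card_top, c] at e1
  have sq : Syl 3 Q ⊤ := syl_mk le_top (.of_card_pow p3 (k := 3) q.cd) (by omega)
  have ab : Q ≤ C(Q) := comm_iff_le_cent.1 (comm_sup (comm_zpowers a) (comm_zpowers b)
    (by rw [cent_zpowers, zpowers_le]; exact mem_cent1.2 q.cm))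
  have cq : C(Q) = Q := sq.max ab le_top ((cent_pg (k := 2) p3 q.oa fun s hs _ e =>
    w8_iso w (r := 9) [18] (by decide +kernel) (List.forall_mem_singleton.2 n18) s hs (h.om e)).of_le (cent_le_cent1 (mem_sup_left (mem_zpowers a))))
  have e2 := relIndex_mul_relIndex Q N(Q) ⊤ le_normalizer le_top
  have e3 := H5.syl_idx_mod p3 sq
  have e4 := q.ix
  rw [cq] at e4
  rw [e4] at e2
  unfold Nat.ModEq at e3
  omega

end H5.IS
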