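import Cfsg.Agent.H5.TP5
import Cfsg.Agent.H24.ClassSize

/-! Transitive linear `p'`-groups with at most two projective characters for some cocycle. -/

set_option autoImplicit false
set_option linter.unusedSectionVars false

namespace H5.K3
open Subgroup H24.NF H5.TP

variable {G V : Type*} [Group G]

/-- every element commuting with `x` lies in a cyclic subgroup containing `x` -/
def Cc (x : G) : Prop := ∀ y, x * y = y * x → ∃ w, x ∈ zpowers w ∧ y ∈ zpowers w

theorem exists_gen {A : Subgroup G} (h : IsCyclic A) : ∃ w ∈ A, A ≤ zpowers w := by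
  obtain ⟨w, hw⟩ := h.exists_zpow_surjective
  exact ⟨w, w.2, fun a ha => (hw ⟨a, ha⟩).imp fun k e => congrArg Subtype.val e⟩

theorem cc_of_cyc {x : G} (h : IsCyclic (centralizer {x})) : Cc x := fun y hy =>
  let ⟨w, _, e⟩ := exists_gen h
  ⟨w, e (mem_centralizer_singleton_iff.2 rfl), e (mem_centralizer_singleton_iff.2 hy.symm)⟩

variable [Finite G]

theorem cyc_of_uniq (hu : ∀ x y : G, orderOf x = 2 → orderOf y = 2 → x = y) {A : Subgroup G}
    (h1 : IsPGroup 2 A) (h2 : IsMulCommutative A) : IsCyclic A := by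
  have := H4.isCyclic_of_unique h1 (fun x y hx hy => by
    rw [Subtype.ext (hu x y (by rwa [orderOf_coe]) (by rwa [orderOf_coe]))]) ⊤ inferInstance
  exact isCyclic_of_surjective _ topEquiv.surjective

theorem cc_of_uniq (hu : ∀ x y : G, orderOf x = 2 → orderOf y = 2 → x = y) {x : G} {k : ℕ}
    (hx : orderOf x = 2 ^ k) : Cc x := fun y hy => by
  obtain ⟨a, b, ha, hb, rfl, hab, ⟨j, hj⟩, h2⟩ := H24.exists_pPart Nat.prime_two y
  have h1 : ∀ c ∈ zpowers (a * b), Commute x c := by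
    rintro _ ⟨i, rfl⟩
    exact Commute.zpow_right hy i
  have h3 : ∀ {c : G} {i : ℕ}, orderOf c = 2 ^ i → IsPGroup 2 (zpowers c) := fun e =>
    IsPGroup.of_card (by rw [Nat.card_zpowers, e])
  have h4 : zpowers a ≤ centralizer (zpowers x) := by
    rw [H4.centralizer_zpowers, zpowers_le]
    exact mem_centralizer_singleton_iff.2 (h1 a ha).symm
  have h5 : IsPGroup 2 (zpowers x ⊔ zpowers a :) :=
    IsPGroup.to_sup_of_normal_left' (h3 hx) (h3 hj) (h4.trans (centralizer_le_normalizer _))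
  have h6 : ∀ c, Commute x c → Commute a c → zpowers x ⊔ zpowers a ≤ centralizer {c} :=
    fun c e1 e2 => sup_le (zpowers_le.2 (mem_centralizer_singleton_iff.2 e1))
      (zpowers_le.2 (mem_centralizer_singleton_iff.2 e2))
  obtain ⟨w, hw, e⟩ := exists_gen (cyc_of_uniq hu h5 (H28.le_centralizer_self_iff.1 (by
    rw [H28.centralizer_sup, H4.centralizer_zpowers, H4.centralizer_zpowers]
    exact le_inf (h6 x rfl (h1 a ha).symm) (h6 a (h1 a ha) rfl))))
  have h7 : Commute w b := mem_centralizer_singleton_iff.1 (h6 b (h1 b hb) hab hw)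
  obtain ⟨i, hi⟩ := IsPGroup.iff_orderOf.1 h5 ⟨w, hw⟩
  have h8 : (orderOf w).Coprime (orderOf b) := by
    rw [← orderOf_coe] at hi
    rw [hi]
    exact ((Nat.Prime.coprime_iff_not_dvd Nat.prime_two).2 h2).pow_left i
  have h9 := zpowers_le.2 (H24.mem_zpowers_mul_left h7 h8)
  exact ⟨w * b, h9 (e (mem_sup_left (mem_zpowers x))),
    mul_mem (h9 (e (mem_sup_right (mem_zpowers a)))) (H24.mem_zpowers_mul_right h7 h8)⟩

variable {p n : ℕ} [Fact p.Prime] [AddCommGroup V] [Module (ZMod p) V]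
  {ρ : G →* (V ≃ₗ[ZMod p] V)} [Finite V] [Nontrivial V]

theorem two (ht : Tr ρ) (hρ : Function.Injective ρ) {s : ℕ} (hs : Odd s)
    (h : Nat.card G = s * (Nat.card V - 1)) (h4 : 4 ∣ Nat.card G)
    (hC : ∀ x y : G, x ≠ 1 → y ≠ 1 → Cc x → Cc y → orderOf x = orderOf y) : False := by
  have h1 : ∀ x : G, orderOf x = 2 → ∀ v, ρ x v = -v := fun x hx v => by_contra fun e => by
    have h2 : v + ρ x v ≠ 0 := fun e' => e (eq_neg_of_add_eq_zero_right e')
    have h3 := (St ρ (v + ρ x v)).card_mul_index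
    rw [ht.index h2, h, Nat.mul_left_inj (by have := Finite.one_lt_card (α := V); omega)] at h3
    have h5 : x ∈ St ρ (v + ρ x v) := by
      change ρ x _ = _
      rw [map_add, ← mul_app, ← sq, ← hx, pow_orderOf_eq_one, map_one, add_comm]; rfl
    have := orderOf_dvd_natCard (⟨x, h5⟩ : St ρ _)
    rw [← orderOf_coe, hx, h3] at this
    exact (Nat.not_even_iff_odd.2 hs) (even_iff_two_dvd.2 this)
  have hu : ∀ x y : G, orderOf x = 2 → orderOf y = 2 → x = y := fun x y hx hy =>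
    hρ (LinearEquiv.ext fun v => (h1 x hx v).trans (h1 y hy v).symm)
  obtain ⟨A, hA⟩ := Sylow.exists_subgroup_card_pow_prime (G := G) 2 (n := 2) h4
  obtain ⟨x, hx⟩ := (cyc_of_uniq hu (IsPGroup.of_card hA)
    (IsPGroup.isMulCommutative_of_card_eq_prime_sq hA)).exists_ofOrder_eq_natCard
  rw [hA, ← orderOf_coe] at hx
  have h2 : orderOf ((x : G) ^ 2) = 2 ^ 1 := by rw [orderOf_pow, hx]; norm_num
  have := hC _ _ (fun e => by simp [e] at hx) (fun e => by simp [e] at h2) (cc_of_uniq hu hx)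
    (cc_of_uniq hu h2)
  omega

theorem ia_num {p n b m : ℕ} (hp : p.Prime) (h1 : b ∣ p ^ n - 1) (h2 : m ≤ n) (h3 : ¬ p ∣ b * m)
    (h4 : p ^ n - 1 ∣ b * m) (h5 : b * m ≤ 2 * m ^ 2) (h6 : 0 < b * m) :
    p ^ n ≤ 3 ∨ b * m = 15 ∨ p ^ n = 9 ∧ b * m = 8 := by
  have h7 := (Nat.le_of_dvd h6 h4).trans (h5.trans (Nat.mul_le_mul_left 2 (Nat.pow_le_pow_left h2 2)))
  have h8 : b ≤ 2 * m := Nat.le_of_mul_le_mul_right (by nlinarith) (Nat.pos_of_mul_pos_left h6)
  have key : ∀ q k, 2 ≤ q → q ≤ p → 2 * k ^ 2 + 1 < q ^ k → 3 ≤ k → n < k := fun q k a c d e =>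
    not_le.1 fun f => by
      have : ∀ n, k ≤ n → 2 * n ^ 2 + 1 < q ^ n := fun n f => by
        induction n, f using Nat.le_induction with
        | base => exact d
        | succ n h ih => rw [pow_succ q]; nlinarith [Nat.mul_le_mul_left (q ^ n) a]
      have := (this n f).trans_le (Nat.pow_le_pow_left c n)
      omega
  rcases hp.two_le.eq_or_lt with rfl | h
  · have := key 2 7 le_rfl le_rfl (by norm_num) (by norm_num)
    have : b ≤ 12 := by omega
    interval_cases n <;> interval_cases m <;> interval_cases b <;> omega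
  have := key 3 3 (by norm_num) h (by norm_num) le_rfl
  have h9 : p < 4 ∨ n = 0 := by
    have := fun a : 4 ≤ p => Nat.pow_le_pow_left a n
    interval_cases n <;> omega
  rcases h9 with h9 | rfl
  · obtain rfl : p = 3 := by omega
    have : b ≤ 4 := by omega
    interval_cases n <;> interval_cases m <;> interval_cases b <;> omega
  · simp

theorem IA.small (h : IA ρ) (ht : Tr ρ) (hρ : Function.Injective ρ) (hp : ¬ p ∣ Nat.card G)
    (hA : ∀ B : Subgroup G, IsCyclic B → Nat.card G ≤ 2 * B.index ^ 2)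
    (hS : ∃ a b, Nat.card G = a ^ 2 + b ^ 2)
    (hC : ∀ x y : G, x ≠ 1 → y ≠ 1 → Cc x → Cc y → orderOf x = orderOf y) : Nat.card V ≤ 3 := by
  have hn := (Module.natCard_eq_pow_finrank (K := ZMod p) (V := V)).trans (by rw [Nat.card_zmod])
  obtain ⟨B, h1, h2, h3, -⟩ := h.gam ht hρ hn
  have h4 := hA B h1
  have h5 := hn ▸ ht.dvd
  have h6 := Nat.card_pos (α := G)
  have h7 := fun a b => two ht hρ odd_one a b hC
  obtain ⟨a, b, h8⟩ := hS
  rw [← B.card_mul_index] at h4 h5 h6 hp h7 h8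
  rcases ia_num Fact.out h2 h3 hp h5 h4 h6 with e | e | ⟨e, e'⟩
  · exact hn ▸ e
  · have : a < 4 := by nlinarith
    have : b < 4 := by nlinarith
    interval_cases a <;> interval_cases b <;> omega
  · exact (h7 (by rw [hn, e, e']; rfl) (by rw [e']; norm_num)).elim

theorem nine_dvd {a b : ℕ} (h : 3 ∣ a ^ 2 + b ^ 2) : 9 ∣ a ^ 2 + b ^ 2 := by
  have h1 : (a ^ 2 + b ^ 2) % 3 = ((a % 3) ^ 2 + (b % 3) ^ 2) % 3 := by
    simp [Nat.add_mod, Nat.pow_mod]
  obtain ⟨⟨c, rfl⟩, d, rfl⟩ : 3 ∣ a ∧ 3 ∣ b := by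
    rcases (by omega : a % 3 = 0 ∨ a % 3 = 1 ∨ a % 3 = 2) with e | e | e <;>
      rcases (by omega : b % 3 = 0 ∨ b % 3 = 1 ∨ b % 3 = 2) with e' | e' | e' <;>
      rw [e, e'] at h1 <;> omega
  exact ⟨c ^ 2 + d ^ 2, by ring⟩

theorem small (ht : Tr ρ) (hρ : Function.Injective ρ) (hp : ¬ p ∣ Nat.card G)
    (hA : ∀ B : Subgroup G, IsCyclic B → Nat.card G ≤ 2 * B.index ^ 2)
    (hS : ∃ a b, Nat.card G = a ^ 2 + b ^ 2)
    (hC : ∀ x y : G, x ≠ 1 → y ≠ 1 → Cc x → Cc y → orderOf x = orderOf y) : Nat.card V ≤ 3 := by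
  have hp' : p.Prime := Fact.out
  have hn := (Module.natCard_eq_pow_finrank (K := ZMod p) (V := V)).trans (by rw [Nat.card_zmod])
  refine by_contra fun h0 => ?_
  have hI : ¬ IA ρ := fun h => h0 (IA.small h ht hρ hp hA hS hC)
  rcases (struct ht hρ hn hp).resolve_left hI with ⟨h, Z, _, -, ⟨t, h4⟩, -, h5⟩ | ⟨h, -⟩
  · have h6 : Z.index = 12 ∨ Z.index = 24 ∨ Z.index = 60 := by
      rcases h5 with ⟨⟨e⟩⟩ | ⟨⟨e⟩⟩ | ⟨⟨e⟩⟩ <;> rw [index, Nat.card_congr e.toEquiv]
      exacts [.inl H27.card_A4, .inr (.inl H27.card_S4), .inr (.inr H27.card_A5)]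
    obtain ⟨s, hs⟩ := ht.dvd
    have h7 := fun a => two ht hρ a (hs.trans (mul_comm _ _)) (Dvd.dvd.trans (by omega) Z.index_dvd_card) hC
    obtain ⟨a, b, h8⟩ := hS
    have h9 : 9 ∣ Nat.card Z * Z.index := by
      rw [Z.card_mul_index, h8]
      exact nine_dvd (h8 ▸ Dvd.dvd.trans (by omega) Z.index_dvd_card)
    have h10 : 3 ∣ p - 1 := Dvd.dvd.trans (by rcases h6 with e | e | e <;> rw [e] at h9 <;> omega)
      (Dvd.intro _ h4.symm)
    have h11 : Z.index = (p + 1) * (t * s) := Nat.eq_of_mul_eq_mul_left (Nat.card_pos (α := Z)) (by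
      rw [Z.card_mul_index, hs, hn, h, show p ^ 2 - 1 = (p + 1) * (p - 1) from Nat.sq_sub_sq p 1, h4]
      ring)
    have h12 := five_le (mt (Dvd.dvd.trans · Z.index_dvd_card) hp) (by omega)
    refine h7 (Nat.odd_mul.1 (?_ : Odd (t * s))).2
    generalize t * s = u at h11
    have h13 := Nat.le_of_dvd (by omega) (Dvd.intro _ h11.symm)
    have h14 : (p + 1) * u ≤ 60 := by omega
    have h15 : p < 60 := by omega
    clear * - h6 h10 h11 h12 hp' h15
    rw [h11] at h6
    interval_cases p <;> first | omega | (norm_num at hp'; done) | (obtain rfl : u = 3 := by omega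
                                                                    decide)
  have h3 : p = 3 := (Nat.prime_dvd_prime_iff_eq hp' Nat.prime_three).1 (hp'.dvd_of_dvd_pow (n := 4)
    ((dvd_pow_self p (by rintro e; rw [hn, e] at h; simp at h)).trans (hn.symm.trans h).dvd))
  replace hn : Nat.card V = p ^ 4 := by rw [h, h3]; rfl
  have h1 := card_four ht hρ hn hp h3
  subst h3
  haveI : Fact (Nat.Prime 5) := ⟨by norm_num⟩
  haveI := isSolvable_of_card_dvd_prime_pow_mul Nat.prime_two Fact.out h1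
  have h2 : 80 ∣ Nat.card G := by simpa [h] using ht.dvd
  have irr : ∀ x : G, orderOf x = 5 → Irr ρ (zpowers x) := fun x hx =>
    ppd_irr hρ hn Fact.out (by norm_num) (fun i a b => by interval_cases i <;> norm_num) hx
  haveI : Nontrivial G := Finite.one_lt_card_iff_nontrivial.1
    (by have := Nat.le_of_dvd Nat.card_pos h2; omega)
  obtain ⟨M, q, hq, -, _, h3, h4, h5⟩ := H1.exists_minimal_normal_elementary_le (⊤ : Subgroup G)
    top_ne_bot inferInstance
  obtain ⟨w, hw, e⟩ := exists_gen ((ht.dom h4.1).cyc hρ fun _ => R_mem_Alg).1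
  have w1 : w ≠ 1 := fun e' => h3 (le_bot_iff.1 (by rwa [e', zpowers_one_eq_bot] at e))
  have w2 := orderOf_eq_prime (hp := ⟨hq⟩) (h4.2 w hw) w1
  rcases (hq.dvd_mul).1 ((w2 ▸ orderOf_dvd_natCard w).trans h1) with a | a
  swap
  · exact hI ⟨M, ‹_›, h4.1, irr_mono (irr w (w2.trans ((Nat.prime_dvd_prime_iff_eq hq Fact.out).1
      (hq.dvd_of_dvd_pow a)))) (zpowers_le.2 hw)⟩
  obtain rfl := (Nat.prime_dvd_prime_iff_eq hq Nat.prime_two).1 (hq.dvd_of_dvd_pow a)
  obtain ⟨y, hy⟩ := exists_prime_orderOf_dvd_card' (G := G) 5 (Dvd.dvd.trans (by norm_num) h2)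
  have c1 : Commute y w := by
    classical
    have b := e (Normal.conj_mem ‹_› w hw y)
    rw [mem_zpowers_iff_mem_range_orderOf, w2] at b
    obtain ⟨i, hi, b⟩ := Finset.mem_image.1 b
    have := Finset.mem_range.1 hi
    interval_cases i
    · exact absurd (by simpa using b.symm) w1
    · exact mul_inv_eq_iff_eq_mul.1 (b.symm.trans (pow_one w))
  have c2 : (orderOf y).Coprime (orderOf w) := by rw [hy, w2]; norm_num
  have c3 := ((irr y hy).dom.cyc (A := centralizer {y}) hρ fun b hb =>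
    R_mem_Cen (by rwa [H4.centralizer_zpowers])).1
  have c4 := c1.orderOf_mul_eq_mul_orderOf_of_coprime c2
  have := hC y (y * w) (fun e => by simp [e] at hy) (fun e => by simp [e, hy, w2] at c4)
    (cc_of_cyc c3) (cc_of_cyc (isCyclic_of_le (H' := centralizer {y}) (by
      rw [← H4.centralizer_zpowers, ← H4.centralizer_zpowers]
      exact centralizer_le (zpowers_le.2 (H24.mem_zpowers_mul_left c1 c2)))))
  rw [c4, hy, w2] at this
  omega

end H5.K3
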