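import Cfsg.Agent.H5.K32
import Cfsg.Agent.H6.Real2
import Cfsg.Agent.H6.OW
import Cfsg.Agent.H7.EqDeg
import Cfsg.Agent.H21.Dade5
import Cfsg.Agent.S4648

/-! Blocks with at most three characters and normal defect group. -/

set_option autoImplicit false
set_option linter.unusedSectionVars false

open Cfsg Subgroup
namespace H5.K3

variable {G : Type*} [Group G] [Finite G] {p : ℕ} [Fact p.Prime] {M : Ideal AlgInt}
  {B : Set (IrrCharacter G)} {V : Subgroup G} [V.Normal]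

section
open H8 H28 H7 MonoidAlgebra

theorem loc_data (hM : IsPModular p M) (hB : IsPBlock M B) (hV : V ≤ 𝐂 V)
    (hD : IsDefectGroup p M B V) (h3 : Nat.card B ≤ 3) (h1 : blockRank p B ≠ 1)
    [Fintype (𝐂 V)] : ∃ (θ : IrrCharacter (𝐂 V)) (T : Subgroup G),
      (∀ g, g ∈ T ↔ cjI g θ = θ) ∧ ¬ p ∣ (𝐂 V).relIndex T ∧
      (∀ v ∈ V, ∀ w ∈ V, v ≠ 1 → w ≠ 1 → ∃ g ∈ T, g * v * g⁻¹ = w) ∧
      (∀ x : 𝐂 V, x.1 ∈ V → θ.1 x = θ.1 1) ∧
      ∀ χ : IrrCharacter G, classInner (fun n : 𝐂 V => χ.1 n) θ.1 ≠ 0 → χ ∈ B := by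
  classical
  haveI := charP_kk hM
  obtain ⟨e, m⟩ := exists_maxP_block hM hB hD
  have he := m.bp.prim
  rw [top_inf_eq] at he
  obtain ⟨c, hc, rfl⟩ := exists_block_eb hM he
  have h2 := m.isDef_sup_cent
  rw [sup_eq_right.2 hV] at h2
  have h4 : IsDefectGroup p M c (V.subgroupOf (𝐂 V)) := (isDefectGroup_iff_map hM hc).2 (by
    rwa [subgroupOf_map_subtype, inf_eq_left.2 hV])
  obtain ⟨θ, h5, h6, -, h7⟩ := pc_exists_canon hM (eq_top_iff.2 (le_sup_of_le_right fun x _ y hy =>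
    Subtype.ext (mem_centralizer_iff.1 x.2 y hy))) hc h4
  refine ⟨θ, ⊤ ⊓ 𝐍 V ⊓ stab (eb M (𝐂 V) c), fun g => ⟨fun hg => h7 _ ((ca_eb_eq_self_iff hM hc).1 hg.2 θ h5) fun x hx => ?_,
    fun hg => ⟨⟨trivial, mem_normalizer_of_normal _ g⟩, (ca_eb_eq_self_iff' hM hc h5).2 (hg.symm ▸ h5)⟩⟩,
    m.not_dvd_of_comm hV, fun v hv w hw v1 w1 => ?_, h6, fun χ hχ => ?_⟩
  · exact (h6 ⟨_, _⟩ (Normal.conj_mem ‹V.Normal› _ hx g)).trans
      (h6 ⟨_, _⟩ (Normal.conj_mem ‹V.Normal› _ (one_mem _) g)).symm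
  · obtain ⟨Y, hY⟩ := exists_fReps m.bp
    have h8 := card_eq_sum_fReps hM hB m hY
    obtain ⟨a, ⟨a1, a2⟩, -⟩ := hY.rep 1 (one_mem _)
    obtain ⟨x, ⟨x1, x2⟩, -⟩ := hY.rep v hv
    obtain ⟨y, ⟨y1, y2⟩, -⟩ := hY.rep w hw
    obtain ⟨-, r, -, rfl⟩ := (m.fConj_iff_of_comm hV).1 a2
    obtain ⟨-, s, hs, rfl⟩ := (m.fConj_iff_of_comm hV).1 x2
    obtain ⟨-, t, ht, e⟩ := (m.fConj_iff_of_comm hV).1 y2
    rw [mul_one, mul_inv_cancel] at a1
    by_cases h9 : s * v * s⁻¹ = y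
    · exact ⟨t⁻¹ * s, mul_mem (inv_mem ht) hs, by
        rw [mul_inv_rev, inv_inv, ← mul_assoc, mul_assoc t⁻¹, mul_assoc t⁻¹, h9, ← e]; group⟩
    have b1 : 1 ≠ s * v * s⁻¹ := fun e => v1 (by simpa using e.symm)
    have b2 : 1 ≠ y := fun e' => w1 (by simpa using e.trans e'.symm)
    have h10 := Finset.sum_le_sum_of_subset (f := fun y => blockRank p (sblk p M V (eb M (𝐂 V) c) y))
      (show {1, s * v * s⁻¹, y} ⊆ Y by simp [Finset.insert_subset_iff, a1, x1, y1])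
    have h11 := fun y hy => blockRank_pos hM.1
      (isPBlock_nonempty hM (subP_sblk hM m.bp (hY.mem y hy)).blk)
    rw [Finset.sum_insert (by simp [b1, b2]), Finset.sum_pair h9, ← h8] at h10
    have h12 := blockRank_eq_of_induced_top hM cent_one_eq_top
      ((subP_sblk hM m.bp (one_mem _)).induced hM hB m)
    have := h11 _ a1
    have := h11 _ x1
    have := h11 _ y1
    omega
  · have h8 := cover_of_over hM (isPBlock_blockOf χ) hc (mem_blockOf_self hM χ) h5 hχ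
    by_contra h9
    refine h8 ?_
    rw [← m.br, Br_eq_self_of_normal le_rfl m.isDef.isP le_top (top_le_norm V) m.prim.mem
      m.prim.idem, ← mul_assoc, eB_mul_eB_of_ne hM (isPBlock_blockOf χ) hB
      (fun e => h9 (e ▸ mem_blockOf_self hM χ)), zero_mul]

end

open H20 H19 H6 in
theorem loc (hM : IsPModular p M) (hB : IsPBlock M B) (hV : IsElementaryAbelian p V)
    (hD : IsDefectGroup p M B V) (h3 : Nat.card B ≤ 3) : Nat.card V ≤ 3 := by
  by_cases h0 : V = ⊥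
  · simp [h0]
  by_cases h1 : blockRank p B = 1
  · exact (Cfsg.Agent.S4648.result p M hM B hB V hD h0 h1 (by omega)).2.1.trans_le h3
  have := Fintype.ofFinite C(V)
  have := Fintype.ofFinite V
  have hVc := H28.le_centralizer_self_iff.2 hV.1
  obtain ⟨θ, T, h4, h5, h6, h7, h8⟩ := loc_data hM hB hVc hD h3 h1
  have hθ := amb_irr θ
  have hT : H20.inertia ⊤ (amb θ) = T := Subgroup.ext fun g => by
    rw [inertia_amb, h4]
    exact ⟨fun h => Subtype.ext (funext fun n => h n _ rfl), fun h n n' e => by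
      exact (congrArg θ.1 (Subtype.ext e)).trans (congrFun (congrArg Subtype.val h) n)⟩
  have hN : C(V) ⊴ ⊤ := normalIn_top
  have hle : C(V) ≤ T := hT ▸ le_inertia (irr_cinv hθ) le_top
  haveI := (nontrivial_iff_ne_bot V).2 h0
  haveI : Nontrivial (H9.EA hV) := inferInstanceAs (Nontrivial V)
  obtain ⟨ζ, z1, z2⟩ := Finset.exists_mem_ne (s := Irr V) (by
    rw [card_Irr_classes]; exact TP.two_le_kc Finite.one_lt_card) (triv V)
  obtain ⟨ζ, rfl⟩ := exists_amb z1
  obtain ⟨χ, c1, c2⟩ := H8.exists_over_of_normal_pgroup hM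
    (H8.isPGroup_of_isDefectGroup hD) hB ζ
  rw [dot_amb_top] at c2
  have h9 : (ovr ⊤ C(V) (amb θ)).card ≤ 2 := by
    rw [← card_top_irr (q := fun χ => dot C(V) χ (amb θ) ≠ 0) (ovr_subset _ _ _) fun χ => by
      simp [mem_ovr, coe_mem_Irr_top χ]]
    have : {χ : IrrCharacter G | dot C(V) χ (amb θ) ≠ 0} ⊆ B \ {χ} := fun ψ hψ =>
      ⟨h8 ψ (by rwa [dot_amb_top]), fun e => z2 ((irr_le_cker_iff z1).1 (le_cker_of_below
        (irr_chr (coe_mem_Irr_top χ)) le_top z1 c2 le_rfl (le_cker_of_above (coe_mem_Irr_top χ)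
        le_top (irr_chr hθ) (e ▸ hψ) normalIn_top.norm hVc ((chr_le_cker (irr_chr hθ) hVc).2
        fun x hx => by rw [amb_of_mem _ (hVc hx), amb_one]; exact h7 _ hx))))⟩
    have h10 := Set.ncard_le_ncard this
    rw [Set.ncard_diff_singleton_of_mem c1] at h10
    exact h10.trans (Nat.sub_le_of_le_add h3)
  rw [card_ovr_inertia hN hθ, hT] at h9
  have hk : (TP.cρ hV T).rangeRestrict.ker = C(V).subgroupOf T := Subgroup.ext fun g => by
    rw [MonoidHom.ker_rangeRestrict, MonoidHom.mem_ker, LinearEquiv.ext_iff]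
    exact ⟨fun h v hv => (mem_centralizer_singleton_iff.1 (TP.cρ_fix.1 (h (H9.EA.mk hV v hv)))).symm,
      fun h v => TP.cρ_fix.2 (mem_centralizer_singleton_iff.2 (h _ v.val_mem).symm)⟩
  haveI := Finite.of_surjective _ (TP.cρ hV T).rangeRestrict_surjective
  exact small_of_ovr (V := H9.EA hV) (MonoidHom.rangeRestrict_surjective _) hk (hN.of_le hle le_top) hθ
    (hT ▸ cinv_inertia _ _) (ρ := (TP.cρ hV T).range.subtype)
    (fun v w hv hw => (TP.cρ_tr h6 v w hv hw).elim fun g e => ⟨⟨_, g, rfl⟩, e⟩)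
    (subtype_injective _) (rel_card (MonoidHom.rangeRestrict_surjective _) hk ▸ h5) h9

open H8 H28 H7 in
theorem cyc_of_normal (hM : IsPModular p M) (hB : IsPBlock M B) (hD : IsDefectGroup p M B V)
    (h3 : Nat.card {χ // χ ∈ B ∧ blockHeight p B χ.1 = 0} ≤ 3) : IsCyclic V := by
  have hP := H8.isPGroup_of_isDefectGroup hD
  let F := (frattini V).map V.subtype
  haveI : F.Normal := inferInstance
  let π := QuotientGroup.mk' F
  have hπ : Function.Surjective π := QuotientGroup.mk'_surjective _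
  have hk : π.ker = F := QuotientGroup.ker_mk' _
  have hkD : π.ker ≤ V := hk.le.trans (map_subtype_le _)
  haveI : (V.map π).Normal := Normal.map inferInstance π hπ
  have hab : V.map π ≤ 𝐂 (V.map π) := by
    rw [← commutator_eq_bot_iff_le_centralizer, ← Subgroup.map_commutator, Subgroup.map_eq_bot_iff, hk]
    exact H1.commutator_le_frattiniOf_of_isNilpotent hP.isNilpotent
  obtain ⟨C, hC, h6, hE⟩ := exists_dom_isDefectGroup hM hπ (hP.to_le hkD) hB hD
  have h4 := loc hM hC ⟨le_centralizer_self_iff.1 hab, by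
    rintro _ ⟨a, ha, rfl⟩
    rw [← map_pow, ← MonoidHom.mem_ker, hk]
    exact ⟨_, H4.pow_mem_frattini hP ⟨a, ha⟩, rfl⟩⟩ hE (le_trans (Nat.card_le_card_of_injective
      (fun ψ => (⟨infl π hπ ψ, h6 ψ.2, ?_⟩ : {χ // χ ∈ B ∧ blockHeight p B χ.1 = 0})) fun a b e => Subtype.ext
        (infl_injective (hf := hπ) (congrArg Subtype.val e))) h3)
  · obtain ⟨w, ⟨w, hw, rfl⟩, e⟩ : ∃ w ∈ V.map π, V.map π ≤ zpowers w := exists_gen (by
      have := Nat.card_pos (α := V.map π)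
      rcases (by omega : Nat.card (V.map π) = 1 ∨ Nat.card (V.map π) = 2 ∨
        Nat.card (V.map π) = 3) with e | e | e
      · exact isCyclic_of_card_dvd_prime (p := 2) (e ▸ one_dvd _)
      · exact isCyclic_of_prime_card e
      · exact isCyclic_of_prime_card e)
    rw [← MonoidHom.map_zpowers, Subgroup.map_le_map_iff, hk] at e
    rw [← H1.eq_of_sup_of_le_frattiniOf (zpowers_le.2 hw) le_rfl e]
    infer_instance
  have h9 := factorization_degree hM hB hD (h6 ψ.2)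
  have h10 := H6.ito ψ.1.2 (A := V.map π)
    (fun a ha b hb => mem_centralizer_iff.1 (hab hb) a ha) (irr_apply_one ψ.1)
  rw [index_map_eq _ hπ hkD] at h10
  have h11 := (Nat.factorization_le_iff_dvd (charDegree_ne_zero ψ.1)
    FiniteIndex.index_ne_zero).2 h10 p
  have h12 : charDegree (infl π hπ ψ.1).1 = charDegree ψ.1.1 := charDegree_eq (by
    rw [infl_apply, map_one, irr_apply_one])
  rw [h12] at h9
  omega

omit [V.Normal] in
theorem card_three (hM : IsPModular p M) (hB : IsPBlock M B) (hD : IsDefectGroup p M B V)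
    (hk : Nat.card B = 3) (hc : IsCyclic V) : Nat.card V = 3 := by
  haveI := H8.charP_kk hM
  have := Fintype.ofFinite G
  have h0 : V ≠ ⊥ := fun h => by
    have := H21.card_eq_one_of_defect hM hB ((H7.blockDefect_eq_zero_iff hM hB hD).2 h)
    omega
  obtain ⟨e, m⟩ := H8.exists_maxP_block hM hB hD
  obtain ⟨X, Y, a, δ, h, h1, h2⟩ := H21.cyc_star hM hB m hc h0
  have h3 := h.card
  have := (one_lt_card_iff_ne_bot V).2 h0
  have h4 : Y.card * X.card ≠ 0 := by omega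
  obtain ⟨h5, h6⟩ := mul_ne_zero_iff.1 h4
  rcases (by omega : X.card = 1 ∧ Y.card = 2 ∨ X.card = 2 ∧ Y.card = 1) with ⟨a, b⟩ | ⟨a, b⟩ <;>
    rw [← h2, a, b]

end H5.K3
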