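import Cfsg.Agent.H1.SF0
import Cfsg.Agent.H1.Wielandt
import Cfsg.Agent.H1.Frattini
import Cfsg.Agent.H5.Burnside
import Cfsg.Agent.H22.KM1

/-! Simple groups of order `p * 3 ^ a * 2 ^ b`: counting tools and the standing hypothesis. -/

set_option autoImplicit false
set_option linter.unusedSectionVars false

namespace H5.KT
open Cfsg Subgroup H19
open scoped commutatorElement

variable {G : Type*} [Group G] [Finite G] {p n k : ℕ} {A B D E H K M P Q R S T U V W : Subgroup G}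
  {g t u x y z : G}

theorem orb_card {Y : Type*} [MulAction G Y] (H : Subgroup G) (s : Y) :
    (MulAction.orbit H s).ncard = (MulAction.stabilizer G s).relIndex H :=
  (MulAction.index_stabilizer H s).symm

theorem orb_dvd {Y : Type*} [MulAction G Y] [Finite Y] {X : Set Y}
    (hS : ∀ h ∈ H, ∀ s ∈ X, h • s ∈ X)
    (h : ∀ s ∈ X, n ∣ (MulAction.stabilizer G s).relIndex H) : n ∣ X.ncard := by
  induction e : X.ncard using Nat.strong_induction_on generalizing X with | _ N ih =>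
  obtain rfl | ⟨s, hs⟩ := X.eq_empty_or_nonempty
  · simp [← e]
  have l : MulAction.orbit H s ⊆ X := fun _ ⟨g, hg⟩ => hg ▸ hS g g.2 s hs
  have k := Set.ncard_sdiff_add_ncard_of_subset l
  have p := (Set.ncard_pos (Set.toFinite _)).2 (MulAction.nonempty_orbit (M := H) s)
  rw [← e, ← k]
  refine dvd_add (ih _ (by omega) (X := X \ MulAction.orbit H s)
    (fun g hg x hx => ⟨hS g hg x hx.1, fun o => hx.2 ?_⟩) (fun x hx => h x hx.1) rfl)
    (orb_card H s ▸ h s hs)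
  simpa [Subgroup.smul_def] using MulAction.mapsTo_smul_orbit (⟨g, hg⟩ : H)⁻¹ s o

/-- the `H`-class of `y` -/
def Cl (H : Subgroup G) (y : G) : Set G := {x | ∃ h ∈ H, h * y * h⁻¹ = x}

theorem stab_conj (s : G) :
    @MulAction.stabilizer G G _ (MulAction.compHom G (MulAut.conj (G := G))) s = C[s] :=
  Subgroup.ext fun _ => mul_inv_eq_iff_eq_mul.trans mem_cent1.symm

theorem cl_card (H : Subgroup G) (y : G) : #(H ⊓ C[y]) * (Cl H y).ncard = #H := by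
  rw [← card_inf_mul_relIndex C[y] H, inf_comm, ← stab_conj,
    ← @orb_card G _ _ G (MulAction.compHom G (MulAut.conj (G := G)))]
  congr 2
  exact Set.ext fun x => ⟨fun ⟨h, h1, h2⟩ => ⟨⟨h, h1⟩, h2⟩, fun ⟨h, h2⟩ => ⟨h, h.2, h2⟩⟩

theorem cl_dvd {X : Set G} (hS : ∀ h ∈ H, ∀ s ∈ X, h * s * h⁻¹ ∈ X)
    (h : ∀ s ∈ X, n * #(H ⊓ C[s]) ∣ #H) : n ∣ X.ncard :=
  @orb_dvd G _ _ n H G (MulAction.compHom G (MulAut.conj (G := G))) _ X hS fun s hs => by
    have := h s hs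
    rw [← card_inf_mul_relIndex C[s] H, inf_comm C[s], mul_comm] at this
    rw [stab_conj]
    exact Nat.dvd_of_mul_dvd_mul_left (card_pos _) this

theorem mod_cent (hp : p.Prime) (hR : PG p R) (hn : R ≤ N(Q)) : #Q ≡ #(Q ⊓ C(R)) [MOD p] := by
  have := Fact.mk hp
  exact H1.card_modEq_card_inf_centralizer hR.isPGroup hn

theorem pg23 (h : PG 3 R) : PiG {2}ᶜ R := h.sing_ne (by decide)
theorem pg32 (h : PG 2 R) : PiG {3}ᶜ R := h.sing_ne (by decide)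
theorem cop23 (hQ : PG 2 Q) (hR : PG 3 R) : (#Q).Coprime #R := hQ.coprime (pg23 hR)
theorem cop32 (hR : PG 3 R) (hQ : PG 2 Q) : (#R).Coprime #Q := (cop23 hQ hR).symm
theorem odd3 (hR : PG 3 R) : Odd #R := by
  obtain ⟨k, hk⟩ := hR.exists_card
  exact hk ▸ (by decide : Odd 3).pow

theorem four_le (hB : PG 2 B) (h : A < B) (e : #B ≡ #A [MOD 3]) : 4 * #A ≤ #B := by
  obtain ⟨i, hi⟩ := (hB.of_le h.le).exists_card
  obtain ⟨j, hj⟩ := hB.exists_card
  have l := card_lt h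
  rw [hi, hj] at e l ⊢
  have l' := (Nat.pow_lt_pow_iff_right (by decide)).1 l
  obtain ⟨d, rfl⟩ := Nat.exists_eq_add_of_lt l'
  rcases d with _ | d
  · exfalso
    have h1 : Nat.Coprime 3 (2 ^ i) := Nat.Coprime.pow_right _ (by decide)
    rw [add_zero, pow_succ, Nat.ModEq] at e
    have : 3 ∣ 2 ^ i := by omega
    exact absurd (h1.eq_one_of_dvd this) (by decide)
  · rw [show i + (d + 1) + 1 = 2 + i + d by omega, pow_add, pow_add]
    exact Nat.le_mul_of_pos_right _ (by positivity)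

/-- fixed points of a proper subgroup grow by a factor at least four -/
theorem four_cent (hQ : PG 2 Q) (hR : PG 3 R) (hn : R ≤ N(Q)) (hS : S ≤ R)
    (h : ¬ Q ⊓ C(S) ≤ C(R)) : 4 * #(Q ⊓ C(R)) ≤ #(Q ⊓ C(S)) :=
  four_le (hQ.infl _) (lt_of_le_not_ge (inf_le_inf_left _ (cent_mono hS))
    fun e => h (e.trans inf_le_right))
    ((mod_cent Nat.prime_three (hR.of_le hS) (hS.trans hn)).symm.trans
      (mod_cent Nat.prime_three hR hn))

theorem cl_le (hn : R ≤ N(Q)) (hx : x ∈ Q) (h1 : x ≠ 1) : (Cl R x).ncard ≤ #Q - 1 := by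
  rw [show #Q = (Q : Set G).ncard from Nat.card_coe_set_eq _,
    ← Set.ncard_sdiff_singleton_of_mem (s := (Q : Set G)) (one_mem Q)]
  exact Set.ncard_le_ncard fun _ ⟨k, k1, k2⟩ =>
    k2 ▸ ⟨conj_mem_of_norm (hn k1) hx, by simpa using h1⟩

theorem faith_bd (hQ : PG 2 Q) (h1 : Q ≠ ⊥) (k : ℕ) (hR : PG 3 R) (hn : R ≤ N(Q))
    (h : #Q < 4 ^ (k + 1) * #(Q ⊓ C(R))) : #R ≤ (#Q - 1) ^ k * #(R ⊓ C(Q)) := by
  have q1 : 0 < #Q - 1 := by have := ne_bot_iff_one_lt_card.1 h1; omega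
  induction k generalizing R with
  | zero =>
    have : Q ≤ C(R) := by_contra fun e => by
      have := four_cent hQ hR hn bot_le (by simpa using e)
      simp at this h
      omega
    rw [inf_eq_left.2 (cents_symm this)]
    simp
  | succ k ih =>
    by_cases e : Q ≤ C(R)
    · rw [inf_eq_left.2 (cents_symm e)]
      exact Nat.le_mul_of_pos_left _ (by positivity)
    obtain ⟨x, hx, hc⟩ := SetLike.not_le_iff_exists.1 e
    have k1 := cl_card R x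
    have k2 := cl_le hn hx fun e => hc (e ▸ one_mem _)
    have k3 := four_cent hQ hR hn (inf_le_left (b := C[x])) fun e =>
      hc (e ⟨hx, le_cent1_iff.1 inf_le_right⟩)
    have k4 := ih (hR.infl C[x]) (inf_le_left.trans hn) (by
      rw [pow_succ, mul_assoc] at h
      exact h.trans_le (Nat.mul_le_mul_left _ k3))
    have k5 : #(R ⊓ C[x] ⊓ C(Q)) ≤ #(R ⊓ C(Q)) := card_le (inf_le_inf_right _ inf_le_left)
    calc #R ≤ #(R ⊓ C[x]) * (#Q - 1) := k1 ▸ Nat.mul_le_mul_left _ k2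
      _ ≤ (#Q - 1) ^ k * #(R ⊓ C(Q)) * (#Q - 1) :=
        Nat.mul_le_mul_right _ (k4.trans (Nat.mul_le_mul_left _ k5))
      _ = _ := by ring

theorem inv_odd (ht : t * t = 1) (hM : t ∈ M) (h : t ∉ Oc {2} M) :
    ∃ x ∈ M, (orderOf x).Prime ∧ orderOf x ≠ 2 ∧ t * x * t⁻¹ = x⁻¹ := by
  obtain ⟨x, h1, h2, h3⟩ := H1.exists_odd_inverted (G := M) (t := ⟨t, hM⟩) (Subtype.ext ht)
    fun e => h (pCore_map_eq Nat.prime_two M ▸ mem_map_of_mem _ e)
  have h4 : t * x * t⁻¹ = (x : G)⁻¹ := congrArg Subtype.val h3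
  rw [← orderOf_coe] at h2
  obtain ⟨q, hq, hd⟩ := exists_prime_dvd_orderOf (x := (x : G)) fun e => h1 (Subtype.ext e)
  obtain ⟨y, hy, ho⟩ := exists_orderOf_eq_prime (H := zpowers (x : G)) hq
    (by rwa [Nat.card_zpowers])
  refine ⟨y, zpowers_le.2 x.2 hy, ho ▸ hq, ho ▸ odd_prime_ne_two h2 hd, ?_⟩
  obtain ⟨j, rfl⟩ := mem_zpowers_iff.1 hy
  rw [← conj_zpow, h4, inv_zpow]

/-- the standing hypothesis -/
structure Hy (p : ℕ) (G : Type*) [Group G] : Prop where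
  pp : p = 7 ∨ p = 13 ∨ p = 17
  card : ∃ a b, Nat.card G = p * 3 ^ a * 2 ^ b
  cp : ∀ x : G, orderOf x = p → C[x] = zpowers x
  c2 : ∀ W : Subgroup G, PG 2 W → W ≠ ⊥ → N(W) ⊓ C(Oc {2} N(W)) ≤ Oc {2} N(W)
  ti : ∀ T : Subgroup G, Syl 2 T ⊤ → ∃ g, T ⊓ cj g T = ⊥
  ns : ∃ W : Subgroup G, PG 2 W ∧ W ≠ ⊥ ∧ ¬ Sol N(W)
  od : p = 7 → ∀ R : Subgroup G, Syl 3 R ⊤ → #R % 4 = 3

namespace Hy
variable (h : Hy p G)
include h

theorem pr : p.Prime := by rcases h.pp with rfl | rfl | rfl <;> decide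
theorem n2 : p ≠ 2 := by have := h.pp; omega
theorem n3 : p ≠ 3 := by have := h.pp; omega

theorem np (h1 : x ≠ 1) (hx : orderOf x ≠ p) : ¬ p ∣ #C[x] := fun e => by
  obtain ⟨y, hy, ho⟩ := exists_orderOf_eq_prime h.pr e
  have := orderOf_dvd_of_mem_zpowers (h.cp y ho ▸ mem_cent1_symm.1 hy)
  rcases (Nat.dvd_prime h.pr).1 (ho ▸ this) with e | e
  exacts [h1 (orderOf_eq_one_iff.1 e), hx e]

theorem np2 (ht : orderOf t = 2) : ¬ p ∣ #C[t] :=
  h.np (H22.KM.ne1 ht) (ht ▸ h.n2.symm)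

theorem np3 (hy : orderOf y = 3) : ¬ p ∣ #C[y] :=
  h.np (fun e => by simp [e] at hy) (hy ▸ h.n3.symm)

theorem dvd (hK : ¬ p ∣ #K) : ∃ a b, #K ∣ 3 ^ a * 2 ^ b := by
  obtain ⟨a, b, e⟩ := h.card
  exact ⟨a, b, (h.pr.coprime_iff_not_dvd.2 hK).symm.dvd_of_dvd_mul_left
    (mul_assoc p _ _ ▸ e ▸ card_subgroup_dvd_card K)⟩

theorem sol (hK : ¬ p ∣ #K) : Sol K :=
  let ⟨_, _, e⟩ := h.dvd hK
  H5.isSolvable_of_card_dvd_prime_pow_mul Nat.prime_three Nat.prime_two e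

theorem prm {q : ℕ} (hq : q.Prime) (hd : q ∣ Nat.card G) : q = p ∨ q = 3 ∨ q = 2 := by
  obtain ⟨a, b, e⟩ := h.card
  rw [e, hq.dvd_mul, hq.dvd_mul] at hd
  rcases hd with (e | e) | e
  · exact .inl ((Nat.prime_dvd_prime_iff_eq hq h.pr).1 e)
  · exact .inr (.inl ((Nat.prime_dvd_prime_iff_eq hq Nat.prime_three).1 (hq.dvd_of_dvd_pow e)))
  · exact .inr (.inr ((Nat.prime_dvd_prime_iff_eq hq Nat.prime_two).1 (hq.dvd_of_dvd_pow e)))

theorem pg2 (hK : ¬ p ∣ #K) (h3 : PiG {3}ᶜ K) : PG 2 K := fun q hq hd => by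
  rcases h.prm hq (hd.trans (card_subgroup_dvd_card K)) with rfl | rfl | rfl
  exacts [absurd hd hK, absurd rfl (h3 3 hq hd), rfl]

theorem pg3 (hK : ¬ p ∣ #K) (h2 : PiG {2}ᶜ K) : PG 3 K := fun q hq hd => by
  rcases h.prm hq (hd.trans (card_subgroup_dvd_card K)) with rfl | rfl | rfl
  exacts [absurd hd hK, rfl, absurd rfl (h2 2 hq hd)]

theorem sol2 (ht : orderOf t = 2) : Sol C[t] := h.sol (h.np2 ht)
theorem sol3 (hy : orderOf y = 3) : Sol C[y] := h.sol (h.np3 hy)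

theorem o3 (hy : orderOf y = 3) : PG 2 (Oc {3}ᶜ C[y]) :=
  h.pg2 (fun e => h.np3 hy (e.trans (card_dvd (Oc_le _ _)))) (Oc_pi _ _)

theorem cardG (hR : Syl 3 R ⊤) (hT : Syl 2 T ⊤) : Nat.card G = p * #R * #T := by
  obtain ⟨a, b, e⟩ := h.card
  have c3 : Nat.Coprime 3 p := (Nat.coprime_primes Nat.prime_three h.pr).2 h.n3.symm
  have c2 : Nat.Coprime 2 p := (Nat.coprime_primes Nat.prime_two h.pr).2 h.n2.symm
  have e1 : #R = 3 ^ a := by
    obtain ⟨i, hi⟩ := hR.pi.exists_card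
    refine Nat.dvd_antisymm ?_ (hR.dvd (PiN.prime_pow Nat.prime_three a)
      (by rw [card_top, e]; exact (Dvd.intro_left _ rfl).mul_right _))
    have := card_subgroup_dvd_card R
    rw [e, hi] at this
    exact hi ▸ (c3.pow_left i).dvd_of_dvd_mul_left
      ((Nat.Coprime.pow i b (by decide)).dvd_of_dvd_mul_right this)
  have e2 : #T = 2 ^ b := by
    obtain ⟨i, hi⟩ := hT.pi.exists_card
    refine Nat.dvd_antisymm ?_ (hT.dvd (PiN.prime_pow Nat.prime_two b)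
      (by rw [card_top, e]; exact Dvd.intro_left _ rfl))
    have := card_subgroup_dvd_card T
    rw [e, hi] at this
    exact hi ▸ (Nat.Coprime.mul_right (c2.pow_left i)
      (Nat.Coprime.pow i a (by decide))).dvd_of_dvd_mul_left this
  rw [e, e1, e2]

theorem bd (hQ : PG 2 Q) (hD : PiG {2}ᶜ D) (hn : D ≤ N(Q)) (hR : Syl 3 R ⊤) :
    #Q * #D ≤ p * #R := by
  obtain ⟨T, hT, l⟩ := hQ.exists_syl le_top
  obtain ⟨g, hg⟩ := h.ti T hT
  have s := sdprod_sup hn (hQ.inf_eq_bot hD)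
  have e : cj g T ⊓ (Q ⊔ D) = ⊥ := H19.eq_bot_mono (le_inf (((s.hall_of_pi hQ hD).le_of_normal
    s.normal.norm inf_le_right ((hT.pi.J g).infl _)).trans l) inf_le_left) hg
  have k1 := card_inf_mul_relIndex (cj g T) (Q ⊔ D)
  have k2 := relIndex_le_of_le_right (H := cj g T) (le_top (a := Q ⊔ D)) (relIndex_ne_zero' _ _)
  have k3 := card_mul_relIndex (le_top (a := cj g T))
  rw [e, card_bot, one_mul, ← s.card] at k1
  rw [card_cj, card_top, h.cardG hR hT, mul_comm] at k3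
  rw [← k1, ← Nat.eq_of_mul_eq_mul_right (card_pos T) k3]
  exact k2

theorem exp (hW : PG 2 W) (h1 : W ≠ ⊥) (ns : ¬ Sol N(W)) : ∃ x ∈ N(W), orderOf x = p :=
  exists_orderOf_eq_prime h.pr (by_contra fun e => ns (h.sol e))

theorem mod_p (hQ : PG 2 Q) (hx : orderOf x = p) (hn : x ∈ N(Q)) : #Q ≡ 1 [MOD p] := by
  have hX := el1_zpowers h.pr (mem_top x) hx
  have := mod_cent h.pr hX.pg (zpowers_le.2 hn)
  rwa [cent_zpowers, h.cp x hx, hQ.inf_eq_bot (hX.pg.sing_ne h.n2), card_bot] at this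

theorem big (hR : Syl 3 R ⊤) : ∃ k, k ≠ 0 ∧ 2 ^ k ≡ 1 [MOD p] ∧ 2 ^ k ≤ #R := by
  obtain ⟨W, hW, h1, ns⟩ := h.ns
  obtain ⟨x, hx, ho⟩ := h.exp hW h1 ns
  have hX := el1_zpowers h.pr (mem_top x) ho
  obtain ⟨k, hk⟩ := hW.exists_card
  have k1 := h.bd hW (hX.pg.sing_ne h.n2) (zpowers_le.2 hx) hR
  rw [hX.card1, mul_comm] at k1
  refine ⟨k, fun e => ?_, hk ▸ h.mod_p hW ho hx, hk ▸ Nat.le_of_mul_le_mul_left k1 h.pr.pos⟩
  have := ne_bot_iff_one_lt_card.1 h1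
  simp [hk, e] at this

theorem faith (hW : PG 2 W) (h1 : W ≠ ⊥) (hD : PiG {2}ᶜ D) (hn : D ≤ N(W)) :
    D ⊓ C(Oc {2} N(W)) = ⊥ :=
  H19.eq_bot_mono (le_inf inf_le_left ((inf_le_inf_right _ hn).trans (h.c2 W hW h1)))
    (hD.inf_eq_bot' (Oc_pi _ _))

/-- a Sylow `3`-subgroup normalizes no non-trivial `2`-subgroup -/
theorem syl3 (hR : Syl 3 R ⊤) (hW : PG 2 W) (hn : R ≤ N(W)) : W = ⊥ := by
  by_contra h1
  have q1 := ne_bot_mono (le_Oc (normalIn_norm W) hW) h1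
  have q2 := Oc_pi {2} N(W)
  have q3 := hn.trans (Oc_norm {2} _)
  have q4 := h.faith hW h1 (pg23 hR.pi) hn
  generalize Oc {2} N(W) = Q at q1 q2 q3 q4
  have k1 := Nat.le_of_mul_le_mul_right (h.bd q2 (pg23 hR.pi) q3 hR) (card_pos R)
  have k2 := fun k (e : #Q < 4 ^ (k + 1)) => faith_bd q2 q1 k hR.pi q3
    (e.trans_le (Nat.le_mul_of_pos_right _ (card_pos _)))
  rw [q4, card_bot] at k2
  obtain ⟨k, k0, k3, k4⟩ := h.big hR
  obtain ⟨i, hi⟩ := q2.exists_card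
  have k5 : ∀ j, (∀ i < j, i ≠ 0 → ¬ 2 ^ i ≡ 1 [MOD p]) → 2 ^ j ≤ #R := fun j e =>
    (Nat.pow_le_pow_right (by decide) (le_of_not_gt fun l => e k l k0 k3)).trans k4
  rcases h.pp with rfl | rfl | rfl
  · have := k5 3 (by decide)
    have := k2 1 (by omega)
    rw [pow_one] at this
    omega
  · have := k5 12 (by decide)
    have := k2 1 (by omega)
    rw [pow_one] at this
    omega
  · have := k5 8 (by decide)
    have := k2 2 (by omega)
    have : #Q ≤ 16 := by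
      rw [hi] at k1 ⊢
      exact Nat.pow_le_pow_right (n := 2) (by decide) (show i ≤ 4 from le_of_not_gt fun l => by
        have := Nat.pow_le_pow_right (n := 2) (by decide) l
        omega)
    have : (#Q - 1) ^ 2 ≤ 15 ^ 2 := Nat.pow_le_pow_left (by omega) 2
    omega

end Hy

end H5.KT
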