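import Cfsg.Agent.H5.KT1
import Cfsg.Agent.H22.KM3
import Cfsg.Agent.S0217

/-! Simple groups of order `p * 3 ^ a * 2 ^ b`: good elements of order three. -/

set_option autoImplicit false
set_option linter.unusedSectionVars false

namespace H5.KT
open Cfsg Subgroup H19 H22.KM
open scoped commutatorElement

variable {G : Type*} [Group G] [Finite G] {p n m d : ℕ}
  {A B D E F H K M P Q R S T U V W X : Subgroup G} {a b g s t u x y z : G}

/-- `O_{3'}(C(y)) = 1` -/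
def Gd (y : G) : Prop := Oc {3}ᶜ C[y] = ⊥
/-- some element is good -/
def HG (D : Subgroup G) : Prop := ∃ y ∈ D, y ≠ 1 ∧ Gd y
/-- all elements are good -/
def AG (D : Subgroup G) : Prop := ∀ y ∈ D, y ≠ 1 → Gd y

theorem Gd.cj (h : Gd y) (g : G) : Gd (g * y * g⁻¹) := by
  rw [Gd, ← cj_cent1, ← cj_Oc, h, cj_bot]

theorem HG.mono (h : HG D) (l : D ≤ E) : HG E :=
  let ⟨y, h1, h2⟩ := h
  ⟨y, l h1, h2⟩

theorem AG.mono (h : AG D) (l : E ≤ D) : AG E := fun y hy => h y (l hy)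

theorem AG.hg (h : AG D) (h1 : D ≠ ⊥) : HG D :=
  let ⟨y, h2, h3⟩ := exists_ne_one h1
  ⟨y, h2, h3, h y h2 h3⟩

theorem ord3 (hA : El 3 n A M) (ha : a ∈ A) (h1 : a ≠ 1) : orderOf a = 3 :=
  orderOf_of_pow Nat.prime_three (hA.ab.2 a ha) h1

theorem el13 (hy : orderOf y = 3) : El 3 1 (zpowers y) ⊤ := el1_zpowers Nat.prime_three (mem_top y) hy
theorem el12 (hy : orderOf t = 2) : El 2 1 (zpowers t) ⊤ := el1_zpowers Nat.prime_two (mem_top t) hy
theorem ne13 (hy : orderOf y = 3) : y ≠ 1 := fun e => by simp [e] at hy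

theorem Gd.ag (h : Gd y) (hy : orderOf y = 3) : AG (zpowers y) := fun x hx h1 => by
  rwa [Gd, ← cent_eq_cent1_of_prime (el13 hy).prime_card hx h1, cent_zpowers]

theorem norm_zp (ht : orderOf t = 2) : N(zpowers t) = C[t] :=
  le_antisymm (le_cent1_iff.2 (cent_of_two (el12 ht) le_rfl (mem_zpowers t)))
    (cent1_le_norm_zpowers t)

namespace Hy
variable (h : Hy p G)
include h

theorem c2t (ht : orderOf t = 2) : C[t] ⊓ C(Oc {2} C[t]) ≤ Oc {2} C[t] :=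
  norm_zp ht ▸ h.c2 _ (el12 ht).pg (el12 ht).ne_bot

theorem gdZ (hR : Syl 3 R ⊤) (hz : orderOf z = 3) (l : R ≤ C[z]) : Gd z :=
  h.syl3 hR (h.o3 hz) (l.trans (Oc_norm _ _))

theorem bal (ha : orderOf a = 3) (hb : orderOf b = 3) (c : a ∈ C[b]) :
    Oc {3}ᶜ C[a] ⊓ C[b] ≤ Oc {3}ᶜ C[b] := by
  refine le_trans ?_ (H18.p'core_cent_pgroup (el13 ha).pg (zpowers_le.2 c) (h.sol3 hb))
  rw [cent_zpowers]
  exact (le_inf inf_le_left (le_inf inf_le_right (inf_le_left.trans (Oc_le _ _)))).trans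
    (Oc_inf_le inf_le_right)

theorem chain (hy : orderOf y = 3) (hD : El 3 2 D C[y]) (g : AG D) : Gd y :=
  le_bot_iff.1 (H1.le_of_cent1 Nat.prime_three hD.ab (by rw [hD.card]; decide)
    (hD.le.trans (Oc_norm _ _)) (Oc_pi _ _) fun b hb b1 =>
      (h.bal hy (ord3 hD hb b1) (mem_cent1_symm.1 (hD.le hb))).trans (g b hb b1).le)

theorem gdU (hR : Syl 3 R ⊤) (hU : El 3 2 U A) (hn : R ≤ N(U)) (hA : El 3 3 A ⊤) : AG U := by
  have := Fact.mk Nat.prime_three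
  have c : ∀ a ∈ A, A ≤ C[a] := fun a ha => le_cent1_iff.2 (hA.le_cent ha)
  have k := (Cfsg.Agent.S0217.result (p := 3) A (fun a ha b hb => mul_comm_of_comm hA.comm ha hb)
    hA.ab.2 hA.card.ge (fun a => Oc {3}ᶜ C[a]) (fun a _ _ => Oc_le _ _)
    (fun a _ _ => (Oc_pi _ _).not_dvd Nat.prime_three rfl)
    (fun a ha _ b hb x hx => conj_mem_of_norm (Oc_norm _ _ (c a ha hb)) hx)
    (fun a ha a1 => (h.o3 (ord3 hA ha a1)).sol)
    (fun a ha a1 b hb b1 => h.bal (ord3 hA ha a1) (ord3 hA hb b1) (c b hb ha))).1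
  set W := ⨆ a : {a : G // a ∈ U ∧ a ≠ 1}, Oc {3}ᶜ C[(a : G)] with hW
  have l : ∀ a ∈ U, a ≠ 1 → Oc {3}ᶜ C[a] ≤ W := fun a ha a1 =>
    le_iSup (fun a : {a : G // a ∈ U ∧ a ≠ 1} => Oc {3}ᶜ C[(a : G)]) ⟨a, ha, a1⟩
  have k1 : PiG {3}ᶜ W := (PiN.of_not_dvd k).of_le (iSup_le fun a =>
    le_iSup (fun a : {a : G // a ∈ A ∧ a ≠ 1} => Oc {3}ᶜ C[(a : G)]) ⟨a, hU.le a.2.1, a.2.2⟩)
  have k2 : R ≤ N(W) := fun r hr => mem_norm_of_cj_le (by
    rw [cj_le_iff]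
    refine iSup_le fun a => ?_
    rw [← cj_le_iff, cj_Oc, cj_cent1]
    exact l _ (conj_mem_of_norm (hn hr) a.2.1) (by simpa using a.2.2))
  obtain ⟨P, hP, n⟩ := inv_syl_exists 2 k2 (k1.coprime' hR.pi) (.inl hR.pi.sol)
  rw [h.syl3 hR hP.pi n] at hP
  exact fun u hu u1 => (h.o3 (ord3 hU hu u1)).eq_bot (hP.pi'_of_eq_bot.of_le (l u hu u1))

theorem gd3 (hF : El 3 3 F M) : AG F := by
  obtain ⟨R, hR, l⟩ := hF.pg.exists_syl le_top
  obtain ⟨U, hU, hn⟩ := hR.pi.exists_normal_el2 (odd3 hR.pi) (NormalIn.refl R)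
    fun e => hF.not_cyc (cyc_mono e l)
  have k1 := H18.index_cent_abelem2_dvd hU (l.trans hn)
  have k2 := card_inf_mul_relIndex C(U) F
  obtain ⟨j, hj⟩ := (hF.pg.relIndex C(U)).exists_pow (relIndex_ne_zero' _ _)
  obtain ⟨i, hB⟩ := abelem_el Nat.prime_three (abelem_mono hF.ab (inf_le_right (a := C(U)))) le_rfl
  rw [hj] at k1 k2
  rw [hB.card, hF.card, ← pow_add] at k2
  have k3 := Nat.pow_right_injective (by decide) k2
  have k4 : j ≤ 1 := le_of_not_gt fun e => absurd ((pow_dvd_pow 3 e).trans k1) (by decide)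
  have nl : ¬ C(U) ⊓ F ≤ U := fun e => by
    have e1 := hB.rank_le hU e
    obtain rfl : i = 2 := by omega
    have e2 := hB.eq_of_le hU e
    have : F ≤ C(U) := e2 ▸ cents_of_comm hF.comm le_rfl inf_le_right
    rw [inf_eq_right.2 this] at e
    exact hF.not_le hU (by decide) e
  obtain ⟨X, hX, nX⟩ := hB.exists_el1_not_le nl
  have g1 := h.gdU hR (hU.of_le le_sup_left) hn (hU.top.sup hX.top
    (cents_symm (hX.le.trans inf_le_left)) nX)
  obtain ⟨D, hD⟩ := hB.exists_sub (show 2 ≤ i by omega)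
  exact fun y hy y1 => h.chain (ord3 hF hy y1) (hD.of_le (le_cent1_iff.2
    (cents_of_comm hF.comm le_rfl (hD.le.trans inf_le_right) hy))) fun b hb b1 =>
      h.chain (ord3 hD hb b1) (hU.of_le (le_cent1_iff.2 (hD.le hb).1)) g1

theorem gdC (hy : orderOf y = 3) (hF : El 3 3 F C[y]) : Gd y :=
  let ⟨_, hD⟩ := hF.exists_sub (show 2 ≤ 3 by decide)
  h.chain hy (hD.mono hF.le) ((h.gd3 hF).mono hD.le)

theorem gdn (hF : El 3 (n + 3) F M) : AG F := fun y hy y1 =>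
  let ⟨_, hD⟩ := hF.exists_sub (show 3 ≤ n + 3 by omega)
  h.gdC (ord3 hF hy y1) (hD.of_le (le_cent1_iff.2 (cents_of_comm hF.comm le_rfl hD.le hy)))

theorem not_le (hg : HG D) (hD : El 3 m D ⊤) (hA : El 2 (n + 1) A C(D)) :
    ¬ A ≤ C(Oc {3} C(D)) := fun e => by
  obtain ⟨y, hy, y1, g⟩ := hg
  have s := h.sol3 (ord3 hD hy y1)
  have k := H18.p'core_cent_pgroup hD.pg (le_cent1_iff.2 (hD.le_cent hy)) s
  rw [inf_eq_right.2 (cent_le_cent1 hy), g, le_bot_iff] at k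
  exact hA.ne_bot (hA.pg.eq_bot (pg23 ((Oc_pi _ _).of_le ((le_inf hA.le e).trans
    (H18.cent_pcore_sub (sol_mono s (cent_le_cent1 hy)) k)))))

theorem lemA (hg : HG D) (hD : El 3 m D ⊤) (hA : El 2 (n + 1) A C(D)) :
    ∃ t E, orderOf t = 2 ∧ El 3 (m + n) E C[t] ∧ D ≤ E := by
  induction n generalizing m D A with
  | zero =>
    obtain ⟨t, -, ht, rfl⟩ := hA.exists_gen
    exact ⟨t, D, ht, hD.of_le (le_cent1_iff.2 (hA.le (mem_zpowers t))), le_rfl⟩
  | succ n ih =>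
    obtain ⟨B, a, y, hB, ha, hy, hc, ho, hi⟩ := step (by decide) (Oc_pi {3} C(D)) hA
      (hA.le.trans (Oc_norm _ _)) (h.not_le hg hD hA)
    obtain ⟨t, E, e1, e2, e3⟩ := ih (hg.mono le_sup_left)
      (el_adj (by decide) hD ho (Oc_le _ _ hy) hi (hA.le ha)) (hB.of_le
      (cents_sup (hB.le.trans hA.le) (cents_symm (zpowers_le.2 hc))))
    exact ⟨t, E, e1, by rwa [show m + 1 + n = m + (n + 1) by omega] at e2, le_sup_left.trans e3⟩

theorem lemA' (hg : HG D) (hD : El 3 m D ⊤) (hA : El 2 (n + 1) A C(D)) : Good 3 (m + n) G :=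
  let ⟨t, E, e1, e2, _⟩ := h.lemA hg hD hA
  ⟨t, E, e1, e2⟩

/-- an involution centralizing a `3 ^ 2` with one good element -/
theorem all_gd (ht : orderOf t = 2) (hD : El 3 2 D C[t]) (hg : HG D) : AG D := by
  have hA : El 2 1 (zpowers t) C(D) := (el12 ht).of_le (zp_cent hD.le)
  obtain ⟨B, a, y, -, ha, hy, -, ho, hi⟩ := step (by decide) (Oc_pi {3} C(D)) hA
    (hA.le.trans (Oc_norm _ _)) (h.not_le hg hD.top hA)
  exact (h.gd3 (el_adj (by decide) hD.top ho (Oc_le _ _ hy) hi (hA.le ha))).mono le_sup_left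

theorem le_zp (hg : AG D) (hm : ¬ Good 3 (d + 3) G) (ht : orderOf t = 2)
    (hD : El 3 (d + 2) D C[t]) (hV : Abelem 2 V) (hVt : V ≤ C[t]) (hn : D ≤ N(V)) :
    V ≤ zpowers t := by
  have hT := el12 ht
  have hDt : D ≤ C(zpowers t) := by rw [cent_zpowers]; exact hD.le
  have hW : Abelem 2 (V ⊔ zpowers t) := abelem_sup hV hT.ab (by rw [cent_zpowers]; exact hVt)
  have hWn : D ≤ N(V ⊔ zpowers t) := norms_sup hn (norms_of_cents hDt)
  have cop : ∀ U : Subgroup G, Abelem 2 U → (#U).Coprime #D := fun U hU =>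
    cop23 (abelem_pg Nat.prime_two hU) hD.pg
  refine le_sup_left.trans (H18.coprime_abelem_gen_cent hD hWn (cop _ hW) fun H hH => ?_)
  have hU := abelem_mono hW (inf_le_left (b := C(H)))
  have hUn : D ≤ N((V ⊔ zpowers t) ⊓ C(H)) :=
    norms_inf hWn (norms_cent (norms_of_comm hD.comm le_rfl hH.le))
  have htU : zpowers t ≤ (V ⊔ zpowers t) ⊓ C(H) :=
    le_inf le_sup_right (cents_symm (hH.le.trans hDt))
  obtain ⟨k, hk⟩ := abelem_el Nat.prime_two hU inf_le_right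
  generalize (V ⊔ zpowers t) ⊓ C(H) = U at hU hUn htU hk
  match k, hk with
  | 0, hk => exact absurd (hT.rank_le hk htU) (by omega)
  | 1, hk => exact (hT.eq_of_le hk htU).ge
  | 2, hk =>
    have h0 := ab_commg_inf_cent hk.comm hUn (cop _ hU)
    have hc : ⁅U, D⁆ = ⊥ := by
      rcases hk.sub2 (commg_le_left hUn) with e | e | e
      · exact e
      · rw [← h0, inf_eq_left.2 (cent_of_two e (commg_normr U D))]
      · rw [e] at h0
        exact absurd (H19.eq_bot_mono (le_inf htU (cents_symm hDt)) h0) hT.ne_bot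
    exact absurd (h.lemA' (hg.hg hD.ne_bot) hD.top (hk.of_le (commg_eq_bot.1 hc))) hm
  | k + 3, hk =>
    exact absurd ((h.lemA' ((hg.mono hH.le).hg hH.ne_bot) hH.top hk).mono (by omega)) hm

theorem exists_cr (hg : AG D) (hm : ¬ Good 3 (d + 3) G) (ht : orderOf t = 2)
    (hD : El 3 (d + 2) D C[t]) : ∃ K, Cr t K := by
  obtain ⟨K, h1, h3, h4, -, h5, h6⟩ :=
    H3.exists_critical_small_amb (p := 2) (Oc_pi {2} C[t]).isPGroup
  have hn : C[t] ≤ N(K) := (Oc_norm _ _).trans h3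
  have hK : K ≤ C[t] := h1.trans (Oc_le _ _)
  refine ⟨K, ht, (Oc_pi _ _).of_le h1, hK, hn, fun x hx => ?_, fun x hx he hc => ?_⟩
  · refine h.le_zp hg hm ht hD (abelem_Ohm1_center 2 K)
      ((Ohm1_le _ _).trans (inf_le_left.trans hK))
      ((hD.le.trans hn).trans (norm_le_norm_Ohm1_center 2 K))
      (mem_Ohm1 ⟨mul_mem hx hx, pow_two x ▸ h5 x hx⟩ ?_)
    rcases h4 x hx with e | e
    · rw [← pow_two, e, one_pow]
    · rw [← pow_two, ← pow_mul]; exact e.2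
  · exact PiN.e_eq_one ((Oc_pi {2} C[t]).elt (h.c2t ht ⟨hx,
      h6 x (Oc_norm _ _ hx) (he.coprime_prime Nat.prime_two) hc⟩)) he

end Hy

end H5.KT
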