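import Cfsg.Agent.H5.KT2

/-! Simple groups of order `p * 3 ^ a * 2 ^ b`: no involution centralizes a `3 ^ 3`. -/

set_option autoImplicit false
set_option linter.unusedSectionVars false

namespace H5.KT
open Cfsg Subgroup H19 H22.KM
open scoped commutatorElement

variable {G : Type*} [Group G] [Finite G] {p n m d : ℕ}
  {A B D E F H K M P Q R S T U V W X : Subgroup G} {a b g s t u x y z : G}

namespace Hy

theorem qp (hy : Hy p G) (hK : Cr t K) (hg : AG D) (hm : ¬ Good 3 (d + 3) G)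
    (hD : El 3 (d + 2) D C[t]) (hX : X ≤ K) (hn : D ≤ N(X)) (h : ¬ X ≤ C(D)) : QP t ⁅X, D⁆ := by
  have ho : PiG {2}ᶜ D := pg23 hD.pg
  have hM : ⁅X, D⁆ ≤ K := (commg_le_left hn).trans hX
  have hMn := commg_normr X D
  have hMM := commg_commg hn ((hK.pg.of_le hX).coprime ho)
  have fp := fun Y => hK.fpf (Y := Y) hX hD.le hn ho
  rw [← commg_eq_bot] at h
  generalize ⁅X, D⁆ = M at hM hMn hMM fp h
  by_contra hq
  have hq' : ∀ a ∈ M, ∀ b ∈ M, a * a = t → b * b = t → a * b = b * a := fun a ha b hb e1 e2 => by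
    by_contra e
    exact hq ⟨a, ha, b, hb, e1, e2, e⟩
  set U : Subgroup G := closure {b | b ∈ M ∧ b * b = t} with hU
  have hUM : U ≤ M := (closure_le _).2 fun b hb => hb.1
  have hUa : Ab U := comm_iff_le_cent.2 ((closure_le _).2 fun a ha => le_cent1_iff.1
    ((closure_le _).2 fun b hb => mem_cent1.2 (hq' b hb.1 a ha.1 hb.2 ha.2)))
  have hUn : D ≤ N(U) := fun g hg => mem_norm_of_cj_le (by
    rw [cj_le_iff, closure_le]
    refine fun b hb => mem_cj_inv.2 (subset_closure ⟨conj_mem_of_norm (hMn hg) hb.1, ?_⟩)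
    rw [conj_mul, hb.2, mem_cent1.1 (hD.le hg), mul_inv_cancel_right])
  have hO := hy.le_zp hg hm hK.t2 hD (abelem_Ohm1 hUa 2)
    ((Ohm1_le _ _).trans (hUM.trans (hM.trans hK.le))) (norms_Ohm1 2 hUn)
  have hUT : U ≤ zpowers t := fp U hUM (commutator_le.2 fun u hu g hg => hO (by
    have hv := conj_mem_of_norm (hUn hg) (inv_mem hu)
    have e : ⁅u, g⁆ = u * (g * u⁻¹ * g⁻¹) := by simp [commutatorElement_def, mul_assoc]
    have c := mem_cent.1 (zp_cent hD.le (hK.sq _ (inv_mem (hM (hUM hu))))) g hg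
    refine e ▸ mem_Ohm1 (mul_mem hu hv) ?_
    rw [(show Commute _ _ from mul_comm_of_comm hUa hu hv).mul_pow, pow_two, pow_two, conj_mul, c]
    simp [mul_assoc]))
  have hs : ∀ x ∈ M, x * x = 1 := fun x hx => by
    refine ((mem_zp hK.t2).1 (hK.sq x (hM hx))).resolve_right fun e => ne1 hK.t2 ?_
    rcases (mem_zp hK.t2).1 (hUT (subset_closure ⟨hx, e⟩)) with e' | e'
    · rw [← e, e', one_mul]
    · rw [← e, e', sq1 hK.t2]
  have hMa : Abelem 2 M := ⟨comm_iff_le_cent.2 fun x hx => mem_cent.2 fun z hz => by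
    have i : ∀ w ∈ M, w⁻¹ = w := fun w hw => inv_eq_of_mul_eq_one_right (hs w hw)
    rw [← i _ (mul_mem hz hx), mul_inv_rev, i x hx, i z hz], fun x hx => by rw [pow_two, hs x hx]⟩
  exact h (hMM ▸ commg_eq_bot.2
    ((hy.le_zp hg hm hK.t2 hD hMa (hM.trans hK.le) hMn).trans (zp_cent hD.le)))

theorem step4 (hy : Hy p G) (hm : ¬ Good 3 (d + 1 + 3) G) (h : Good 3 (d + 1 + 2) G) :
    ∃ E A : Subgroup G, AG E ∧ El 3 (d + 1) E ⊤ ∧ El 2 3 A C(E) := by
  obtain ⟨t, D, ht, hD⟩ := h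
  have hg : AG D := hy.gdn (n := d) hD
  have h2 : 3 ≠ 2 := by decide
  obtain ⟨K, hK⟩ := hy.exists_cr hg hm ht hD
  obtain ⟨x, hx, x1⟩ := exists_ne_one hD.ne_bot
  obtain ⟨H, hH, hxH⟩ := hK.exists_hyp h2 hD hx x1
  obtain ⟨y, hy0, y1⟩ := exists_ne_one hH.ne_bot
  obtain ⟨L, hL, hyL⟩ := hK.exists_hyp h2 hD (hH.le hy0) y1
  obtain ⟨a1, ha1, a2, ha2, e1, e2, na⟩ := hy.qp hK hg hm hD inf_le_left (hK.hn hD hH.le)
    fun e => hxH (cents_symm e hx)
  obtain ⟨b1, hb1, b2, hb2, f1, f2, nb⟩ := hy.qp hK hg hm hD inf_le_left (hK.hn hD hL.le)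
    fun e => hyL (cents_symm e (hH.le hy0))
  have l1 := commg_le_left (hK.hn hD hH.le)
  have l2 := commg_le_left (hK.hn hD hL.le)
  have hc := hK.hyp_cents hD hL (hH.le hy0) (fun e => hyL (cents_symm inf_le_right e))
    (inf_le_left (b := C(H))) (cents_symm inf_le_right hy0)
  have c : ∀ a ∈ ⁅K ⊓ C(H), D⁆, ∀ b ∈ ⁅K ⊓ C(L), D⁆, Commute a b := fun a ha b hb =>
    mem_cent.1 (hc hb) a (l1 ha)
  obtain ⟨E, hE⟩ := exists_el_inf hD hH hL
  have m1 : ∀ a ∈ ⁅K ⊓ C(H), D⁆, ∀ b ∈ ⁅K ⊓ C(L), D⁆, a * b ∈ C(E) := fun a ha b hb =>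
    mul_mem (cent_mono (hE.le.trans inf_le_left) (l1 ha).2)
      (cent_mono (hE.le.trans inf_le_right) (l2 hb).2)
  exact ⟨E, _, hg.mono (hE.le.trans (inf_le_left.trans hH.le)), hE.top, (hK.el3 (l1 ha1).1 (l1 ha2).1 (l2 hb1).1 (l2 hb2).1 e1 e2 f1 f2 na nb
    (c _ ha1 _ hb1) (c _ ha1 _ hb2) (c _ ha2 _ hb1) (c _ ha2 _ hb2)).of_le (sup_le (sup_le
    (zp_cent (hE.le.trans (inf_le_left.trans (hH.le.trans hD.le))))
    (zpowers_le.2 (m1 _ ha1 _ hb1))) (zpowers_le.2 (m1 _ ha2 _ hb2)))⟩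

theorem step5 (hG : Hy p G) (hm : ¬ Good 3 (d + 4) G) (hg : HG D)
    (hD : El 3 (d + 1) D ⊤) (hA : El 2 3 A C(D)) : False := by
  have h2 : 3 ≠ 2 := by decide
  have hP := Oc_pi {3} C(D)
  have hPD := Oc_le {3} C(D)
  have hPn := Oc_norm {3} C(D)
  have nf := fun B (hB : El 2 2 B C(D)) => hG.not_le hg hD hB
  obtain ⟨B, a, y, hB, ha, hy, hyB, yo, hi⟩ := step h2 hP hA (hA.le.trans hPn)
    (hG.not_le hg hD hA)
  generalize Oc {3} C(D) = P at hP hPD hPn nf hy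
  have hBD := hB.le.trans hA.le
  have hY := el1_zpowers hD.prime (mem_top y) yo
  obtain ⟨S, u, z, hS, hu, hz, hzS, zo, hj⟩ := step (P := P ⊓ C(zpowers y)) h2 (hP.infl _) hB
    (norms_inf (hBD.trans hPn) (norms_cent (norms_of_cents (cents_symm (zpowers_le.2 hyB)))))
    fun e => nf B (hB.of_le hBD) (PxQ hP hY.pg (hB.pg.sing_ne h2.symm) (zpowers_le.2 hyB)
      (norms_of_le (zpowers_le.2 hy)) (hBD.trans hPn) (cents_symm e))
  obtain ⟨s, -, s2, rfl⟩ := hS.exists_gen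
  have hs : s ∈ B := hS.le (mem_zpowers s)
  have hE := el_adj h2 hD yo (hPD hy) hi (hA.le ha)
  have hBE : B ≤ C(D ⊔ zpowers y) := cents_sup hBD (cents_symm (zpowers_le.2 hyB))
  have hzE : z ∈ C(D ⊔ zpowers y) := by rw [cent_sup]; exact ⟨hPD hz.1, hz.2⟩
  have hDE : D ≤ D ⊔ zpowers y := le_sup_left
  generalize D ⊔ zpowers y = E at hE hBE hzE hDE
  rw [cent_zpowers] at hzS
  have hF : El 3 (d + 3) (E ⊔ zpowers z) C[s] := (el_adj h2 hE zo hzE hj (hBE hu)).of_le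
    (sup_le (le_cent1_iff.2 (hBE hs)) (zpowers_le.2 hzS))
  have hzF : z ∈ E ⊔ zpowers z := mem_sup_right (mem_zpowers z)
  have gF : AG _ := hG.gdn hF
  obtain ⟨K, hK⟩ := hG.exists_cr gF hm s2 hF
  have hc : P ⊓ C[s] ≤ C(K ⊓ C(D)) := (hP.infl _).cents_of_norms
    ((hK.pg.infl _).sing_ne h2.symm)
    (norms_inf (inf_le_right.trans hPn) (norms_of_le (inf_le_left.trans hK.le)))
    (norms_inf (inf_le_right.trans hK.norm) (norms_of_le (inf_le_left.trans hPD)))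
  obtain ⟨H, hH, hzH⟩ := hK.exists_hyp h2 hF hzF (ne13 zo)
  obtain ⟨h, hh, hm'⟩ := moved h2 hE zo hzE hj (hBE hu) hH
    (fun e => hzH (cents_symm inf_le_right e)) fun e =>
      hzH (cent_mono (inf_le_inf_left K (cent_mono (hDE.trans e))) (hc ⟨hz.1, hzS⟩))
  have u2 : u * u = 1 := by rw [← pow_two]; exact hB.ab.2 u hu
  have ui : u⁻¹ = u := inv_eq_of_mul_eq_one_right u2
  have us : u ∈ C[s] := mem_cent1.2 (mul_comm_of_comm hB.comm hu hs)
  have uK := hK.norm us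
  have uF : u ∈ N(E ⊔ zpowers z) := by
    refine norms_sup (A := zpowers u) (norms_of_cents (zpowers_le.2 (hBE hu)))
      (zpowers_le.2 (mem_norm_of_cj_le ?_)) (mem_zpowers u)
    rw [cj_zpowers, hj, zpowers_inv]
  have l1 := commg_le_left (hK.hn hF hH.le)
  obtain ⟨a1, ha1, a2, ha2, e1, e2, na⟩ := hG.qp hK gF hm hF inf_le_left (hK.hn hF hH.le)
    fun e => hzH (cents_symm e hzF)
  have hc2 := hK.hyp_cents hF hH (conj_mem_of_norm uF (hH.le hh)) hm'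
    (X := cj u (K ⊓ C(H))) (cj_le_of_mem_norm uK inf_le_left)
    (by rw [← cj_cent, conj_mem_cj]; exact cents_symm inf_le_right hh)
  have c : ∀ a ∈ ⁅K ⊓ C(H), E ⊔ zpowers z⁆, ∀ b ∈ ⁅K ⊓ C(H), E ⊔ zpowers z⁆,
      Commute a (u * b * u⁻¹) := fun a ha b hb =>
    (mem_cent.1 (hc2 ha) _ (conj_mem_cj.2 (l1 hb))).symm
  have sq : ∀ b, b * b = s → u * b * u⁻¹ * (u * b * u⁻¹) = s := fun b hb => by
    rw [conj_mul, hb, mem_cent1.1 us, mul_inv_cancel_right]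
  have h3 := hK.el3 (l1 ha1).1 (l1 ha2).1 (conj_mem_of_norm uK (l1 ha1).1)
    (conj_mem_of_norm uK (l1 ha2).1) e1 e2 (sq _ e1) (sq _ e2) na
    (fun e => na (by rw [conj_mul, conj_mul] at e; simpa using e))
    (c _ ha1 _ ha1) (c _ ha1 _ ha2) (c _ ha2 _ ha1) (c _ ha2 _ ha2)
  have uo : u ∉ K := fun e => by
    have : z * z ∈ K := by
      have := mul_mem (conj_mem_of_norm (hK.norm hzS) e) (inv_mem e)
      rwa [mul_assoc, mul_assoc, ← mul_assoc u, show u * z⁻¹ * u⁻¹ = z by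
        rw [← conj_inv, hj, inv_inv]] at this
    have h1 := PiN.e_eq_one ((hP.of_le (zpowers_le.2 (mul_mem hz.1 hz.1))).elt (mem_zpowers _))
      ((hK.pg.sing_ne h2.symm).elt this)
    exact h2 ((Nat.prime_dvd_prime_iff_eq hD.prime Nat.prime_two).1
      (zo ▸ orderOf_dvd_of_pow_eq_one (by rw [pow_two, h1])))
  have cu : ∀ b ∈ ⁅K ⊓ C(H), E ⊔ zpowers z⁆, b * (u * b * u⁻¹) ∈ C[u] := fun b hb =>
    mem_cent1.2 (by
      conv_rhs => rw [(c b hb b hb).eq]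
      simp only [ui, ← mul_assoc, u2, one_mul]
      rw [mul_assoc (b * u * b), u2, mul_one])
  have h4 := h3.sup (el1_zpowers' Nat.prime_two (mem_top u) (by rw [pow_two, u2])
    fun e => uo (e ▸ one_mem _)) (by
      rw [cent_zpowers]
      exact sup_le (sup_le (zpowers_le.2 (mem_cent1_symm.1 us)) (zpowers_le.2 (cu _ ha1)))
        (zpowers_le.2 (cu _ ha2))) fun e => uo (sup_le (sup_le (zpowers_le.2
          (e1 ▸ mul_mem (l1 ha1).1 (l1 ha1).1))
          (zpowers_le.2 (mul_mem (l1 ha1).1 (conj_mem_of_norm uK (l1 ha1).1))))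
          (zpowers_le.2 (mul_mem (l1 ha2).1 (conj_mem_of_norm uK (l1 ha2).1))) (e (mem_zpowers u)))
  obtain ⟨W, hW⟩ := exists_el_inf hF hH (hE.of_le le_sup_left)
  have uW : u ∈ C(W) := cent_mono (hW.le.trans inf_le_right) (hBE hu)
  have m1 : ∀ b ∈ ⁅K ⊓ C(H), E ⊔ zpowers z⁆, b * (u * b * u⁻¹) ∈ C(W) := fun b hb => by
    have := cent_mono (hW.le.trans inf_le_left) (l1 hb).2
    exact mul_mem this (mul_mem (mul_mem uW this) (inv_mem uW))
  exact hm (hG.lemA' (m := d + 1) (n := 3)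
    ((gF.mono (hW.le.trans (inf_le_left.trans hH.le))).hg hW.ne_bot) hW.top (h4.of_le (sup_le (sup_le (sup_le
    (zpowers_le.2 (cent_mono (hW.le.trans inf_le_right) (hBE hs)))
    (zpowers_le.2 (m1 _ ha1))) (zpowers_le.2 (m1 _ ha2))) (zpowers_le.2 uW))))

theorem ng3 (h : Hy p G) : ¬ Good 3 3 G := fun h0 => by
  have all : ∀ d, Good 3 (d + 3) G := fun d => by
    induction d with
    | zero => exact h0
    | succ d ih =>
      by_contra hm
      obtain ⟨E, A, hg, hE, hA⟩ := h.step4 (d := d) hm ih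
      exact h.step5 hm (hg.hg hE.ne_bot) hE hA
  obtain ⟨t, D, -, hD⟩ := all (Nat.card G)
  have := hD.top.lt_card
  rw [card_top] at this
  omega

end Hy

end H5.KT
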