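import Cfsg.Agent.H5.KT3

/-! Simple groups of order `p * 3 ^ a * 2 ^ b`: reduction to the thin case. -/

set_option autoImplicit false
set_option linter.unusedSectionVars false

namespace H5.KT
open Cfsg Subgroup H19 H22.KM
open scoped commutatorElement

variable {G : Type*} [Group G] [Finite G] {p n m d : ℕ}
  {A B D E F H K M P Q R S T U V W X Y : Subgroup G} {a b c g r s t u x y z : G}

/-- an involution centralizes a good `3 ^ 2` -/
def GB (G : Type*) [Group G] : Prop :=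
  ∃ (t : G) (D : Subgroup G), orderOf t = 2 ∧ El 3 2 D C[t] ∧ AG D

structure Thin (G : Type*) [Group G] : Prop where
  t2 : ∀ (y : G) (A : Subgroup G), orderOf y = 3 → ¬ El 2 2 A C[y]
  t3 : ∀ D W : Subgroup G, El 3 2 D N(W) → PG 2 W → W = ⊥

theorem fix_inv (hW : PG 2 W) (h1 : W ≠ ⊥) (hn : D ≤ N(W)) (h4 : ∀ A, ¬ El 2 2 A W) :
    ∃ t ∈ W, orderOf t = 2 ∧ D ≤ C[t] := by
  have l := (Ohm1_le 2 Z(W)).trans inf_le_left
  obtain ⟨k, hk⟩ := abelem_el Nat.prime_two (abelem_Ohm1_center 2 W) l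
  match k, hk with
  | 0, hk => exact absurd (eq_bot_of_card_eq _ (by simpa using hk.card)) (hW.Ohm1_center_ne_bot h1)
  | 1, hk =>
    have c := cent_of_two hk (hn.trans (norm_le_norm_Ohm1_center 2 W))
    obtain ⟨t, -, ht, e⟩ := hk.exists_gen
    exact ⟨t, l (e ▸ mem_zpowers t), ht, le_cent1_iff.2 (c (e ▸ mem_zpowers t))⟩
  | k + 2, hk =>
    obtain ⟨B, hB⟩ := hk.exists_sub (show 2 ≤ k + 2 by omega)
    exact absurd (hB.mono l) (h4 B)

theorem comm_cent (hU : El p 2 U M) (hR : PG p R) (hn : R ≤ N(U)) : ⁅U, R⁆ ≤ C(R) := by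
  have l := hU.pg.commg_lt hR hn hU.ne_bot
  by_cases e : ⁅U, R⁆ = ⊥
  · exact e ▸ bot_le
  have k := hU.el1_of_lt l e
  exact le_of_prime_of_inf_ne_bot k.prime_card (k.pg.meet_cent hR (commg_normr U R) e)

theorem tri_comm (hY : PG 2 Y) (h3 : cj r (cj r (cj r Y)) = Y) (h1 : cj r Y ⊓ C(Y) ≠ ⊥)
    (hS : S ≤ N(Y)) (hr : r ∈ N(S)) : ∃ W, PG 2 W ∧ W ≠ ⊥ ∧ S ≤ N(W) ∧ r ∈ N(W) := by
  have n : ∀ X : Subgroup G, S ≤ N(X) → S ≤ N(cj r X) := fun X hX => by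
    rw [← cj_norm, ← cj_of_mem_norm hr]; exact cj_mono r hX
  have d1 : cj r Y ⊓ C(Y) ≤ cj r Y := inf_le_left
  have d2 : cj r Y ⊓ C(Y) ≤ C(Y) := inf_le_right
  have d3 : cj r (cj r (cj r (cj r Y ⊓ C(Y)))) = cj r Y ⊓ C(Y) := by
    simp only [cj_inf, cj_cent, h3]
  have d4 := norms_inf (n Y hS) (norms_cent hS)
  generalize cj r Y ⊓ C(Y) = D at d1 d2 d3 d4 h1
  have p1 := (hY.J r).of_le d1
  have c1 : cj r D ≤ C(D) := (cj_mono r d2).trans (cj_cent r Y ▸ cent_mono d1)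
  have c2 : cj r (cj r D) ≤ C(cj r D) := cj_cent r D ▸ cj_mono r c1
  have c3 : cj r (cj r D) ≤ C(D) := cents_symm (by
    have := cj_mono r c2
    rwa [d3, cj_cent] at this)
  refine ⟨D ⊔ cj r D ⊔ cj r (cj r D), (p1.sup (p1.J r) (norms_of_cents c1)).sup ((p1.J r).J r)
    (norms_of_cents (cents_sup c3 c2)), ne_bot_mono (le_sup_left.trans le_sup_left) h1,
    norms_sup (norms_sup d4 (n _ d4)) (n _ (n _ d4)), mem_norm_iff_cj.2 ?_⟩
  rw [cj_sup, cj_sup, d3, sup_comm, sup_assoc]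

theorem idx3 (hU : El 3 2 U M) (hR : PG 3 R) (hn : R ≤ N(U)) : #R ≤ #(C(U) ⊓ R) * 3 := by
  have k1 := H18.index_cent_abelem2_dvd hU hn
  obtain ⟨j, hj⟩ := (hR.relIndex C(U)).exists_pow (relIndex_ne_zero' _ _)
  rw [← card_inf_mul_relIndex C(U) R, hj]
  rw [hj] at k1
  have k4 : j ≤ 1 := le_of_not_gt fun e => absurd ((pow_dvd_pow 3 e).trans k1) (by decide)
  exact Nat.mul_le_mul_left _ (Nat.pow_le_pow_right (by decide) k4)

namespace Hy
variable (h : Hy p G) (hn : ¬ GB G)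
include h hn

theorem n1 (ht : orderOf t = 2) (hD : El 3 2 D C[t]) : ¬ HG D := fun g =>
  hn ⟨t, D, ht, hD, h.all_gd ht hD g⟩

theorem nn2 (hy : orderOf y = 3) (g : Gd y) : ¬ El 2 2 A C[y] := fun hA => by
  have k : HG (zpowers y) := ⟨y, mem_zpowers y, ne13 hy, g⟩
  obtain ⟨t, E, e1, e2, e3⟩ := h.lemA (n := 1) k (el13 hy) (by rwa [cent_zpowers])
  exact h.n1 hn e1 e2 (k.mono e3)

theorem nn1 (hD : El 3 2 D M) (hy : y ∈ D) (y1 : y ≠ 1) (g : Gd y) (hW : PG 2 W) (n : D ≤ N(W)) :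
    W ⊓ C[y] = ⊥ := by
  by_contra e
  obtain ⟨t, -, ht, c⟩ := fix_inv (hW.infl _) e (norms_inf n (cent_zpowers y ▸
    norms_cent (norms_of_comm hD.comm le_rfl (zpowers_le.2 hy)))) fun A hA =>
      h.nn2 hn (ord3 hD hy y1) g (hA.mono inf_le_right)
  exact h.n1 hn ht (hD.of_le c) ⟨y, hy, y1, g⟩

theorem nn3 (hD : El 3 2 D N(W)) (g : AG D) (hW : PG 2 W) : W = ⊥ := by
  by_contra e
  obtain ⟨X, hX, c⟩ := hD.exists_cent_ne_bot hD.le (pg32 hW) e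
  obtain ⟨y, y1, -, rfl⟩ := hX.exists_gen
  have hy := hX.le (mem_zpowers y)
  exact c (cent_zpowers y ▸ h.nn1 hn hD hy y1 (g y hy y1) hW hD.le)

theorem badD (hy : orderOf y = 3) (b : ¬ Gd y) (hR : Syl 3 R ⊤) (yR : y ∈ R)
    (hS : Syl 3 (R ⊓ C[y]) C[y]) (hr : r ∈ R) (rS : r ∈ N(R ⊓ C[y])) (ry : r ∉ C[y]) :
    ∃ W, PG 2 W ∧ W ≠ ⊥ ∧ R ⊓ C[y] ≤ N(W) ∧ r ∈ N(W) := by
  obtain ⟨Z0, hZ⟩ := (hR.pi.infl C(R)).exists_el1
    (hR.pi.center_ne_bot (ne_bot_of_mem yR (ne13 hy)))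
  obtain ⟨z, z1, hz, rfl⟩ := hZ.exists_gen
  obtain ⟨zR, zc⟩ := hZ.le (mem_zpowers z)
  have gz := h.gdZ hR hz (le_cent1_iff.2 zc)
  have zy : z ∈ C[y] := cent_le_cent1 yR zc
  have hE : El 3 2 (zpowers y ⊔ zpowers z) ⊤ := (el13 hy).sup2 (el13 hz)
    (cents_symm (by rwa [cent_zpowers, zpowers_le])) fun e =>
      b (gz.ag hz y (e ▸ mem_zpowers y) (ne13 hy))
  have yE : y ∈ zpowers y ⊔ zpowers z := mem_sup_left (mem_zpowers y)
  have zE : z ∈ zpowers y ⊔ zpowers z := mem_sup_right (mem_zpowers z)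
  have ES : zpowers y ⊔ zpowers z ≤ R ⊓ C[y] :=
    sup_le (zpowers_le.2 ⟨yR, mem_cent1_self y⟩) (zpowers_le.2 ⟨zR, zy⟩)
  have SE : R ⊓ C[y] ≤ C(zpowers y ⊔ zpowers z) := cents_sup (cent_zpowers y ▸ inf_le_right)
    (inf_le_left.trans (cents_symm (zpowers_le.2 zc)))
  generalize zpowers y ⊔ zpowers z = E at hE yE zE ES SE
  have rE : r ∈ N(E) := mem_norm_of_cj_le fun x hx => by
    have x1 := cj_le_of_mem_norm rS ES hx
    have x2 := (hE.J r).ab.2 x hx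
    by_contra x3
    exact b (h.gdC hy ((hE.of_le (ES.trans inf_le_right)).sup (el1_zpowers' Nat.prime_three x1.2 x2
      fun e => x3 (e ▸ one_mem _)) (cents_symm (zpowers_le.2 (SE x1)))
        fun e => x3 (e (mem_zpowers x))))
  obtain ⟨c, hc, e1⟩ : ∃ c ∈ zpowers z, r * y * r⁻¹ = c * y := by
    have k1 := comm_cent hE (hR.pi.of_le (zpowers_le.2 hr)) (zpowers_le.2 rE)
    have k2 : E ⊓ C(zpowers r) = zpowers z := by
      have l : zpowers z ≤ E ⊓ C(zpowers r) := zpowers_le.2 ⟨zE, cent_mono (zpowers_le.2 hr) zc⟩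
      refine ((el13 hz).eq_of_le (hE.el1_of_lt (lt_of_le_of_ne inf_le_left fun e => ry ?_)
        (ne_bot_mono l (el13 hz).ne_bot)) l).symm
      exact le_cent1_iff.2 (e.ge yE).2 (mem_zpowers r)
    refine ⟨⁅y, r⁆⁻¹, inv_mem (k2 ▸ ⟨commg_le_left (zpowers_le.2 rE) ?_, k1 ?_⟩), ?_⟩
    · exact commutator_mem_commutator yE (mem_zpowers r)
    · exact commutator_mem_commutator yE (mem_zpowers r)
    · simp [commutatorElement_def, mul_assoc]
  have c1 : c ≠ 1 := fun e => ry (mem_cent1.2 (by rwa [e, one_mul, mul_inv_eq_iff_eq_mul] at e1))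
  have c3 : c ^ 3 = 1 := (el13 hz).ab.2 c hc
  have cR := zpowers_le.2 zc hc
  have e2 : ∀ j : ℕ, r * (c ^ j * y) * r⁻¹ = c ^ (j + 1) * y := fun j => by
    rw [← mul_assoc, mem_cent.1 (pow_mem cR j) r hr, mul_assoc, mul_assoc, ← mul_assoc r, e1,
      pow_succ, mul_assoc]
  have e3 : ∀ j : ℕ, cj r (Oc {3}ᶜ C[c ^ j * y]) = Oc {3}ᶜ C[c ^ (j + 1) * y] := fun j => by
    rw [cj_Oc, cj_cent1, e2]
  have e4 : ∀ j : ℕ, Syl 3 (R ⊓ C[y]) C[c ^ j * y] := fun j => by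
    induction j with
    | zero => simpa using hS
    | succ j ih => simpa only [cj_of_mem_norm rS, cj_cent1, e2] using ih.J r
  have e5 : ∀ j : ℕ, orderOf (c ^ j * y) = 3 := fun j => by
    induction j with
    | zero => simpa using hy
    | succ j ih => rw [← e2, orderOf_conj', ih]
  have e0 : Oc {3}ᶜ C[y] = Oc {3}ᶜ C[c ^ 0 * y] := by simp
  have e6 : Oc {3}ᶜ C[c ^ 3 * y] = Oc {3}ᶜ C[y] := by simp [c3]
  have pY := h.o3 hy
  have nY : C[y] ≤ N(Oc {3}ᶜ C[y]) := Oc_norm _ _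
  have yY : zpowers y ≤ C(Oc {3}ᶜ C[y]) := cents_symm (cent_zpowers y ▸ Oc_le _ _)
  have f := h.faith pY b (pg23 (el13 hy).pg) (norms_of_cents yY)
  have pQ := Oc_pi {2} N(Oc {3}ᶜ C[y])
  have nQ := nY.trans (Oc_norm {2} _)
  have w1 : ⁅Oc {2} N(Oc {3}ᶜ C[y]), zpowers y⁆ ≤ C(Oc {3}ᶜ C[y]) :=
    (commutator_mono (Oc_le _ _) yY).trans (commg_le_right (norm_le_norm_cent _))
  generalize Oc {2} N(Oc {3}ᶜ C[y]) = Q at f pQ nQ w1
  have yQ : zpowers y ≤ N(Q) := zpowers_le.2 (nQ (mem_cent1_self y))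
  have w2 : ¬ ⁅Q, zpowers y⁆ ≤ C(zpowers y) := fun e => (el13 hy).ne_bot
    (by rw [← f, inf_eq_left.2 (cents_of_commg_le_cent yQ (cop23 pQ (el13 hy).pg) e)])
  have w3 : C[y] ≤ N(⁅Q, zpowers y⁆) := norms_comm nQ (cent1_le_norm_zpowers y)
  have w4 := pQ.of_le (commg_le_left yQ)
  generalize ⁅Q, zpowers y⁆ = W at w1 w2 w3 w4
  have EW := ES.trans (inf_le_right.trans w3)
  obtain ⟨X, hX, w5⟩ : ∃ X, El 3 1 X E ∧ ¬ W ⊓ C(X) ≤ C(zpowers y) := by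
    by_contra! e
    exact w2 (hE.le_of_cent_le EW (pg32 w4) e)
  have zX : X ≠ zpowers z := fun e => w5 (by
    rw [e, cent_zpowers, h.nn1 hn hE zE z1 gz w4 EW]; exact bot_le)
  obtain ⟨j, j3, rfl⟩ : ∃ j < 3, X = zpowers (c ^ j * y) := by
    classical
    have k := hE.sup_eq ((el13 hz).of_le (zpowers_le.2 zE)) hX zX.symm
    obtain ⟨w, hw, x, hx, e⟩ := (mem_sup_of_norm (norms_of_comm hE.comm hX.le
      (zpowers_le.2 zE))).1 (k.ge yE)
    rw [← eq_zpowers_of_prime (el13 hz).prime_card hc c1] at hw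
    obtain ⟨j, hj, e'⟩ := Finset.mem_image.1 (mem_zpowers_iff_mem_range_orderOf.1 (inv_mem hw))
    rw [orderOf_of_pow Nat.prime_three c3 c1, Finset.mem_range] at hj
    have e2 : c ^ j * y = x := by rw [e', e, inv_mul_cancel_left]
    exact ⟨j, hj, (eq_zpowers_of_prime hX.prime_card (e2 ▸ hx) (ne13 (e5 j))).symm⟩
  have w6 : Oc {3}ᶜ C[c ^ j * y] ⊓ C(Oc {3}ᶜ C[y]) ≠ ⊥ := fun e => w5 (by
    rw [cent_zpowers]
    refine (le_inf (H1.le_Oc'_of_syl Nat.prime_three (h.sol3 (e5 j)) (e4 j) (pg32 (w4.infl _))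
      inf_le_right (norms_inf (inf_le_right.trans w3) (norms_of_le (e4 j).le)))
      (inf_le_left.trans w1)).trans (e.le.trans bot_le))
  have k3 : cj r (cj r (cj r (Oc {3}ᶜ C[y]))) = Oc {3}ᶜ C[y] := by rw [e0, e3, e3, e3, e6, e0]
  have nS := (inf_le_right (a := R)).trans nY
  interval_cases j
  · exact absurd (by simpa using inf_le_right) w5
  · exact tri_comm pY k3 (by rwa [e0, e3, ← e0]) nS rS
  · obtain ⟨W, k⟩ := tri_comm (r := r⁻¹) pY (by conv_lhs => rw [← k3]; simp only [cj_inv_cj])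
      (by rwa [← e6, ← e3, cj_inv_cj, e3, e6]) nS (inv_mem rS)
    exact ⟨W, k.1, k.2.1, k.2.2.1, inv_mem_iff.1 k.2.2.2⟩

theorem agU (hR : Syl 3 R ⊤) (hU : El 3 2 U R) (n : R ≤ N(U)) : AG U := fun y hy y1 => by
  by_contra b
  have ho := ord3 hU hy y1
  have k1 := (idx3 hU hR.pi n).trans (Nat.mul_le_mul_right 3 (card_le
    (show C(U) ⊓ R ≤ R ⊓ C[y] from le_inf inf_le_right (inf_le_left.trans (cent_le_cent1 hy)))))
  have k2 : R ⊓ C[y] < R := lt_of_le_of_ne inf_le_left fun e =>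
    b (h.gdZ hR ho (e.ge.trans inf_le_right))
  obtain ⟨S, hS, l⟩ := (hR.pi.infl C[y]).exists_syl inf_le_right
  obtain rfl : R ⊓ C[y] = S := eq_of_le_of_not_lt l fun e =>
    b (h.gdZ (hR.of_card_le le_top hS.pi (k1.trans (hS.pi.card_mul_le e))) ho hS.le)
  obtain ⟨r, hr, rS⟩ := SetLike.exists_of_lt (hR.pi.lt_norm k2)
  obtain ⟨W, w1, w2, w3, w4⟩ := h.badD hn ho b hR (hU.le hy) hS hr.1 hr.2 fun e => rS ⟨hr.1, e⟩
  have l1 : R ⊓ C[y] ⊔ zpowers r ≤ R := sup_le inf_le_left (zpowers_le.2 hr.1)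
  have l2 := (hR.pi.of_le l1).card_mul_le (lt_of_le_not_ge le_sup_left
    fun e => rS (e (mem_sup_right (mem_zpowers r))))
  exact w2 (h.syl3 hR w1 (eq_of_le_of_card_ge l1 (k1.trans l2) ▸ sup_le w3 (zpowers_le.2 w4)))

theorem allgd (hy : orderOf y = 3) : Gd y := by
  by_contra b
  obtain ⟨S, hS, l⟩ := (el13 hy).pg.exists_syl (zpowers_le.2 (mem_cent1_self y))
  obtain ⟨R, hR, l2⟩ := hS.pi.exists_syl le_top
  obtain rfl := hS.max (le_inf l2 hS.le) inf_le_right (hR.pi.infl _)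
  have yR := l2 (l (mem_zpowers y))
  obtain ⟨U, hU, n⟩ := hR.pi.exists_normal_el2 (odd3 hR.pi) (NormalIn.refl R) fun e =>
    b (h.gdZ hR hy (le_cent1_iff.2 (comm_iff_le_cent.1 (comm_of_cyclic e) yR)))
  have g := h.agU hn hR hU n
  obtain ⟨r, hr, ry⟩ := SetLike.not_le_iff_exists.1 fun e => b (h.chain hy (hU.of_le e) g)
  have k := comm_cent hU hR.pi n
  obtain ⟨W, w1, w2, w3, w4⟩ := h.badD hn hy b hR yR hS (hU.le hr) (norms_of_commg_le'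
    ((commutator_mono le_rfl l2).trans (le_inf ((commg_le_left n).trans hU.le)
      (k.trans (cent_le_cent1 yR)))) hr) ry
  obtain ⟨X, hX⟩ := (hU.pg.infl _).exists_el1 (hU.pg.meet_cent hR.pi n hU.ne_bot)
  have XS : X ≤ R ⊓ C[y] := le_inf (hX.le.trans (inf_le_left.trans hU.le))
    (hX.le.trans (inf_le_right.trans (cent_le_cent1 yR)))
  have r1 : r ≠ 1 := fun e => ry (e ▸ one_mem _)
  refine w2 (h.nn3 hn (hU.of_le ?_) g w1)
  rw [← hU.sup_eq (hX.mono inf_le_left) (el1_zpowers Nat.prime_three hr (ord3 hU hr r1))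
    fun e => ry (XS (e ▸ mem_zpowers r)).2]
  exact sup_le (XS.trans w3) (zpowers_le.2 w4)

theorem thin : Thin G :=
  ⟨fun _ _ hy => h.nn2 hn hy (h.allgd hn hy), fun _ _ hD hW =>
    h.nn3 hn hD (fun _ hy y1 => h.allgd hn (ord3 hD hy y1)) hW⟩

end Hy

end H5.KT
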