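import Cfsg.Agent.H5.KT4
import Cfsg.Agent.H21.SylowPrime

/-! Simple groups of order `p * 3 ^ a * 2 ^ b`: tools for the thin case. -/

set_option autoImplicit false
set_option linter.unusedSectionVars false

namespace H5.KT
open Cfsg Subgroup H19 H22.KM MulAction
open scoped commutatorElement

variable {G : Type*} [Group G] [Finite G] {p n m d : ℕ}
  {A B D E F H K M P Q R S T U V W X Y : Subgroup G} {a b c g r s t u x y z : G}

theorem four (ha : orderOf a = 2) (hb : orderOf b = 2) (c : a ∈ C[b]) (ne : a ≠ b) :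
    El 2 2 (zpowers a ⊔ zpowers b) ⊤ :=
  (el12 ha).sup2 (el12 hb) (by rwa [cent_zpowers, zpowers_le]) fun e =>
    ((mem_zp hb).1 (e ▸ mem_zpowers a)).elim (ne1 ha) ne

theorem inv_of_fpf (hu : u * u = 1) (hA : Ab A) (hn : u ∈ N(A)) (h : A ⊓ C[u] = ⊥) (ha : a ∈ A) :
    u * a * u⁻¹ = a⁻¹ := by
  have k := conj_mem_of_norm hn ha
  refine eq_inv_of_mul_eq_one_right (mem_bot.1 (h ▸ ⟨mul_mem ha k, mem_cent1.2 ?_⟩))
  have e : u⁻¹ = u := inv_eq_of_mul_eq_one_right hu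
  conv_rhs => rw [mul_comm_of_comm hA ha k]
  simp only [e, ← mul_assoc, hu, one_mul]
  rw [mul_assoc _ u u, hu, mul_one]

theorem lines (hE : El 3 2 E M) (hr : PiE {3} r) (rE : r ∈ N(E)) (hX : El 3 1 X E)
    (hY : El 3 1 Y E) (nX : ¬ X ≤ C[r]) (nY : ¬ Y ≤ C[r]) : ∃ j : ℕ, Y = cj (r ^ j) X := by
  classical
  obtain ⟨y, -, hy, rfl⟩ := hX.exists_gen
  have yE := hX.le (mem_zpowers y)
  obtain ⟨c, hc, cr, e1⟩ : ∃ c ∈ E, c ∈ C[r] ∧ r * y * r⁻¹ = c * y := by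
    have k := commutator_mem_commutator yE (mem_zpowers r)
    refine ⟨⁅y, r⁆⁻¹, inv_mem (commg_le_left (zpowers_le.2 rE) k), inv_mem (cent_zpowers r ▸
      comm_cent hE (piG_zpowers.2 hr) (zpowers_le.2 rE) k), ?_⟩
    simp [commutatorElement_def, mul_assoc]
  have c1 : c ≠ 1 := fun e => nX (zpowers_le.2 (mem_cent1.2
    (by rw [e, one_mul, mul_inv_eq_iff_eq_mul] at e1; exact e1.symm)))
  have c3 := ord3 hE hc c1
  have e2 : ∀ j : ℕ, r ^ j * y * (r ^ j)⁻¹ = c ^ j * y := fun j => by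
    induction j with
    | zero => simp
    | succ j ih =>
      rw [pow_succ', mul_inv_rev, mul_assoc r, mul_assoc r, ← mul_assoc (r ^ j * y), ih,
        mul_assoc, ← mul_assoc r, ← mem_cent1.1 (pow_mem cr j), mul_assoc, ← mul_assoc r, e1,
        pow_succ, mul_assoc]
  have k := hE.sup_eq ((el13 c3).of_le (zpowers_le.2 hc)) hY fun e => nY (e ▸ zpowers_le.2 cr)
  obtain ⟨w, hw, x, hx, e⟩ := (mem_sup_of_norm (norms_of_comm hE.comm hY.le
    (zpowers_le.2 hc))).1 (k.ge yE)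
  obtain ⟨j, -, e'⟩ := Finset.mem_image.1 (mem_zpowers_iff_mem_range_orderOf.1 (inv_mem hw))
  have e3 : c ^ j * y = x := by rw [e', e, inv_mul_cancel_left]
  refine ⟨j, ?_⟩
  rw [cj_zpowers, e2, e3]
  exact (eq_zpowers_of_prime hY.prime_card hx (ne13 (by rw [← e3, ← e2, orderOf_conj', hy]))).symm

theorem cube (hV : El 2 2 V M) (hK : PG 3 K) (hn : V ≤ N(K)) (h0 : K ⊓ C(V) = ⊥)
    (h : ∀ b ∈ V, b ≠ 1 → #(K ⊓ C[b]) = m) : #K = m ^ 3 := by
  classical
  have := Fintype.ofFinite V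
  have k := H1.fix_formula Nat.prime_two hV.ab hn (pg23 hK)
  have e : ∏ b : V with b ≠ 1, #(K ⊓ C[(b : G)]) = ∏ b : V with b ≠ 1, m :=
    Finset.prod_congr rfl fun b hb => h b b.2 fun e => (Finset.mem_filter.1 hb).2 (Subtype.ext e)
  rw [e, Finset.prod_const, Finset.filter_ne',
    Finset.card_erase_of_mem (Finset.mem_univ _), Finset.card_univ, ← Nat.card_eq_fintype_card,
    hV.card, h0, card_bot, one_pow, mul_one, show 2 ^ 2 = 2 + 2 from rfl, pow_add] at k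
  exact (Nat.pow_left_injective two_ne_zero (Nat.eq_of_mul_eq_mul_right
    (pow_pos (card_pos K) 2) k)).symm

theorem exK (hE : Abelem 3 E) (hc : E ≤ C(R)) : ∃ K : Subgroup G,
    ∀ g, g ∈ K ↔ g ∈ R ∧ g ^ 3 = 1 ∧ ∀ x ∈ R, g * x * g⁻¹ * x⁻¹ ∈ E := by
  have hn := norms_of_cents (cents_symm hc)
  refine ⟨⟨⟨⟨{g | g ∈ R ∧ g ^ 3 = 1 ∧ ∀ x ∈ R, g * x * g⁻¹ * x⁻¹ ∈ E}, ?_⟩,
    one_mem _, one_pow _, by simp⟩, ?_⟩, fun _ => Iff.rfl⟩
  · rintro a b ⟨a1, a2, a3⟩ ⟨b1, b2, b3⟩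
    refine ⟨mul_mem a1 b1, ?_, fun x hx => ?_⟩
    · have k := b3 a a1
      have e : b * a = b * a * b⁻¹ * a⁻¹ * (a * b) := by group
      have k3 := hE.2 _ k
      have ca := mem_cent.1 (hc k) a a1
      have cb := mem_cent.1 (hc k) b b1
      generalize b * a * b⁻¹ * a⁻¹ = c at e k3 ca cb
      have ca' : ∀ x, a * (c * x) = c * (a * x) := fun x => by rw [← mul_assoc, ca, mul_assoc]
      have cb' : ∀ x, b * (c * x) = c * (b * x) := fun x => by rw [← mul_assoc, cb, mul_assoc]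
      have e' : ∀ x, b * (a * x) = c * (a * (b * x)) := fun x => by
        rw [← mul_assoc, e, mul_assoc, mul_assoc]
      calc (a * b) ^ 3 = c ^ 3 * a ^ 3 * b ^ 3 := by
            simp only [pow_succ, pow_zero, one_mul, mul_assoc, e', ca', cb']
        _ = 1 := by rw [k3, a2, b2, one_mul, one_mul]
    · have := mul_mem (conj_mem_of_norm (hn a1) (b3 x hx)) (a3 x hx)
      convert this using 1
      group
  · rintro a ⟨a1, a2, a3⟩
    refine ⟨inv_mem a1, by rw [inv_pow, a2, inv_one], fun x hx => ?_⟩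
    have := conj_mem_of_norm' (hn a1) (inv_mem (a3 x hx))
    convert this using 1
    group

/-- the number of conjugates of `u` in `T` -/
noncomputable def kk (u : G) (T : Subgroup G) : ℕ := (Cl ⊤ u ∩ T).ncard
/-- the number of cosets of `T` fixed by `u` -/
noncomputable def fx (u : G) (T : Subgroup G) : ℕ := (fixedBy (G ⧸ T) u).ncard

theorem mem_clt : x ∈ Cl ⊤ u ↔ IsConj u x := by simp [Cl]

theorem fx_eq (u : G) (T : Subgroup G) : fx u T * #T = #C[u] * kk u T := by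
  have k1 := H21.card_fixedBy_mul_card_conj T u
  have k2 := H21.card_conj_mul_card_centralizer u
  have k3 := T.card_mul_index
  have e : Nat.card {g : G // IsConj u g ∧ g ∈ T} = kk u T := by
    rw [kk, ← Nat.card_coe_set_eq]
    exact Nat.card_congr (Equiv.subtypeEquivRight fun g => by simp [Cl])
  rw [Nat.card_coe_set_eq, e] at k1
  refine Nat.eq_of_mul_eq_mul_right (Nat.pos_of_ne_zero (index_ne_zero_of_finite (H := T))) ?_
  rw [mul_assoc, k3, ← k2, ← mul_assoc, fx, k1]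
  ring

theorem clt_eq (h : x ∈ Cl ⊤ u) : Cl ⊤ x = Cl ⊤ u :=
  Set.ext fun _ => by
    simp only [mem_clt] at h ⊢
    exact ⟨h.trans, h.symm.trans⟩

theorem fx_cj (h : x ∈ Cl ⊤ u) : fx x T = fx u T := by
  refine Nat.eq_of_mul_eq_mul_right (card_pos T) ?_
  rw [fx_eq, fx_eq, kk, kk, clt_eq h]
  obtain ⟨g, -, rfl⟩ := h
  rw [← cj_cent1, card_cj]

theorem cnt (hR : PG 3 R) (hn : u ∈ N(R)) (hT : PG 2 T) : (Cl R u).ncard * fx u T ≤ T.index := by
  classical
  have := Fintype.ofFinite G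
  have := Fintype.ofFinite (G ⧸ T)
  have k := Finset.card_biUnion (s := (Cl R u).toFinset) (t := fun d => (fixedBy (G ⧸ T) d).toFinset)
    fun d hd e he ne => Finset.disjoint_left.2 fun q q1 q2 => ne (by
      obtain ⟨a, ha, rfl⟩ := Set.mem_toFinset.1 hd
      obtain ⟨b, hb, rfl⟩ := Set.mem_toFinset.1 he
      obtain ⟨g, rfl⟩ := QuotientGroup.mk_surjective q
      simp only [Set.mem_toFinset, mem_fixedBy, Quotient.smul_coe, smul_eq_mul,
        QuotientGroup.eq] at q1 q2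
      have k1 : (a * u * a⁻¹)⁻¹ * (b * u * b⁻¹) ∈ cj g T := by
        rw [mem_cj]
        convert mul_mem q1 (inv_mem q2) using 1
        group
      have k2 : (a * u * a⁻¹)⁻¹ * (b * u * b⁻¹) ∈ R := by
        convert mul_mem (mul_mem ha (conj_mem_of_norm' hn (mul_mem (inv_mem ha) hb))) (inv_mem hb)
          using 1
        group
      exact inv_mul_eq_one.1 (PiN.e_eq_one ((hT.J g).elt k1) ((pg23 hR).elt k2)))
  rw [Finset.sum_congr rfl (g := fun _ => fx u T) fun d hd => by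
    obtain ⟨a, -, e⟩ := Set.mem_toFinset.1 hd
    exact (Set.ncard_eq_toFinset_card' _).symm.trans (fx_cj ⟨a, mem_top a, e⟩),
    Finset.sum_const, smul_eq_mul,
    ← Set.ncard_eq_toFinset_card'] at k
  rw [← k, index_eq_card, Nat.card_eq_fintype_card]
  exact Finset.card_le_univ _

theorem burn4 (hV : El 2 2 V M) (h : ∀ v ∈ V, v ≠ 1 → v ∈ Cl ⊤ u) : 4 ∣ T.index + 3 * fx u T := by
  classical
  have := Fintype.ofFinite V
  have := Fintype.ofFinite (G ⧸ T)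
  have := Fintype.ofFinite (Quotient (orbitRel V (G ⧸ T)))
  have k := sum_card_fixedBy_eq_card_orbits_mul_card_group V (G ⧸ T)
  rw [← Finset.add_sum_erase _ _ (Finset.mem_univ 1), Finset.sum_congr rfl (g := fun _ => fx u T)
    fun v hv => by
      rw [← fx_cj (h v v.2 fun e => (Finset.mem_erase.1 hv).1 (Subtype.ext e)), fx,
        ← Nat.card_coe_set_eq, Nat.card_eq_fintype_card]
      rfl,
    Finset.sum_const, Finset.card_erase_of_mem (Finset.mem_univ _), Finset.card_univ,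
    ← Nat.card_eq_fintype_card (α := V), hV.card] at k
  refine ⟨Fintype.card (Quotient (orbitRel V (G ⧸ T))), ?_⟩
  rw [mul_comm 4, show 4 = 2 ^ 2 from rfl, ← k, index_eq_card, Nat.card_eq_fintype_card]
  simp

namespace Thin
variable (th : Thin G)
include th

theorem cyc (hP : PG 3 P) (hW : PG 2 W) (h1 : W ≠ ⊥) (hn : P ≤ N(W)) : Cyc P := by_contra fun e =>
  let ⟨D, hD⟩ := hP.exists_el2 (odd3 hP) e
  h1 (th.t3 D W (hD.mono hn) hW)

theorem cyc1 (hP : PG 3 P) (ht : orderOf t = 2) (hn : P ≤ C[t]) : Cyc P :=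
  th.cyc hP (el12 ht).pg (el12 ht).ne_bot (norm_zp ht ▸ hn)

theorem eq_c (ha : orderOf a = 2) (hb : orderOf b = 2) (c : a ∈ C[b]) (hy : orderOf y = 3)
    (ay : a ∈ C[y]) (ay' : b ∈ C[y]) : a = b := by_contra fun e =>
  th.t2 y _ hy ((four ha hb c e).of_le (sup_le (zpowers_le.2 ay) (zpowers_le.2 ay')))

theorem inv_eq (hQ : PG 2 Q) (aQ : a ∈ Q) (bQ : b ∈ Q) (ha : orderOf a = 2) (hb : orderOf b = 2)
    (hy : orderOf y = 3) (ay : a ∈ C[y]) (ay' : b ∈ C[y]) : a = b := by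
  obtain ⟨t, t1, ht, c⟩ := fix_inv (hQ.infl C[y]) (ne_bot_of_mem ⟨aQ, ay⟩ (ne1 ha)) le_normalizer
    fun A hA => th.t2 y A hy (hA.mono inf_le_right)
  exact (th.eq_c ha ht (c ⟨aQ, ay⟩) hy ay t1.2).trans (th.eq_c hb ht (c ⟨bQ, ay'⟩) hy ay' t1.2).symm

theorem inv_eq' (hQ : PG 2 Q) (aQ : a ∈ Q) (bQ : b ∈ Q) (ha : orderOf a = 2) (hb : orderOf b = 2)
    (hX : PG 3 X) (ne : a ≠ b) : X ⊓ C[a] ⊓ C[b] = ⊥ := by_contra fun e => by
  obtain ⟨y, hy, ho⟩ := exists_orderOf_eq_prime Nat.prime_three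
    (((hX.infl _).infl _).dvd_of_ne_bot e)
  exact ne (th.inv_eq hQ aQ bQ ha hb ho (mem_cent1_symm.1 hy.1.2) (mem_cent1_symm.1 hy.2))

theorem el1 (hE : Abelem 3 E) (ht : orderOf t = 2) (h1 : E ⊓ C[t] ≠ ⊥) : El 3 1 (E ⊓ C[t]) E := by
  have k := abelem_mono hE (inf_le_left (b := C[t]))
  have p := abelem_pg Nat.prime_three k
  have := cyc_el1_Ohm1 (th.cyc1 p ht inf_le_right) Nat.prime_three (p.dvd_of_ne_bot h1)
  rw [Ohm1_eq_self k.2] at this
  exact this.mono inf_le_left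

theorem le3 (hE : ∀ x ∈ E, x ^ 3 = 1) (ht : orderOf t = 2) : #(E ⊓ C[t]) ≤ 3 := by
  have p := pg_of_pow Nat.prime_three fun x (hx : x ∈ E ⊓ C[t]) => hE x hx.1
  by_cases e : E ⊓ C[t] = ⊥
  · simp [e]
  have := cyc_el1_Ohm1 (th.cyc1 p ht inf_le_right) Nat.prime_three (p.dvd_of_ne_bot e)
  rw [Ohm1_eq_self fun x (hx : x ∈ E ⊓ C[t]) => hE x hx.1] at this
  exact this.card1.le

theorem cent4 (hV : El 2 2 V M) (hK : PG 3 K) : K ⊓ C(V) = ⊥ := by_contra fun e => by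
  obtain ⟨y, hy, ho⟩ := exists_orderOf_eq_prime Nat.prime_three ((hK.infl _).dvd_of_ne_bot e)
  exact th.t2 y V ho (hV.of_le (le_cent1_iff.2 hy.2))

theorem no8 (hA : El 2 3 A M) (hK : PG 3 K) (hn : A ≤ N(K)) : K = ⊥ :=
  le_bot_iff.1 (H18.coprime_abelem_gen_cent hA hn (cop32 hK hA.pg) fun _ hB => (th.cent4 hB hK).le)

end Thin

end H5.KT
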