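import Cfsg.Agent.H5.KT5

/-! Simple groups of order `p * 3 ^ a * 2 ^ b`: maximal `3`-subgroups normalized by an involution. -/

set_option autoImplicit false
set_option linter.unusedSectionVars false

namespace H5.KT
open Cfsg Subgroup H19 H22.KM
open scoped commutatorElement

variable {G : Type*} [Group G] [Finite G] {p n m d : ℕ}
  {A B D E F H K L M P Q R S T U V W X Y : Subgroup G} {a b c g r s t u x y z : G}

theorem odd_sq (hr : PiE {3} r) (h : r * r ∈ H) : r ∈ H := by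
  have o : Odd (orderOf r) := Nat.card_zpowers r ▸ odd3 (piG_zpowers.2 hr)
  obtain ⟨k, hk⟩ := o
  have : r = (r * r) ^ (k + 1) := by
    rw [← pow_two, ← pow_mul, show 2 * (k + 1) = 2 * k + 1 + 1 by ring, ← hk, pow_succ,
      pow_orderOf_eq_one, one_mul]
  exact this ▸ pow_mem h _

structure St (u : G) (R Q L : Subgroup G) : Prop where
  u2 : orderOf u = 2
  pR : PG 3 R
  pQ : PG 2 Q
  pL : PG 3 L
  uQ : u ∈ Q
  QR : Q ≤ N(R)
  LR : L ≤ N(R)
  LQ : L ≤ N(Q)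
  syl : Syl 3 (R ⊔ L) N(R)
  ne : L ≠ ⊥
  r1 : R ≠ ⊥
  reg : ∀ r ∈ L, r ∈ C[u] → r = 1
  dj : R ⊓ L = ⊥

theorem Hy.ninv (h : Hy p G) (th : Thin G) (hu : orderOf u = 2) (hx : orderOf x = p)
    (hi : u * x * u⁻¹ = x⁻¹) (hR : PG 3 R) (h1 : R ≠ ⊥) (uR : u ∈ N(R)) : x ∉ N(R) := fun xR => by
  have hW := abelem_Ohm1_center 3 R
  have pW := abelem_pg Nat.prime_three hW
  have n := norm_le_norm_Ohm1_center 3 R
  have w1 := ne_bot_iff_one_lt_card.1 (hR.Ohm1_center_ne_bot h1)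
  generalize Ohm1 3 Z(R) = W at hW pW n w1
  have k : ∀ v ∈ N(R), orderOf v = 2 → #(W ⊓ C[v]) * #⁅W, zpowers v⁆ = #W ∧
      ⁅W, zpowers v⁆ ≤ W ∧ ∀ w ∈ ⁅W, zpowers v⁆, v * w * v⁻¹ = w⁻¹ := fun v hv v2 => by
    have l := zpowers_le.2 (n hv)
    have d := ab_cent_dprod hW.1 l (cop32 pW (el12 v2).pg)
    rw [cent_zpowers] at d
    exact ⟨d.card, d.right_le, fun w hw => inv_of_fpf (sq1 v2) (comm_mono hW.1 d.right_le)
      (commg_normr _ _ (mem_zpowers v)) (cent_zpowers v ▸ ab_commg_inf_cent hW.1 l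
        (cop32 pW (el12 v2).pg)) hw⟩
  have v2 : orderOf (x * u * x⁻¹) = 2 := by rw [orderOf_conj', hu]
  obtain ⟨a1, a2, a3⟩ := k u uR hu
  obtain ⟨b1, b2, b3⟩ := k _ (mul_mem (mul_mem xR uR) (inv_mem xR)) v2
  have x2 : orderOf (x ^ 2) = p := by
    rw [← hx]; exact (hx ▸ (Nat.coprime_primes h.pr Nat.prime_two).2 h.n2).orderOf_pow
  have d : ⁅W, zpowers u⁆ ⊓ ⁅W, zpowers (x * u * x⁻¹)⁆ = ⊥ := eq_bot_iff.2 fun w hw => by
    have e : x * u * x⁻¹ = x ^ 2 * u := by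
      rw [mul_assoc, ← hi, ← mul_assoc u, ← mul_assoc u, sq1 hu, one_mul,
        inv_eq_of_mul_eq_one_right (sq1 hu), pow_two, mul_assoc]
    have k1 := b3 w hw.2
    rw [e, mul_inv_rev, mul_assoc (x ^ 2), mul_assoc (x ^ 2), ← mul_assoc (u * w), a3 w hw.1,
      ← mul_assoc, mul_inv_eq_iff_eq_mul] at k1
    have k2 : w⁻¹ ∈ zpowers (x ^ 2) := h.cp _ x2 ▸ mem_cent1.2 k1.symm
    exact (pW.inf_eq_bot ((el1_zpowers h.pr (mem_top _) x2).pg.sing_ne h.n3)).le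
      ⟨a2 hw.1, (Subgroup.inv_mem_iff _).1 k2⟩
  have c1 := card_sup_of_disjoint (norms_of_comm hW.1 b2 a2) d
  have c2 := card_le (sup_le a2 b2)
  have c3 := th.le3 hW.2 hu
  have c4 := th.le3 hW.2 v2
  rw [c1, ← b1] at c2
  have c5 := Nat.le_of_mul_le_mul_right c2 (card_pos _)
  have c6 : #W ≤ 9 := a1 ▸ Nat.mul_le_mul c3 (c5.trans c4)
  have hX := el1_zpowers h.pr (mem_top x) hx
  have c7 := mod_cent h.pr hX.pg (zpowers_le.2 (n xR))
  rw [cent_zpowers, h.cp x hx, pW.inf_eq_bot (hX.pg.sing_ne h.n3), card_bot, Nat.ModEq] at c7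
  have c8 := pW.dvd_of_ne_bot (ne_bot_iff_one_lt_card.2 w1)
  have c9 := Nat.odd_iff.1 (odd3 pW)
  rcases h.pp with rfl | rfl | rfl <;> omega

theorem Hy.exSt (h : Hy p G) (th : Thin G) (hu : orderOf u = 2) (hR : PG 3 R) (h1 : R ≠ ⊥)
    (uR : u ∈ N(R)) (mx : ∀ P, PG 3 P → u ∈ N(P) → R ≤ P → P ≤ R) (ns : ¬ Syl 3 R ⊤) :
    ∃ Q L, St u R Q L := by
  have k1 : qmk R ⟨u, uR⟩ ∈ Oc {2} (quo R N(R)) := by_contra fun e => by
    obtain ⟨x, hx, xp, x2, xi⟩ := inv_odd (by rw [← map_mul, qmk_eq_one]; simp [sq1 hu])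
      (mem_im_of uR) e
    have n : u ∈ N(qpre R (zpowers x)) := norms_qpre (zpowers_le.2 uR) (by
      rw [quo_zpowers uR, zpowers_le, mem_norm_iff_cj, cj_zpowers, xi, zpowers_inv]) (mem_zpowers u)
    have c := card_qpre (K := R) (zpowers x)
    rw [Nat.card_zpowers] at c
    rcases h.prm xp ((Dvd.intro_left _ c.symm).trans (card_subgroup_dvd_card _)) with e | e | e
    · have o : PiG {2}ᶜ (qpre R (zpowers x)) := (pg23 hR).qpre (piG_zpowers.2
        (by rw [PiE, e]; exact (piN_prime h.pr).2 h.n2))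
      obtain ⟨P, hP, nP⟩ := inv_syl_exists p (zpowers_le.2 n) (o.coprime' (el12 hu).pg)
        (.inl (sol_zpowers u))
      obtain ⟨y, hy, ho⟩ := exists_orderOf_eq_prime h.pr (hP.sdvd_card h.pr (by rw [c, e]; simp))
      have hY := el1_zpowers h.pr (mem_top y) ho
      have e1 : P = zpowers y := (syl_mk (zpowers_le.2 (hP.le hy)) hY.pg fun d => by
        have := card_mul_relIndex (zpowers_le.2 (hP.le hy))
        rw [hY.card1, c, e, mul_comm _ p] at this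
        rw [Nat.eq_of_mul_eq_mul_left h.pr.pos this] at d
        exact h.n3 (hR.eq_of_dvd h.pr d)).max (zpowers_le.2 hy) hP.le hP.pi
      refine h.ninv th hu ho (inv_of_fpf (sq1 hu) hY.comm (e1 ▸ nP (mem_zpowers u))
        (inf_eq_bot_of_prime hY.prime_card fun l => ?_) (mem_zpowers y)) hR h1 uR
        (qpre_le_norm _ (hP.le hy))
      exact h.np2 hu (hY.card1 ▸ card_dvd l)
    · have := mx _ (hR.qpre (piG_zpowers.2
        (by rw [PiE, e]; exact (piN_prime Nat.prime_three).2 rfl))) n (le_qpre _)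
      rw [qpre_le_iff le_rfl, quo_self, le_bot_iff, zpowers_eq_bot] at this
      simp [this] at e
    · exact x2 e
  have nL := qpre_normal (normalIn_norm R) (Oc_normal {2} (quo R N(R)))
  obtain ⟨Q, hQ, uQ⟩ := (el12 hu).pg.exists_syl (zpowers_le.2
    (show u ∈ qpre R _ from (coe_mem_pre (x := ⟨u, uR⟩)).2 k1))
  have QR := hQ.le.trans nL.le
  have e1 : R ⊔ Q = qpre R (Oc {2} (quo R N(R))) := by
    rw [← qpre_quo QR, (hQ.quo nL.le).eq_self (by rw [quo_qpre]; exact Oc_pi _ _), quo_qpre]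
  have e2 := hQ.frattini nL
  rw [← e1, sup_assoc, sup_eq_right.2 (le_inf QR le_normalizer)] at e2
  obtain ⟨L, hL⟩ := exists_syl 3 (N(R) ⊓ N(Q))
  have LR := hL.le.trans inf_le_left
  have LQ := hL.le.trans inf_le_right
  have s : Syl 3 (R ⊔ L) N(R) := by
    have := hL.quo (K := R) inf_le_left
    rw [← quo_sup_left inf_le_left, e2] at this
    exact qpre_quo LR ▸ this.qpre (normalIn_norm R) hR
  have k2 : ∀ r ∈ L, r ∈ C[u] → r ∈ R := fun r hr c => mx (R ⊔ zpowers r)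
    (s.pi.of_le (sup_le_sup_left (zpowers_le.2 hr) R)) (norms_sup (A := zpowers u)
      (zpowers_le.2 uR) (norms_of_cents (by rw [cent_zpowers, zpowers_le]; exact mem_cent1_symm.1 c))
        (mem_zpowers u)) le_sup_left (mem_sup_right (mem_zpowers r))
  have k3 : ¬ L ≤ R := fun e => by
    obtain ⟨P, p1, p2, -, p3⟩ := hR.exists_lt_norm le_top ns
    rw [sup_eq_left.2 e] at s
    exact p1.ne' (s.max p1.le p3 p2)
  have uQ := uQ (mem_zpowers u)
  have k4 : R ⊓ L = ⊥ := by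
    obtain ⟨r, hr, rR⟩ := SetLike.not_le_iff_exists.1 k3
    have c : R ⊓ L ≤ C(Q) := cents_symm (commg_eq_bot.1 (H19.eq_bot_mono (le_inf
      (commg_le_left (inf_le_right.trans LQ)) ((commutator_mono le_rfl inf_le_left).trans
        (commg_le_right QR))) (hQ.pi.inf_eq_bot (pg23 hR))))
    have m := conj_mem_of_norm (LQ hr) uQ
    rw [← th.inv_eq' hQ.pi uQ m hu (by rw [orderOf_conj', hu]) (hR.infl L) fun e =>
      rR (k2 r hr (mem_cent1.2 (mul_inv_eq_iff_eq_mul.1 e.symm)))]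
    exact (inf_eq_left.2 (le_inf (le_inf le_rfl (c.trans (cent_le_cent1 uQ)))
      (c.trans (cent_le_cent1 m)))).symm.trans (inf_eq_right.2 (inf_le_left.trans inf_le_left))
  exact ⟨Q, L, hu, hR, hQ.pi, hL.pi, uQ, QR, LR, LQ, s, fun e => k3 (e ▸ bot_le), h1,
    fun r hr c => mem_bot.1 (k4 ▸ ⟨k2 r hr c, hr⟩), k4⟩

namespace St
variable (th : Thin G) (h : St u R Q L)
include th h

theorem cjne (hr : r ∈ L) (r1 : r ≠ 1) : u ≠ r * u * r⁻¹ := fun e =>
  r1 (h.reg r hr (mem_cent1.2 (mul_inv_eq_iff_eq_mul.1 e.symm)))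

theorem nz (hz : orderOf z = 2) (zQ : z ∈ Z(Q)) : ¬ L ≤ C[z] := fun c => by
  obtain ⟨r, hr, r1⟩ := exists_ne_one h.ne
  have zu : u ≠ z := fun e => r1 (h.reg r hr (e ▸ c hr))
  have k1 : R ⊓ C[z] = ⊥ := by
    have p := (h.pR.infl C[z]).sup h.pL (norms_inf h.LR (norms_of_le c))
    rcases cyc_total (th.cyc1 p hz (sup_le inf_le_right c)) p le_sup_left le_sup_right with e | e
    · exact H19.eq_bot_mono (le_inf inf_le_left e) h.dj
    · exact absurd (H19.eq_bot_mono (le_inf (e.trans inf_le_left) le_rfl) h.dj) h.ne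
  have hE := abelem_Ohm1_center 3 R
  have pE := abelem_pg Nat.prime_three hE
  have n := norm_le_norm_Ohm1_center 3 R
  have e1 := h.pR.Ohm1_center_ne_bot h.r1
  have k2 := H19.eq_bot_mono (inf_le_inf_right C[z] ((Ohm1_le 3 Z(R)).trans inf_le_left)) k1
  generalize Ohm1 3 Z(R) = E at hE pE n e1 k2
  have uz : u ∈ C[z] := mem_cent1_symm.1 (cent_le_cent1 h.uQ zQ.2)
  have hA := four h.u2 hz uz zu
  have vQ := mul_mem h.uQ zQ.1
  have v2 : orderOf (u * z) = 2 := ord2 hA (mul_mem (mem_sup_left (mem_zpowers u))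
    (mem_sup_right (mem_zpowers z))) fun e => zu (by
      rw [mul_eq_one_iff_eq_inv.1 e, inv_eq_of_mul_eq_one_right (sq1 hz)])
  have g : E ≤ (E ⊓ C[u]) ⊔ (E ⊓ C[u * z]) := H1.le_of_cent1 Nat.prime_two hA.ab
    (by rw [hA.card]; decide) ((sup_le (zpowers_le.2 h.uQ) (zpowers_le.2 zQ.1)).trans
      (h.QR.trans n)) (pg23 pE) fun b hb b1 => by
    obtain ⟨a, ha, w, hw, rfl⟩ := (mem_sup_of_norm (norms_of_comm hA.comm le_sup_right
      le_sup_left)).1 hb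
    rcases (mem_zp h.u2).1 ha with rfl | rfl <;> rcases (mem_zp hz).1 hw with rfl | rfl
    · simp at b1
    · rw [one_mul, k2]; exact bot_le
    · rw [mul_one]; exact le_sup_left
    · exact le_sup_right
  have cz : ∀ s ∈ L, s * (u * z) * s⁻¹ = s * u * s⁻¹ * z := fun s hs => by
    rw [← conj_mul, mem_cent1.1 (c hs), mul_inv_cancel_right]
  have mv : ∀ a ∈ Q, orderOf a = 2 → a ≠ r * a * r⁻¹ → ∀ X, X ≤ E → X ≤ C[a] → r ∈ N(X) → X = ⊥ :=
    fun a aQ a2 ne X l1 l2 rX => H19.eq_bot_mono (le_inf (le_inf l1 l2) (by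
      rw [← cj_cent1, ← cj_of_mem_norm rX]; exact cj_mono r l2)) (th.inv_eq' h.pQ aQ
        (conj_mem_of_norm (h.LQ hr) aQ) a2 (by rw [orderOf_conj', a2]) pE ne)
  have m1 := mv u h.uQ h.u2 (h.cjne th hr r1)
  have m2 := mv _ vQ v2 (by rw [cz r hr]; exact fun e => h.cjne th hr r1 (mul_right_cancel e))
  have rE := n (h.LR hr)
  have x1 : E ⊓ C[u] ≠ ⊥ := fun e => e1 (m2 E le_rfl
    (g.trans (by rw [e, bot_sup_eq]; exact inf_le_right)) rE)
  have x2 : E ⊓ C[u * z] ≠ ⊥ := fun e => e1 (m1 E le_rfl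
    (g.trans (by rw [e, sup_bot_eq]; exact inf_le_right)) rE)
  have hX := th.el1 hE h.u2 x1
  have hY := th.el1 hE v2 x2
  have d : ∀ a ∈ Q, orderOf a = 2 → E ⊓ C[u * z] ≤ C[a] → u * z = a := fun a aQ a2 l =>
    by_contra fun ne => x2 (inf_eq_left.2 l ▸ th.inv_eq' h.pQ vQ aQ v2 a2 pE ne)
  have hE2 := hX.sup2 hY (cents_of_comm hE.1 inf_le_left inf_le_left) fun e =>
    ne1 hz (mul_eq_left.1 (d u h.uQ h.u2 (e ▸ inf_le_right)))
  rw [le_antisymm hE2.le g] at hE2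
  obtain ⟨j, e⟩ := lines hE2 (h.pL.elt hr) rE hX hY
    (fun l => x1 (m1 _ inf_le_left inf_le_right (cent_le_norm _ (le_cent1_iff.1 l))))
    (fun l => x2 (m2 _ inf_le_left inf_le_right (cent_le_norm _ (le_cent1_iff.1 l))))
  have hs := pow_mem hr j
  generalize r ^ j = s at e hs
  have e2 := d _ (conj_mem_of_norm (h.LQ hs) h.uQ) (by rw [orderOf_conj', h.u2])
    (by rw [e, ← cj_cent1]; exact cj_mono s inf_le_right)
  have e3 := cz s hs
  rw [← e2, mul_assoc u, sq1 hz, mul_one, e2] at e3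
  have e4 : s = 1 := h.reg s hs (odd_sq (h.pL.elt hs) (mem_cent1.2
    (mul_inv_eq_iff_eq_mul.1 (Eq.trans (by group) e3))))
  rw [e4] at e2
  exact ne1 hz (by simpa using e2)

theorem exV : ∃ V, El 2 2 V Q ∧ u ∈ V ∧ #L = 3 ∧ ∀ v ∈ V, v ≠ 1 → v ∈ Cl L u := by
  have l := Ohm1_le 2 Z(Q)
  have n := h.LQ.trans (norm_le_norm_Ohm1_center 2 Q)
  have v1 := h.pQ.Ohm1_center_ne_bot (ne_bot_of_mem h.uQ (ne1 h.u2))
  obtain ⟨k, hk⟩ := abelem_el Nat.prime_two (abelem_Ohm1_center 2 Q) (l.trans inf_le_left)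
  generalize Ohm1 2 Z(Q) = V at l n v1 hk
  have n8 : ∀ A, ¬ El 2 3 A Q := fun A hA => h.r1 (th.no8 hA h.pR (hA.le.trans h.QR))
  match k, hk with
  | 0, hk => exact absurd (eq_bot_of_card_eq _ (by simpa using hk.card)) v1
  | 1, hk =>
    have c := cent_of_two hk n
    obtain ⟨z, -, hz, rfl⟩ := hk.exists_gen
    exact absurd (le_cent1_iff.2 (c (mem_zpowers z))) (h.nz th hz (l (mem_zpowers z)))
  | k + 3, hk =>
    obtain ⟨A, hA⟩ := hk.exists_sub (show 3 ≤ k + 3 by omega)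
    exact absurd (hA.mono hk.le) (n8 A)
  | 2, hk =>
    have uV : u ∈ V := by_contra fun e => n8 _ (hk.sup ((el12 h.u2).of_le (zpowers_le.2 h.uQ))
      (l.trans (inf_le_right.trans (cent_mono (zpowers_le.2 h.uQ)))) fun e' => e (e' (mem_zpowers u)))
    have k1 := cl_card L u
    rw [show L ⊓ C[u] = ⊥ from eq_bot_iff.2 fun r hr => h.reg r hr.1 hr.2, card_bot, one_mul] at k1
    have k2 := cl_le n uV (ne1 h.u2)
    have k3 := Nat.le_of_dvd (card_pos L) (h.pL.dvd_of_ne_bot h.ne)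
    rw [hk.card] at k2
    have k4 : Cl L u = (V : Set G) \ {1} := Set.eq_of_subset_of_ncard_le
      (fun _ ⟨k, k1, k2⟩ => k2 ▸ ⟨conj_mem_of_norm (n k1) uV, by simpa using ne1 h.u2⟩) (by
        rw [Set.ncard_sdiff_singleton_of_mem (one_mem V), ← Nat.card_coe_set_eq]
        exact (congrArg (· - 1) hk.card).le.trans (by omega))
    exact ⟨V, hk, uV, by omega, fun v hv v1 => k4 ▸ ⟨hv, v1⟩⟩

end St

end H5.KT
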