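import Cfsg.Agent.H5.KT6

/-! Simple groups of order `p * 3 ^ a * 2 ^ b`: the bound on the conjugates of an involution. -/

set_option autoImplicit false
set_option linter.unusedSectionVars false

namespace H5.KT
open Cfsg Subgroup H19 H22.KM
open scoped commutatorElement

variable {G : Type*} [Group G] [Finite G] {p n m d : ℕ}
  {A B D E F H K L M P Q R S T U V W X Y : Subgroup G} {a b c g r s t u x y z : G}

namespace St
variable (th : Thin G) (h : St u R Q L)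
include th h

theorem cub (hV : El 2 2 V Q) (hc : ∀ v ∈ V, v ≠ 1 → v ∈ Cl L u) (hK : PG 3 K) (n : N(R) ≤ N(K)) :
    #K = #(K ⊓ C[u]) ^ 3 :=
  cube hV hK (hV.le.trans (h.QR.trans n)) (th.cent4 hV hK) fun b hb b1 => by
    obtain ⟨r, hr, rfl⟩ := hc b hb b1
    rw [← cj_cent1, ← cj_of_mem_norm (n (h.LR hr)), ← cj_inf, card_cj, cj_of_mem_norm (n (h.LR hr))]

theorem top : Syl 3 (R ⊔ L) ⊤ := by
  obtain ⟨V, hV, -, cL, hc⟩ := h.exV th
  have hE := abelem_Ohm1_center 3 R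
  have pE := abelem_pg Nat.prime_three hE
  have n := norm_le_norm_Ohm1_center 3 R
  have e1 := h.pR.Ohm1_center_ne_bot h.r1
  have eZ := Ohm1_le 3 Z(R)
  generalize Ohm1 3 Z(R) = E at hE pE n e1 eZ
  have eR := eZ.trans inf_le_left
  have eC := eZ.trans inf_le_right
  have c1 := h.cub th hV hc pE n
  have x1 : E ⊓ C[u] ≠ ⊥ := fun e => e1 (eq_bot_of_card_eq _ (by rw [c1, e, card_bot, one_pow]))
  obtain ⟨y, y1, hy, e⟩ := (th.el1 hE h.u2 x1).exists_gen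
  rw [← e, (el13 hy).card1] at c1
  obtain ⟨yE, yu⟩ : y ∈ E ⊓ C[u] := e ▸ mem_zpowers y
  have iv : ∀ s ∈ L, s ≠ 1 → u * (s * y * s⁻¹) * u⁻¹ = (s * y * s⁻¹)⁻¹ := fun s hs s1 => by
    have m := conj_mem_of_norm (h.LQ hs) h.uQ
    have m2 : orderOf (s * u * s⁻¹) = 2 := by rw [orderOf_conj', h.u2]
    obtain ⟨V, hV, uV, -, hc⟩ := h.exV th
    have sV : s * u * s⁻¹ ∈ V := by_contra fun e => by
      have k := cl_card L u
      have k2 : insert (s * u * s⁻¹) ((V : Set G) \ {1}) ⊆ Cl L u :=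
        Set.insert_subset ⟨s, hs, rfl⟩ fun v hv => hc v hv.1 hv.2
      have k3 := Set.ncard_le_ncard k2
      rw [Set.ncard_insert_of_notMem fun e' => e e'.1, Set.ncard_sdiff_singleton_of_mem (one_mem V),
        ← Nat.card_coe_set_eq] at k3
      have k4 : Nat.card (V : Set G) = 2 ^ 2 := hV.card
      have := Nat.le_of_dvd (card_pos L) (Dvd.intro_left _ k)
      omega
    refine inv_of_fpf (sq1 h.u2) (comm_mono hE.1 (inf_le_left (b := C[s * u * s⁻¹])))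
      (norms_inf (A := zpowers u) (zpowers_le.2 (n (h.QR h.uQ))) (norms_of_le (zpowers_le.2
        (mem_cent1.2 (mul_comm_of_comm hV.comm uV sV)))) (mem_zpowers u))
      (th.inv_eq' h.pQ m h.uQ m2 h.u2 pE (h.cjne th hs s1).symm)
      ⟨conj_mem_of_norm (n (h.LR hs)) yE, by rw [← cj_cent1]; exact conj_mem_cj.2 yu⟩
  have yn : y * y ≠ 1 := fun e => absurd (hy ▸ orderOf_dvd_of_pow_eq_one ((pow_two y).trans e))
    (by decide)
  have yy : u * y * u⁻¹ = y := mul_inv_eq_iff_eq_mul.2 (mem_cent1.1 yu).symm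
  have dec : ∀ g ∈ R ⊔ L, g ∉ R → ∃ s ∈ L, s ≠ 1 ∧ ∀ x ∈ E, g * x * g⁻¹ = s * x * s⁻¹ :=
    fun g hg gR => by
      obtain ⟨a, ha, s, hs, rfl⟩ := (mem_sup_of_norm h.LR).1 hg
      refine ⟨s, hs, fun e => gR (by simpa [e] using ha), fun x hx => ?_⟩
      rw [mul_inv_rev, mul_assoc a, mul_assoc a, ← mul_assoc (s * x), ← mul_assoc a,
        mem_cent.1 (eC (conj_mem_of_norm (n (h.LR hs)) hx)) a ha, mul_inv_cancel_right]
  have c2 : (R ⊔ L) ⊓ C(E) = R := le_antisymm (fun g hg => by_contra fun gR => by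
    obtain ⟨s, hs, s1, k⟩ := dec g hg.1 gR
    have k1 := iv s hs s1
    rw [← k y yE, ← mem_cent.1 hg.2 y yE, mul_inv_cancel_right, yy] at k1
    exact yn (mul_eq_one_iff_eq_inv.2 k1)) (le_inf le_sup_left (cents_symm eC))
  by_contra ns
  obtain ⟨P, p1, p2, -, p3⟩ := h.syl.pi.exists_lt_norm le_top ns
  obtain ⟨w, hw, wR⟩ := SetLike.not_le_iff_exists.1 fun e => p1.ne' (h.syl.max p1.le e p2)
  have wn := p3 hw
  have nE : ¬ cj w E ≤ E := fun e => wR (c2 ▸ norms_inf (A := zpowers w) (zpowers_le.2 wn)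
    (norms_cent (zpowers_le.2 (mem_norm_of_cj_le e))) (mem_zpowers w))
  have hE' := abelem_J hE w
  have l1 : cj w E ≤ R ⊔ L := cj_le_of_mem_norm wn (eR.trans le_sup_left)
  have l2 : R ⊔ L ≤ N(cj w E) := by
    rw [← cj_norm, ← cj_of_mem_norm wn]; exact cj_mono w (h.syl.le.trans n)
  generalize cj w E = F at nE hE' l1 l2
  by_cases l3 : F ≤ R
  · obtain ⟨K, hK⟩ := exK hE eC
    have k1 : N(R) ≤ N(K) := fun g hg => mem_norm_of_cj_le fun x hx => by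
      obtain ⟨x, hx', rfl⟩ := mem_cj'.1 hx
      obtain ⟨x1, x2, x3⟩ := (hK x).1 hx'
      refine (hK _).2 ⟨conj_mem_of_norm hg x1, by rw [conj_pow, x2, mul_one, mul_inv_cancel],
        fun z hz => ?_⟩
      convert conj_mem_of_norm (n hg) (x3 _ (conj_mem_of_norm' hg hz)) using 1
      group
    have k0 : ∀ x ∈ K, x ^ 3 = 1 := fun x hx => ((hK x).1 hx).2.1
    have k2 := h.cub th hV hc (pg_of_pow Nat.prime_three k0) k1
    have k3 : E = K := eq_of_le_of_card_ge (fun x hx => (hK x).2 ⟨eR hx, hE.2 x hx, fun z hz => by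
      rw [← mem_cent.1 (eC hx) z hz]; simp⟩)
      (by rw [k2, c1]; exact Nat.pow_le_pow_left (th.le3 k0 h.u2) 3)
    have nR := le_normalizer.trans n
    obtain ⟨q, ⟨q1, q2⟩, q3⟩ := exists_ne_one (((h.pR.of_le l3).quo E).meet_cent (h.pR.quo E)
      (quo_norms (le_sup_left.trans l2)) (mt (quo_eq_bot_iff (l3.trans nR)).1 nE))
    obtain ⟨g, hg, rfl⟩ := mem_im.1 q1
    refine q3 (qmk_eq_one.2 (k3.ge ((hK g).2 ⟨l3 hg, hE'.2 g hg, fun x hx => ?_⟩)))
    exact (quo_cents_iff (zpowers_le.2 g.2) nR).1 (by rwa [quo_zpowers g.2, zpowers_le])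
      (commutator_mem_commutator (mem_zpowers (g : G)) hx)
  obtain ⟨g, hg, gR⟩ := SetLike.not_le_iff_exists.1 l3
  obtain ⟨s, hs, s1, k⟩ := dec g (l1 hg) gR
  have m := conj_mem_of_norm (n (h.LR hs)) yE
  have k1 : g * y * g⁻¹ * y⁻¹ ∈ F := by
    simpa only [mul_assoc] using mul_mem hg (conj_mem_of_norm (l2 (mem_sup_left (eR yE))) (inv_mem hg))
  have k2 := mul_inv_eq_iff_eq_mul.2 (mul_comm_of_comm hE'.1 hg k1)
  rw [k y yE, k _ (mul_mem m (inv_mem yE)), ← conj_mul, ← conj_inv] at k2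
  have k3 := iv s hs s1
  have k4 := iv _ (mul_mem hs hs) fun e => s1 (mem_bot.1 (odd_sq (h.pL.elt hs) (e ▸ one_mem _)))
  rw [show s * s * y * (s * s)⁻¹ = s * (s * y * s⁻¹) * s⁻¹ by group] at k4
  have m2 := conj_mem_of_norm (n (h.LR hs)) m
  generalize s * (s * y * s⁻¹) * s⁻¹ = y2 at k2 k4 m2
  generalize s * y * s⁻¹ = y1 at k2 k3 m
  have k5 := congrArg (fun x => u * x * u⁻¹) k2
  simp only [← conj_mul] at k5
  rw [← conj_inv, ← conj_inv, k3, k4, yy, inv_inv] at k5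
  rw [mul_comm_of_comm hE.1 (inv_mem m2) m, show y1 * y2⁻¹ = (y2 * y1⁻¹)⁻¹ by group, k2,
    mul_inv_rev, inv_inv, mul_comm_of_comm hE.1 yE (inv_mem m), mul_right_inj] at k5
  exact yn (mul_eq_one_iff_eq_inv.2 k5)

end St

theorem Hy.star (h : Hy p G) (th : Thin G) (hu : orderOf u = 2) (hT : Syl 2 T ⊤) (uT : T ≤ C[u])
    (hY : Syl 3 Y C[u]) (y1 : Y ≠ ⊥) (hR : Syl 3 R ⊤) : kk u T ≤ p ∨ kk u T ≤ 3 * p ∧
      #R = 3 * #Y ^ 3 ∧ ∃ V, El 2 2 V ⊤ ∧ ∀ v ∈ V, v ≠ 1 → v ∈ Cl ⊤ u := by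
  obtain ⟨P, l, ⟨p1, p2⟩, mx⟩ := exists_maximal_ge_of_wellFoundedGT
    (fun P : Subgroup G => PG 3 P ∧ u ∈ N(P)) Y ⟨hY.pi, cent_le_norm _ (le_cent1_iff.1 hY.le)⟩
  have e : P ⊓ C[u] = Y := hY.max (le_inf l hY.le) inf_le_right (p1.infl _)
  have k1 := cnt p1 p2 hT.pi
  have k2 := cl_card P u
  have k3 := fx_eq u T
  have k4 : #C[u] = #Y * #T := by
    rw [hY.card_mul_compl ((hT.of_le uT le_top).congr fun q hq hd => ?_)]
    rcases h.prm hq (hd.trans (card_subgroup_dvd_card _)) with rfl | rfl | rfl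
    · exact absurd hd (h.np2 hu)
    all_goals simp
  have k5 := T.card_mul_index
  rw [h.cardG hR hT, mul_comm] at k5
  rw [k4, mul_right_comm] at k3
  rw [Nat.eq_of_mul_eq_mul_right (card_pos T) k3, Nat.eq_of_mul_eq_mul_right (card_pos T) k5,
    ← mul_assoc, mul_comm _ #Y, ← e, k2] at k1
  by_cases s : Syl 3 P ⊤
  · rw [s.card_eq hR, mul_comm] at k1
    exact .inl (Nat.le_of_mul_le_mul_right k1 (card_pos R))
  obtain ⟨Q, L, st⟩ := h.exSt th hu p1 (ne_bot_mono l y1) p2 (fun X x1 x2 x3 => mx ⟨x1, x2⟩ x3) s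
  obtain ⟨V, hV, -, cL, hc⟩ := st.exV th
  have k6 := (st.top th).card_eq hR
  rw [card_sup_of_disjoint st.LR st.dj, cL] at k6
  refine .inr ⟨?_, by rw [← k6, st.cub th hV hc p1 le_rfl, e, mul_comm], V, hV.top,
    fun v hv v1 => let ⟨r, _, e⟩ := hc v hv v1; ⟨r, mem_top r, e⟩⟩
  rw [← k6, mul_comm p, mul_assoc] at k1
  exact Nat.le_of_mul_le_mul_left k1 (card_pos P)

end H5.KT
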