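import Cfsg.Agent.H5.KT7

/-! Simple groups of order `p * 3 ^ a * 2 ^ b`: involution centralizers in the thin case. -/

set_option autoImplicit false
set_option linter.unusedSectionVars false

namespace H5.KT
open Cfsg Subgroup H19 H22.KM
open scoped commutatorElement

variable {G : Type*} [Group G] [Finite G] {p n m d : ℕ}
  {A B D E F H K L M P Q R S T U V W X Y : Subgroup G} {a b c g r s t u w x y z : G}

theorem mem_o2 (hu : orderOf u = 2) : u ∈ Oc {2} C[u] :=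
  le_Oc ⟨zpowers_le.2 (mem_cent1_self u), cent1_le_norm_zpowers u⟩ (el12 hu).pg (mem_zpowers u)

theorem fpf_cyc (hY : Cyc Y) (pY : PG 3 Y) (hw : PiE {2} w) (hn : w ∈ N(Y)) (hc : w ∉ C(Y)) :
    Y ⊓ C[w] = ⊥ := by
  have d := ab_cent_dprod (comm_of_cyclic hY) (zpowers_le.2 hn) (cop32 pY (piG_zpowers.2 hw))
  rw [← cent_zpowers]
  rcases cyc_total hY pY d.left_le d.right_le with e | e
  · rw [← d.inf, inf_eq_left.2 e]
  · have := d.sup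
    rw [sup_eq_left.2 e, cent_zpowers] at this
    exact absurd (le_cent1_iff.1 (this.ge.trans inf_le_right)) hc

theorem small (hQ : PG 2 Q) (hg : PiE {3} g) (hn : g ∈ N(Q)) (hf : zpowers g ⊓ C(Q) = ⊥)
    (h : #Q ≤ 4 * #(Q ⊓ C[g])) : g ^ 3 = 1 := by
  have pP := piG_zpowers.2 hg
  have nP := zpowers_le.2 hn
  by_cases g1 : zpowers g = ⊥
  · simp [zpowers_eq_bot.1 g1]
  obtain ⟨X, hX⟩ := pP.exists_el1 g1
  have k1 := four_cent hQ hX.pg (hX.le.trans nP) bot_le fun e => hX.ne_bot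
    (H19.eq_bot_mono (le_inf hX.le (cents_symm (by simpa using e))) hf)
  have k0 := card_pos (Q ⊓ C(X))
  rw [cent_bot, inf_top_eq] at k1
  rw [← cent_zpowers] at h
  have k2 : Q ⊓ C(X) ≤ C(zpowers g) := by_contra fun e => by
    have := four_cent hQ pP nP hX.le e
    omega
  have k3 := card_le (inf_le_inf_left Q (cent_mono hX.le))
  have k4 : #(zpowers g) ∣ ((Q : Set G) \ (Q ⊓ C(X) : Subgroup G)).ncard := cl_dvd (H := zpowers g)
    (fun a ha s hs => ⟨conj_mem_of_norm (nP ha) hs.1, fun e => hs.2 ⟨hs.1, by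
      have := mem_cent.1 (k2 e) a⁻¹ (inv_mem ha)
      rw [← mul_assoc, ← mul_assoc, inv_mul_cancel, one_mul, mul_left_inj] at this
      exact this ▸ e.2⟩⟩) fun s hs => by
    rw [show zpowers g ⊓ C[s] = ⊥ from by_contra fun e => hs.2 ⟨hs.1, le_cent1_iff.1
      ((hX.le_of_cyc (cyc_zpowers g) inf_le_left ((pP.infl _).dvd_of_ne_bot e)).trans
        inf_le_right)⟩, card_bot, mul_one]
  rw [Set.ncard_sdiff (SetLike.coe_subset_coe.2 inf_le_left), ← Nat.card_coe_set_eq, ← Nat.card_coe_set_eq] at k4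
  change _ ∣ #Q - #(Q ⊓ C(X)) at k4
  rw [show #Q - #(Q ⊓ C(X)) = 3 * #(Q ⊓ C(X)) by omega] at k4
  exact orderOf_dvd_iff_pow_eq_one.1 (Nat.card_zpowers g ▸
    (cop32 pP (hQ.infl _)).dvd_of_dvd_mul_right k4)

namespace Hy
variable (h : Hy p G) (th : Thin G) (hu : orderOf u = 2)
include h th hu

theorem bar (hY : Syl 3 Y C[u]) : quo (Oc {2} C[u]) C[u] ≤ N(quo (Oc {2} C[u]) Y) ∧
    quo (Oc {2} C[u]) C[u] ⊓ C(quo (Oc {2} C[u]) Y) ≤ quo (Oc {2} C[u]) Y := by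
  have s := sol_quo (h.sol2 hu) (Oc {2} C[u])
  have k : Oc {3}ᶜ (quo (Oc {2} C[u]) C[u]) = ⊥ := H19.eq_bot_mono (le_Oc (Oc_normal _ _)
    fun q hq hd => by
      have d := hd.trans ((card_dvd (Oc_le _ _)).trans (card_quo_dvd _ _))
      rcases h.prm hq (d.trans (card_subgroup_dvd_card _)) with rfl | rfl | rfl
      exacts [absurd d (h.np2 hu), absurd rfl (Oc_pi _ _ 3 hq hd), rfl]) (Oc_quo_Oc {2} C[u])
  have k1 := hY.quo (Oc_norm {2} C[u])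
  have k2 := H1.norm_of_ab_syl s k1 (ab_quo (comm_of_cyclic (th.cyc1 hY.pi hu hY.le)) _) k
  exact ⟨k2, k1.eq_Oc k2 ▸ H18.cent_pcore_sub s k⟩

theorem idx2 (hS : PG 2 S) (l : S ≤ C[u]) : (Oc {2} C[u]).relIndex S ∣ 2 := by
  obtain ⟨Y, hY⟩ := exists_syl 3 C[u]
  obtain ⟨k1, k2⟩ := h.bar th hu hY
  have c := cyc_quo (th.cyc1 hY.pi hu hY.le) (Oc {2} C[u])
  have pY := hY.pi.quo (Oc {2} C[u])
  have pS := hS.quo (Oc {2} C[u])
  have l' := quo_mono (Oc {2} C[u]) l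
  rw [← card_quo (l.trans (Oc_norm _ _))]
  generalize quo (Oc {2} C[u]) Y = Y at k1 k2 c pY
  generalize quo (Oc {2} C[u]) S = S at pS l'
  have e : C(Y) ⊓ S = ⊥ := H19.eq_bot_mono (le_inf inf_le_right
    ((le_inf (inf_le_right.trans l') inf_le_left).trans k2)) (pS.inf_eq_bot (pg23 pY))
  rw [← card_inf_mul_relIndex C(Y) S, e, card_bot, one_mul]
  obtain ⟨_ | j, hj⟩ := pY.exists_card
  · rw [eq_bot_of_card_eq _ hj]; simp
  exact ((pS.relIndex C(Y)).coprime ((PiN.prime_pow Nat.prime_three j).sing_ne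
    (by decide))).dvd_of_dvd_mul_left
    (H18.index_cent_cyclic_dvd Nat.prime_three c hj (l'.trans k1))

theorem mul2 (hS : PG 2 S) (l : S ≤ C[u]) (ha : a ∈ S) (hb : b ∈ S) (a1 : a ∉ Oc {2} C[u])
    (b1 : b ∉ Oc {2} C[u]) : a * b ∈ Oc {2} C[u] := by
  rcases (Nat.dvd_prime Nat.prime_two).1 (h.idx2 th hu hS l) with e | e
  · exact absurd (relIndex_eq_one.1 e ha) a1
  exact (mul_mem_iff_of_index_two (H := (Oc {2} C[u]).subgroupOf S) e (a := ⟨a, ha⟩)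
    (b := ⟨b, hb⟩)).2 (iff_of_false a1 b1)

theorem comm_le (hV : PG 2 V) (l : V ≤ C[u]) (hy : orderOf y = 3) (yu : y ∈ C[u]) (n : y ∈ N(V)) :
    ⁅V, zpowers y⁆ ≤ Oc {2} C[u] := by
  obtain ⟨Y, hY, l2⟩ := (el13 hy).pg.exists_syl (zpowers_le.2 yu)
  have nQ := Oc_norm {2} C[u]
  have k := norms_of_quo nQ (hY.le.trans nQ) (h.bar th hu hY).1
  have s := sdprod_sup (hY.le.trans nQ) ((Oc_pi {2} C[u]).inf_eq_bot (pg23 hY.pi))
  exact (s.hall_of_pi (Oc_pi _ _) (pg23 hY.pi)).le_of_normal s.normal.norm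
    ((commutator_mono le_rfl (l2.trans le_sup_right)).trans (commg_le_right (l.trans k)))
    (hV.of_le (commg_le_left (zpowers_le.2 n)))

theorem inv3 (hw : orderOf w = 2) (wu : w ∈ C[u]) (w1 : w ∉ Oc {2} C[u]) :
    ∃ y ∈ C[u], orderOf y = 3 ∧ w * y * w⁻¹ = y⁻¹ := by
  obtain ⟨y, hy, y1, y2, y3⟩ := inv_odd (sq1 hw) wu w1
  rcases h.prm y1 (orderOf_dvd_natCard y) with e | e | e
  exacts [absurd (e ▸ orderOf_dvd_card' hy) (h.np2 hu), ⟨y, hy, e, y3⟩, absurd e y2]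

theorem orb4 (hY : Syl 3 Y C[u]) (h9 : 9 ∣ #Y) (hw : orderOf w = 2) (wu : w ∈ C[u])
    (w1 : w ∉ Oc {2} C[u]) : 4 * #(Oc {2} C[u] ⊓ C[w]) ∣ #(Oc {2} C[u]) := by
  obtain ⟨k1, k2⟩ := h.bar th hu hY
  have cY := th.cyc1 hY.pi hu hY.le
  have f := h.c2t hu
  have pQ := Oc_pi {2} C[u]
  have nQ := Oc_norm {2} C[u]
  generalize Oc {2} C[u] = Q at *
  obtain ⟨g, rfl⟩ := cyc_iff.1 cY
  have gu := hY.le (mem_zpowers g)
  have wb : PiE {2} (qmk Q ⟨w, nQ wu⟩) := piG_zpowers.1 (quo_zpowers (nQ wu) ▸ (el12 hw).pg.quo Q)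
  have pb := hY.pi.quo Q
  have k3 := inv_of_fpf (u := qmk Q ⟨w, nQ wu⟩) (by rw [← map_mul, qmk_eq_one]; simp [sq1 hw])
    (ab_quo (comm_of_cyclic cY) Q) (k1 (mem_im_of wu)) (fpf_cyc (cyc_quo cY Q) pb wb
      (k1 (mem_im_of wu)) fun e => w1 (qmk_eq_one.1 (PiN.e_eq_one wb
        ((pg23 pb).elt (k2 ⟨mem_im_of wu, e⟩))))) (mem_im_of (x := ⟨g, nQ gu⟩) (mem_zpowers g))
  have k4 : 9 ∣ orderOf (qmk Q ⟨g, nQ gu⟩) := by
    rwa [← Nat.card_zpowers, ← quo_zpowers, card_quo_of_disjoint (hY.le.trans nQ)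
      (pQ.inf_eq_bot (pg23 hY.pi))]
  obtain ⟨k, hk⟩ := H3.exists_coprime_orderOf_pow (n := 2) two_ne_zero (g * w * g⁻¹ * w⁻¹)
  have cu : g * w * g⁻¹ * w⁻¹ ∈ C[u] := mul_mem (mul_mem (mul_mem gu wu) (inv_mem gu)) (inv_mem wu)
  have k5 : qmk Q ⟨_, nQ cu⟩ = qmk Q ⟨g, nQ gu⟩ ^ 2 := by
    rw [show (⟨_, nQ cu⟩ : N(Q)) = ⟨g, nQ gu⟩ * (⟨w, nQ wu⟩ * ⟨g, nQ gu⟩ * ⟨w, nQ wu⟩⁻¹)⁻¹ from
      Subtype.ext (by simp [mul_assoc]), map_mul, map_inv, map_mul, map_mul, map_inv, k3, inv_inv,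
      pow_two]
  have c3 : PG 3 (zpowers ((g * w * g⁻¹ * w⁻¹) ^ 2 ^ k)) := h.pg3
    (fun e => h.np2 hu (e.trans (card_dvd (zpowers_le.2 (pow_mem cu _)))))
    (piG_zpowers.2 (PiN.of_coprime hk))
  obtain ⟨i, hi⟩ := (pQ.relIndex C[w]).exists_pow (relIndex_ne_zero' _ _)
  rw [← card_inf_mul_relIndex C[w] Q, inf_comm C[w], mul_comm, hi]
  refine Nat.mul_dvd_mul_left _ (pow_dvd_pow 2 (show 2 ≤ i from le_of_not_gt fun i1 => ?_))
  have i2 : C[w].relIndex Q ≤ 2 := hi ▸ Nat.pow_le_pow_right (n := 2) (by decide)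
    (Nat.le_of_lt_succ i1)
  have i3 : C[g * w * g⁻¹].relIndex Q ≤ 2 := by
    rwa [← cj_cent1, ← cj_of_mem_norm (nQ gu), relIndex_cj]
  have i4 := (relIndex_inf_le (H := C[g * w * g⁻¹]) (K := C[w]) (L := Q)).trans
    (Nat.mul_le_mul i3 i2)
  have i5 := small pQ (piG_zpowers.1 c3) (nQ (pow_mem cu _)) (H19.eq_bot_mono (le_inf inf_le_left
    ((inf_le_inf_right _ (zpowers_le.2 (pow_mem cu _))).trans f)) ((pg23 c3).inf_eq_bot' pQ)) (by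
    rw [← card_inf_mul_relIndex (C[g * w * g⁻¹] ⊓ C[w]) Q, mul_comm]
    refine Nat.mul_le_mul i4 (card_le (le_inf inf_le_right fun x hx => mem_cent1_symm.1 ?_))
    exact pow_mem (mul_mem (mem_cent1_symm.1 hx.1.1) (inv_mem (mem_cent1_symm.1 hx.1.2))) _)
  have i6 : (qmk Q ⟨_, nQ cu⟩ ^ 2 ^ k) ^ 3 = 1 := by
    rw [← map_pow, ← map_pow, show ((⟨_, nQ cu⟩ : N(Q)) ^ 2 ^ k) ^ 3 = 1 from Subtype.ext i5, map_one]
  rw [k5, ← pow_mul, ← pow_mul, ← orderOf_dvd_iff_pow_eq_one] at i6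
  have := (Nat.Coprime.pow 2 (k + 1) (show Nat.Coprime 3 2 by decide)).dvd_of_dvd_mul_left
    (show 3 ^ 2 ∣ 2 ^ (k + 1) * 3 from (k4.trans i6).trans (dvd_of_eq (by ring)))
  omega

end Hy

end H5.KT
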