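import Cfsg.Agent.H5.KT8

/-! Simple groups of order `p * 3 ^ a * 2 ^ b`: the thin case. -/

set_option autoImplicit false
set_option linter.unusedSectionVars false

namespace H5.KT
open Cfsg Subgroup H19 H22.KM
open scoped commutatorElement

variable {G : Type*} [Group G] [Finite G] {p n m d : ℕ}
  {A B D E F H K L M P Q R S T U V W X Y : Subgroup G} {a b c g r t u w x y z : G}

/-- the hypothesis of Holt's theorem -/
def Holt (G : Type*) [Group G] : Prop :=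
  ∃ (u : G) (T W : Subgroup G), orderOf u = 2 ∧ Syl 2 T ⊤ ∧ T ≤ C[u] ∧ PG 2 W ∧ W ≠ ⊥ ∧
    C[u] ≤ N(W) ∧ ∀ g, g * u * g⁻¹ ∈ N(W) → ∃ k ∈ N(W), k * u * k⁻¹ = g * u * g⁻¹

/-- a `2`-central involution with `2`-closed centralizer -/
def TwoCl (G : Type*) [Group G] : Prop :=
  ∃ (u : G) (T : Subgroup G), orderOf u = 2 ∧ Syl 2 T ⊤ ∧ T ≤ C[u] ∧ C[u] ≤ N(T)

structure Se (p : ℕ) (u : G) (T H V : Subgroup G) : Prop where
  u2 : orderOf u = 2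
  hT : Syl 2 T ⊤
  uT : T ≤ C[u]
  ab : Abelem 2 V
  VT : V ≤ T
  uV : u ∈ V
  n : H ≤ N(V)
  syl : Syl 2 (T ⊓ H) H
  ex : ∃ x ∈ H, orderOf x = p
  d3 : 3 ∣ #H

theorem Hy.exSe (h : Hy p G) : ∃ (u : G) (T H V : Subgroup G), Se p u T H V := by
  obtain ⟨W, hW, w1, ns⟩ := h.ns
  obtain ⟨S, hS⟩ := exists_syl 2 N(W)
  obtain ⟨T, hT, l⟩ := hS.pi.exists_syl le_top
  have l1 := (Oc_le_hall hS).trans l
  have l2 := le_Oc (normalIn_norm W) hW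
  obtain ⟨X, hX⟩ := (hT.pi.infl C(T)).exists_el1 (hT.pi.center_ne_bot (ne_bot_mono (l2.trans l1) w1))
  obtain ⟨u, -, hu, rfl⟩ := hX.exists_gen
  have c := cent_mono l1 (hX.le (mem_zpowers u)).2
  refine ⟨u, T, N(W), Ohm1 2 Z(Oc {2} N(W)), hu, hT, le_cent1_iff.2 (hX.le (mem_zpowers u)).2,
    abelem_Ohm1_center _ _, (Ohm1_le _ _).trans (inf_le_left.trans l1),
    mem_Ohm1 ⟨h.c2 W hW w1 ⟨cent_le_norm W (cent_mono l2 c), c⟩, c⟩ ((pow_two u).trans (sq1 hu)),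
    (Oc_norm _ _).trans (norm_le_norm_Ohm1_center 2 _), ?_, h.exp hW w1 ns, by_contra fun e => ns ?_⟩
  · rwa [hS.max (le_inf l hS.le) inf_le_right (hT.pi.infl _)]
  · obtain ⟨a, b, k⟩ := h.card
    have k1 := card_subgroup_dvd_card N(W)
    rw [k, mul_right_comm] at k1
    exact H5.isSolvable_of_card_dvd_prime_pow_mul h.pr Nat.prime_two (a := 1) (b := b) (by
      simpa using ((Nat.prime_three.coprime_iff_not_dvd.2 e).symm.pow_right a).dvd_of_dvd_mul_right k1)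

theorem Hy.cardC (h : Hy p G) (hu : orderOf u = 2) (hT : Syl 2 T ⊤) (uT : T ≤ C[u])
    (hY : Syl 3 Y C[u]) : #C[u] = #Y * #T := by
  rw [hY.card_mul_compl ((hT.of_le uT le_top).congr fun q hq hd => ?_)]
  rcases h.prm hq (hd.trans (card_subgroup_dvd_card _)) with rfl | rfl | rfl
  · exact absurd hd (h.np2 hu)
  all_goals simp

theorem cl_cj (hg : g ∈ H) (hx : x ∈ Cl H u) : g * x * g⁻¹ ∈ Cl H u :=
  let ⟨k, k1, k2⟩ := hx
  ⟨_, mul_mem hg k1, by rw [← k2]; group⟩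

theorem cl_self : u ∈ Cl H u := ⟨1, one_mem _, by group⟩

theorem cl_top (hx : x ∈ Cl H u) : x ∈ Cl ⊤ u :=
  let ⟨k, _, k2⟩ := hx
  ⟨k, mem_top k, k2⟩

theorem cl_ord (hx : x ∈ Cl H u) : orderOf x = orderOf u :=
  let ⟨k, _, k2⟩ := hx
  k2 ▸ orderOf_conj' k u

theorem norm_cl {X : Set G} (h : ∀ x ∈ X, g * x * g⁻¹ ∈ X) : g ∈ N(closure X) :=
  mem_norm_of_cj_le (by
    rw [cj_closure]
    exact closure_mono fun _ ⟨s, s1, s2⟩ => s2 ▸ h s s1)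

theorem two_pow {i : ℕ} (hp : p = 7 ∨ p = 13 ∨ p = 17) (h1 : 2 ^ i ≡ 1 [MOD p])
    (h2 : 2 ^ i ≡ 2 [MOD 3]) : p = 7 := by
  have k : ∀ N, 2 ^ 24 % N = 1 % N → 2 ^ i ≡ 2 ^ (i % 24) [MOD N] := fun N e => by
    conv_lhs => rw [← Nat.div_add_mod i 24, pow_add, pow_mul]
    simpa using ((show 2 ^ 24 ≡ 1 [MOD N] from e).pow (i / 24)).mul_right (2 ^ (i % 24))
  have k1 := (k 3 rfl).symm.trans h2
  have : i % 24 < 24 := Nat.mod_lt _ (by decide)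
  rcases hp with rfl | rfl | rfl
  · rfl
  all_goals
    have k2 := (k _ rfl).symm.trans h1
    generalize i % 24 = j at *
    interval_cases j <;> simp_all [Nat.ModEq]

namespace Se
variable (h : Hy p G) (th : Thin G) (s : Se p u T H V)
include s

theorem clV (hx : x ∈ Cl H u) : x ∈ V :=
  let ⟨_, k1, k2⟩ := hx
  k2 ▸ conj_mem_of_norm (s.n k1) s.uV

theorem sub : Cl H u ⊆ Cl ⊤ u ∩ T := fun _ hx => ⟨cl_top hx, s.VT (s.clV hx)⟩

theorem QT : Oc {2} C[u] ≤ T := Oc_le_hall (s.hT.of_le s.uT le_top)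

include h

theorem cl : p ∣ (Cl H u).ncard ∧ ¬ 2 ∣ (Cl H u).ncard := by
  have k := cl_card H u
  obtain ⟨x, hx, ho⟩ := s.ex
  refine ⟨((h.pr.dvd_mul).1 (k ▸ ho ▸ orderOf_dvd_card' hx)).resolve_left fun e =>
    h.np2 s.u2 (e.trans (card_dvd inf_le_right)), fun e => s.syl.not_dvd_relIndex Nat.prime_two
      (le_inf inf_le_right (inf_le_left.trans s.uT)) ?_⟩
  rwa [← Nat.eq_of_mul_eq_mul_left (card_pos _) (k.trans (card_mul_relIndex inf_le_left).symm)]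

theorem p_le : p ≤ (Cl H u).ncard :=
  Nat.le_of_dvd (Nat.pos_of_ne_zero fun e => (s.cl h).2 (e ▸ dvd_zero 2)) (s.cl h).1

omit h in
theorem holt (e : Cl ⊤ u ∩ T ⊆ Cl H u) (l : Cl H u ⊆ Oc {2} C[u]) : Holt G := by
  have k1 : H ≤ N(closure (Cl H u)) := fun g hg => norm_cl fun x => cl_cj hg
  have k2 : C[u] ≤ N(closure (Cl H u)) := fun g hg => norm_cl fun x hx =>
    e ⟨cl_cj (mem_top g) (cl_top hx), s.QT (conj_mem_of_norm (Oc_norm _ _ hg) (l hx))⟩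
  refine ⟨u, T, closure (Cl H u), s.u2, s.hT, s.uT, (Oc_pi _ _).of_le ((closure_le _).2 l),
    ne_bot_of_mem (subset_closure cl_self) (ne1 s.u2), k2, fun g hg => ?_⟩
  obtain ⟨m, hm, c⟩ := (s.hT.of_le (s.uT.trans k2) le_top).scj_le (zpowers_le.2 hg)
    (el12 (by rw [orderOf_conj', s.u2])).pg
  obtain ⟨k, hk, k3⟩ := e ⟨cl_cj (mem_top m) ⟨g, mem_top g, rfl⟩, c (conj_mem_cj.2 (mem_zpowers _))⟩
  exact ⟨m⁻¹ * k, mul_mem (inv_mem hm) (k1 hk), by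
    rw [show m⁻¹ * k * u * (m⁻¹ * k)⁻¹ = m⁻¹ * (k * u * k⁻¹) * m by group, k3]; group⟩

omit h in
theorem cm (hx : x ∈ V) (hz : z ∈ V) : x ∈ C[z] := mem_cent1.2 (mul_comm_of_comm s.ab.1 hx hz)

include th

theorem one (e : Cl ⊤ u ∩ T ⊆ Cl H u) (hw : w ∈ Cl H u) (w1 : w ∉ Oc {2} C[u]) (ha : a ∈ Cl H u)
    (hb : b ∈ Cl H u) (l : b ∈ Oc {2} C[a]) : b = a := by
  have hv := s.clV hw
  obtain ⟨y, yu, hy, hi⟩ := h.inv3 th s.u2 ((cl_ord hw).trans s.u2) (s.cm hv s.uV) w1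
  obtain ⟨k, hk, rfl⟩ := ha
  have l1 : k⁻¹ * b * k⁻¹⁻¹ ∈ Oc {2} C[u] := by
    rwa [← cj_cent1, ← cj_Oc, mem_cj, ← inv_inv k, inv_inv k⁻¹] at l
  have l2 := cl_cj (inv_mem hk) hb
  suffices e : k⁻¹ * b * k⁻¹⁻¹ = u by rw [← e]; group
  generalize k⁻¹ * b * k⁻¹⁻¹ = d at l1 l2
  have k1 := s.cm hv (s.clV (e ⟨cl_cj (mem_top y⁻¹) (cl_top l2),
    s.QT (conj_mem_of_norm (Oc_norm _ _ (inv_mem yu)) l1)⟩))
  rw [← cj_cent1, mem_cj, inv_inv] at k1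
  have k2 := mul_mem k1 (inv_mem (s.cm hv (s.clV l2)))
  rw [mul_assoc, mul_assoc, ← mul_assoc w, ← conj_inv, hi, inv_inv] at k2
  exact th.eq_c ((cl_ord l2).trans s.u2) s.u2 (s.cm (s.clV l2) s.uV) hy
    (mem_cent1_symm.1 (odd_sq (piG_zpowers.1 (el13 hy).pg) k2)) (mem_cent1_symm.1 yu)

theorem mul (ha : a ∈ Cl H u) (hb : b ∈ V) (hc : c ∈ V) (b1 : b ∉ Oc {2} C[a])
    (c1 : c ∉ Oc {2} C[a]) : b * c ∈ Oc {2} C[a] :=
  h.mul2 th ((cl_ord ha).trans s.u2) (abelem_pg Nat.prime_two s.ab)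
    (fun _ hx => s.cm hx (s.clV ha)) hb hc b1 c1

theorem caseA (e : Cl ⊤ u ∩ T ⊆ Cl H u) : Holt G := by
  refine s.holt e fun w hw => by_contra fun w1 => ?_
  have k : ∀ a ∈ Cl H u, ∀ b ∈ Cl H u, b ≠ a → b ∉ Oc {2} C[a] := fun a ha b hb ne l =>
    ne (s.one h th e hw w1 ha hb l)
  obtain ⟨y, yH, hy⟩ := exists_orderOf_eq_prime Nat.prime_three s.d3
  have y3 : ∀ a, y * (y * (y * a * y⁻¹) * y⁻¹) * y⁻¹ = a := fun a => by
    rw [show y * (y * (y * a * y⁻¹) * y⁻¹) * y⁻¹ = y ^ 3 * a * (y ^ 3)⁻¹ by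
      simp [pow_succ, mul_assoc], ← hy,
      pow_orderOf_eq_one]
    group
  obtain ⟨f, hf⟩ : ∃ f, ∀ x ∈ Cl H u, x ∈ C[y] → x = f := by
    by_cases c : ∃ f ∈ Cl H u, f ∈ C[y]
    · obtain ⟨f, f1, f2⟩ := c
      exact ⟨f, fun x x1 x2 => th.eq_c ((cl_ord x1).trans s.u2) ((cl_ord f1).trans s.u2)
        (s.cm (s.clV x1) (s.clV f1)) hy x2 f2⟩
    · exact ⟨1, fun x x1 x2 => absurd ⟨x, x1, x2⟩ c⟩
  have l7 : 7 ≤ (Cl H u).ncard := le_trans (by have := h.pp; omega) (s.p_le h)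
  obtain ⟨a, ha, af⟩ := Set.exists_mem_notMem_of_ncard_lt_ncard (s := {f}) (t := Cl H u)
    (by rw [Set.ncard_singleton]; omega)
  obtain ⟨b, hb, bf⟩ := Set.exists_mem_notMem_of_ncard_lt_ncard
    (s := {f, a, y * a * y⁻¹, y * (y * a * y⁻¹) * y⁻¹}) (t := Cl H u)
    (((Set.ncard_insert_le _ _).trans (Nat.succ_le_succ ((Set.ncard_insert_le _ _).trans
      (Nat.succ_le_succ ((Set.ncard_insert_le _ _).trans (Nat.succ_le_succ
        (Set.ncard_singleton _).le)))))).trans_lt (by omega))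
  simp only [Set.mem_insert_iff, Set.mem_singleton_iff, not_or] at af bf
  have m : ∀ a ∈ Cl H u, a * (y * a * y⁻¹ * (y * (y * a * y⁻¹) * y⁻¹)) ∈ V ⊓ C[y] := fun a ha => by
    have a0 := s.clV ha
    have a1 := s.clV (cl_cj yH ha)
    have a2 := s.clV (cl_cj yH (cl_cj yH ha))
    refine ⟨mul_mem a0 (mul_mem a1 a2), mem_cent1.2 (mul_inv_eq_iff_eq_mul.1 ?_).symm⟩
    rw [← conj_mul, ← conj_mul (b := y) (a := y * a * y⁻¹), y3, ← mul_assoc (y * a * y⁻¹),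
      mul_comm_of_comm s.ab.1 (mul_mem a1 a2) a0]
  have o : ∀ a ∈ Cl H u, ∀ b ∈ Cl H u, b ≠ a → b ≠ y * a * y⁻¹ → b ≠ y * (y * a * y⁻¹) * y⁻¹ →
      a * (y * a * y⁻¹ * (y * (y * a * y⁻¹) * y⁻¹)) ∉ Oc {2} C[b] := fun a ha b hb n0 n1 n2 l =>
    k b hb a ha n0.symm ((mul_mem_cancel_right (s.mul h th hb (s.clV (cl_cj yH ha))
      (s.clV (cl_cj yH (cl_cj yH ha))) (k b hb _ (cl_cj yH ha) n1.symm)
      (k b hb _ (cl_cj yH (cl_cj yH ha)) n2.symm))).1 l)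
  have ay : y ∉ C[a] := fun e => af (hf a ha (mem_cent1_symm.1 e))
  have o1 := o a ha b hb bf.2.1 bf.2.2.1 bf.2.2.2
  have o2 := o b hb a ha (Ne.symm bf.2.1) (fun e => bf.2.2.2 (by rw [e, y3]))
    fun e => bf.2.2.1 (by rw [e, y3])
  have o3 := mul_mem (mem_o2 ((cl_ord ha).trans s.u2)) (s.mul h th ha (s.clV (cl_cj yH ha))
    (s.clV (cl_cj yH (cl_cj yH ha))) (k a ha _ (cl_cj yH ha) fun e =>
      ay (mem_cent1.2 (mul_inv_eq_iff_eq_mul.1 e))) (k a ha _ (cl_cj yH (cl_cj yH ha)) fun e =>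
        ay (odd_sq (piG_zpowers.1 (el13 hy).pg) (mem_cent1.2
          (mul_inv_eq_iff_eq_mul.1 (Eq.trans (by group) e))))))
  have o4 : ∀ v ∈ V, v ≠ 1 → orderOf v = 2 := fun v hv =>
    orderOf_of_pow Nat.prime_two (s.ab.2 v hv)
  exact o2 (th.eq_c (o4 _ (m a ha).1 fun e => o1 (e ▸ one_mem _)) (o4 _ (m b hb).1
    fun e => o2 (e ▸ one_mem _)) (s.cm (m a ha).1 (m b hb).1) hy (m a ha).2 (m b hb).2 ▸ o3)

theorem caseB (hY : Syl 3 Y C[u]) (y1 : Y ≠ ⊥) (lt : (Cl H u).ncard < kk u T) : False := by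
  obtain ⟨R, hR⟩ := exists_syl 3 (⊤ : Subgroup G)
  have l := s.p_le h
  obtain ⟨k1, k2, F, hF, k3⟩ := (h.star th s.u2 s.hT s.uT hY y1 hR).resolve_left (by omega)
  obtain ⟨⟨m, hm⟩, m2⟩ := s.cl h
  obtain rfl : m = 1 := by
    have : m < 3 := lt_of_mul_lt_mul_left (a := p) (by omega) (Nat.zero_le _)
    rw [hm] at m2
    interval_cases m
    · simp at m2
    · rfl
    · simp at m2
  have k4 := cl_card H u
  rw [hm, mul_one] at k4
  obtain ⟨y, ⟨yH, yu⟩, hy⟩ := exists_orderOf_eq_prime (H := H ⊓ C[u]) Nat.prime_three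
    ((Nat.prime_three.dvd_mul.1 (k4 ▸ s.d3)).resolve_right fun e =>
      h.n3 ((Nat.prime_dvd_prime_iff_eq Nat.prime_three h.pr).1 e).symm)
  have pV := abelem_pg Nat.prime_two s.ab
  have yV := zpowers_le.2 (s.n yH)
  have k5 : V ⊓ C(zpowers y) = zpowers u := le_antisymm (fun v hv => (mem_zp s.u2).2
    (or_iff_not_imp_left.2 fun v1 => th.eq_c (orderOf_of_pow Nat.prime_two (s.ab.2 v hv.1) v1) s.u2
      (s.cm hv.1 s.uV) hy (cent_zpowers y ▸ hv.2) (mem_cent1_symm.1 yu)))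
    (zpowers_le.2 ⟨s.uV, cent_zpowers y ▸ mem_cent1_symm.1 yu⟩)
  have k6 : V ≤ Oc {2} C[u] := by
    rw [← commg_sup_cent yV (cop23 pV (el13 hy).pg) (.inl (sol_zpowers y)), k5]
    exact sup_le (h.comm_le th s.u2 pV (s.VT.trans s.uT) hy yu (s.n yH))
      (zpowers_le.2 (mem_o2 s.u2))
  obtain rfl : p = 7 := by
    obtain ⟨x, hx, ho⟩ := s.ex
    obtain ⟨i, hi⟩ := pV.exists_card
    have := mod_cent Nat.prime_three (el13 hy).pg yV
    rw [k5, (el12 s.u2).card1] at this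
    exact two_pow h.pp (hi ▸ h.mod_p pV ho (s.n hx)) (hi ▸ this)
  have k7 := h.od rfl R hR
  have k8 : #Y % 4 = 1 := by
    rw [k2, Nat.mul_mod, Nat.pow_mod] at k7
    have : #Y % 4 < 4 := Nat.mod_lt _ (by decide)
    generalize #Y % 4 = j at *
    interval_cases j <;> simp_all
  have k9 : 9 ∣ #Y := by
    obtain ⟨i, hi⟩ := hY.pi.exists_card
    have := ne_bot_iff_one_lt_card.1 y1
    rw [hi] at k8 this ⊢
    refine pow_dvd_pow 3 (show 2 ≤ i from le_of_not_gt fun e => ?_)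
    interval_cases i <;> simp_all
  have b1 := burn4 (T := T) hF k3
  have b2 := fx_eq u T
  have b3 := T.card_mul_index
  rw [h.cardG hR s.hT, mul_comm] at b3
  rw [h.cardC s.u2 s.hT s.uT hY, mul_right_comm] at b2
  rw [Nat.eq_of_mul_eq_mul_right (card_pos T) b2, Nat.eq_of_mul_eq_mul_right (card_pos T) b3] at b1
  have b4 : kk u T % 4 = 1 := by
    have := Nat.mul_mod #Y (kk u T) 4
    rw [k8] at this
    omega
  have b5 : 4 ∣ ((Cl ⊤ u ∩ T) \ Oc {2} C[u]).ncard := cl_dvd (H := Oc {2} C[u])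
    (fun a ha x hx => ⟨⟨cl_cj (mem_top a) hx.1.1, mul_mem (mul_mem (s.QT ha) hx.1.2)
      (inv_mem (s.QT ha))⟩, fun e => hx.2 ((mul_mem_cancel_left ha).1
        ((mul_mem_cancel_right (inv_mem ha)).1 e))⟩)
    fun x hx => h.orb4 th s.u2 hY k9 ((cl_ord hx.1.1).trans s.u2) (s.uT hx.1.2) hx.2
  have b6 : 9 ∣ ((Cl ⊤ u ∩ Oc {2} C[u]) \ {u}).ncard := cl_dvd (H := Y)
    (fun a ha x hx => ⟨⟨cl_cj (mem_top a) hx.1.1, conj_mem_of_norm (Oc_norm _ _ (hY.le ha)) hx.1.2⟩,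
      fun e => hx.2 (by
        rw [Set.mem_singleton_iff, mul_inv_eq_iff_eq_mul, ← mem_cent1.1 (hY.le ha)] at e
        exact mul_left_cancel e)⟩) fun x hx => by
    rw [← inf_eq_left.2 hY.le, th.inv_eq' (Oc_pi {2} C[u]) (mem_o2 s.u2) hx.1.2 s.u2
      ((cl_ord hx.1.1).trans s.u2) hY.pi (Ne.symm hx.2), card_bot, mul_one, inf_eq_left.2 hY.le]
    exact k9
  have b7 := Set.ncard_inter_add_ncard_diff_eq_ncard (Cl ⊤ u ∩ T) (Oc {2} C[u])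
  rw [Set.inter_assoc, Set.inter_eq_right.2 (SetLike.coe_subset_coe.2 s.QT)] at b7
  rw [Set.ncard_sdiff_singleton_of_mem (Set.mem_inter cl_self (mem_o2 s.u2))] at b6
  have b8 : (Cl H u).ncard ≤ (Cl ⊤ u ∩ Oc {2} C[u]).ncard :=
    Set.ncard_le_ncard fun x hx => ⟨cl_top hx, k6 (s.clV hx)⟩
  unfold kk at *
  omega

end Se

theorem Hy.thin_main (h : Hy p G) (th : Thin G) : Holt G ∨ TwoCl G := by
  obtain ⟨u, T, H, V, s⟩ := h.exSe
  obtain ⟨Y, hY⟩ := exists_syl 3 C[u]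
  by_cases e : Y = ⊥
  · refine .inr ⟨u, T, s.u2, s.hT, s.uT, norms_of_le (eq_of_le_of_card_eq s.uT ?_).ge⟩
    rw [h.cardC s.u2 s.hT s.uT hY, e, card_bot, one_mul]
  exact .inl (s.caseA h th (Set.eq_of_subset_of_ncard_le s.sub
    (le_of_not_gt (s.caseB h th hY e))).ge)

end H5.KT
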