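import Cfsg.Agent.H19.Amb4
import Cfsg.Agent.H23.SzSub2
import Cfsg.Agent.H23.SzTorN
import Cfsg.Agent.H23.CjAll1
import Cfsg.Agent.H28.Gold
import Cfsg.Agent.H28.T3e

/-! # Groups determined by the orders of their maximal subgroups -/

set_option autoImplicit false

namespace H5.MX

open H19 Subgroup
open scoped Pointwise commutatorElement

variable {G : Type*} [Group G] [Finite G]

/-- a maximal subgroup not containing a solvable normal subgroup has prime power index -/
theorem idx_pp {R M : Subgroup G} (hR : R ⊴ ⊤) (hs : Sol R) (hM : IsCoatom M) (hRM : ¬ R ≤ M) :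
    IsPrimePow M.index := by
  obtain ⟨N, hNR, ⟨hN, hNM⟩, hmin⟩ := H1.exists_minimal_le
    (P := fun N : Subgroup G => N ⊴ ⊤ ∧ ¬ N ≤ M) (H := R) ⟨hR, hRM⟩
  have hsN : Sol N := sol_mono hs hNR
  have h1 : ⁅N, N⁆ ≤ M := by
    by_contra h
    exact (sol_der_lt hsN fun e => hNM (e ▸ bot_le)).ne (hmin _ ⟨hN.der, h⟩ (der_le N))
  have h2 : N ⊔ M = ⊤ := hM.2 _ (right_lt_sup.2 hNM)
  have h3 : M.index = M.relIndex N := by
    rw [← relIndex_sup_right_of_norm (hN.norms le_top), h2, relIndex_top_right]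
  obtain ⟨p, hp, hd⟩ := Nat.exists_prime_and_dvd (n := M.index) fun e => hM.1 (index_eq_one.1 e)
  obtain ⟨P, hP⟩ := exists_syl p N
  have h4 : ⊤ ≤ N(⁅N, N⁆ ⊔ P) := hP.sup_norm_of_nil_quo (der_normal N).norm
    (nil_of_ab ((ab_quo_iff (der_normal N).norm).2 le_rfl)) hN.der.norm hN.norm
  have h5 : ⁅N, N⁆ ⊔ P = N := hmin _ ⟨⟨le_top, h4⟩, fun h => hP.not_dvd_relIndex hp
    (le_sup_right.trans h) (h3 ▸ hd)⟩ (sup_le (der_le N) hP.le)
  have h6 : M.index ∣ #P := by
    rw [h3, ← inf_relIndex_right]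
    refine (relIndex_dvd_left (le_inf h1 (der_le N)) N).trans ?_
    conv_lhs => rw [← h5]
    rw [h5]
    have := relIndex_sup_of_norm (hP.le.trans (der_normal N).norm)
    rw [h5] at this
    rw [this]; exact relIndex_dvd_card _ _
  obtain ⟨k, hk⟩ := (hP.pi.dvd h6).exists_pow index_ne_zero_of_finite
  refine ⟨p, k, hp.prime, Nat.pos_of_ne_zero fun e => hM.1 (index_eq_one.1 ?_), hk.symm⟩
  rw [hk, e, pow_zero]

/-- if `G` is not a `p`-group for any prime and every maximal subgroup has order dividing `n`,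
then `|G|` divides `n` -/
theorem card_dvd {n : ℕ} (hp : ∀ p : ℕ, p.Prime → ¬ IsPGroup p G)
    (h : ∀ M : Subgroup G, IsCoatom M → Nat.card M ∣ n) : Nat.card G ∣ n := by
  refine (Nat.dvd_iff_prime_pow_dvd_dvd _ _).2 fun p k hp' hk => ?_
  haveI := Fact.mk hp'
  obtain ⟨P, hP⟩ := Sylow.exists_subgroup_card_pow_prime p hk
  have : P ≠ ⊤ := by
    rintro rfl
    exact hp p hp' (IsPGroup.of_card (by rw [← card_top, hP]))
  obtain ⟨M, hM, hPM⟩ := (eq_top_or_exists_le_coatom P).resolve_left this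
  exact hP ▸ (card_dvd_of_le hPM).trans (h M hM)

theorem simple_quo {M₀ : Subgroup G} (h0 : IsCoatom M₀) (hs : Sol M₀)
    (hpp : ∀ M : Subgroup G, IsCoatom M → ¬ IsPrimePow M.index)
    (hb : ∀ M : Subgroup G, IsCoatom M → ¬ M₀.index ∣ Nat.card M) :
    IsSimpleGroup (G ⧸ frattini G) ∧ ∃ a b : G ⧸ frattini G, a * b ≠ b * a := by
  have hΦ : frattini G ≤ M₀ := frattini_le_coatom h0
  have key : ∀ N : Subgroup G, N.Normal → ¬ N ≤ frattini G → N = ⊤ := by
    intro N hN hNΦ
    have hN' : N ⊴ ⊤ := normalIn_top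
    by_cases hNM : N ≤ M₀
    · obtain ⟨M, hM, h⟩ : ∃ M : Subgroup G, IsCoatom M ∧ ¬ N ≤ M := by
        by_contra! k
        exact hNΦ (by rw [frattini, Order.radical]; exact le_iInf₂ k)
      exact absurd (idx_pp hN' (sol_mono hs hNM) hM h) (hpp M hM)
    · by_contra hne
      obtain ⟨L, hL, hNL⟩ := (eq_top_or_exists_le_coatom N).resolve_left hne
      have h2 : N ⊔ M₀ = ⊤ := h0.2 _ (right_lt_sup.2 hNM)
      have h3 : M₀.index = M₀.relIndex N := by
        rw [← relIndex_sup_right_of_norm (hN'.norms le_top), h2, relIndex_top_right]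
      exact hb L hL (h3 ▸ (relIndex_dvd_card _ _).trans (card_dvd_of_le hNL))
  refine ⟨?_, ?_⟩
  · haveI : Nontrivial (G ⧸ frattini G) :=
      QuotientGroup.nontrivial_iff.2 fun e => h0.1 (top_le_iff.1 (e ▸ hΦ))
    refine ⟨fun K hK => ?_⟩
    by_cases h : K.comap (QuotientGroup.mk' (frattini G)) ≤ frattini G
    · left
      rw [eq_bot_iff]
      intro x hx
      obtain ⟨y, rfl⟩ := QuotientGroup.mk'_surjective _ x
      exact (QuotientGroup.eq_one_iff y).2 (h hx)
    · right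
      have := key _ (hK.comap _) h
      rw [eq_top_iff]
      intro x _
      obtain ⟨y, rfl⟩ := QuotientGroup.mk'_surjective _ x
      exact (this ▸ mem_top y : y ∈ K.comap (QuotientGroup.mk' (frattini G)))
  · by_contra! k
    haveI : Group.IsSolvable (G ⧸ frattini G) := isSolvable_of_comm k
    have : Group.IsSolvable G := H2.isSolvable_of_normal (frattini G) (sol_mono hs hΦ) inferInstance
    exact hpp M₀ h0 (idx_pp (R := ⊤) (NormalIn.refl _) inferInstance h0
      fun h => h0.1 (top_le_iff.1 h))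

section Sz
open H23 H23.Sz H23.Tits MulAction
variable {F : Type*} [Field F] [Tits F] [Finite F] {S : Type*} [Group S] [Finite S] [Model F S]

theorem cube_le {m : ℕ} (hq : Nat.card F = 2 ^ (2 * m + 1)) (F0 : Subfield F) [Big F0]
    (h : F0 ≠ ⊤) : Nat.card F0 ^ 3 ≤ Nat.card F := by
  obtain ⟨k, k1, k2, ⟨d, k3⟩, k4⟩ := subfield_card_data hq F0 h
  rw [k4, hq, ← pow_mul]
  refine Nat.pow_le_pow_right two_pos ?_
  rw [k3]
  refine Nat.mul_le_mul_left _ ?_
  rcases d with _ | _ | _ | d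
  · omega
  · omega
  · omega
  · omega

theorem ne_top_of {F0 : Subfield F} {x : S} (h : MulAut.conj x • subG S F0 ≠ ⊤) : F0 ≠ ⊤ := by
  rintro rfl; exact h (by rw [subG_top]; ext; simp [mem_conj_smul])

theorem sz_bound [Big F] {m : ℕ} (hq : Nat.card F = 2 ^ (2 * m + 1)) {K : Subgroup S} (hK : K ≠ ⊤) :
    Nat.card K ≤ Nat.card F ^ 2 * (Nat.card F - 1) := by
  have h8 := eight_le_q (F := F)
  rcases subgroup_cases F K with ⟨p, h⟩ | ⟨g, -, h1, h2, h⟩ | ⟨F0, x, h1, rfl⟩
  · obtain ⟨x, rfl⟩ := exists_smul_inf S p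
    have := card_le_of_le h
    rwa [stabilizer_smul_inf, card_smul, card_B] at this
  · obtain ⟨n, -, hn, e⟩ := card_NC (F := F) h1 h2
    have h3 := card_cent_of_odd (r_sq hq) h1 h2
    have h4 := (coprime_tori (r_sq hq)).2.2
    have h5 : Nat.card K ≤ _ := (card_le_of_le h).trans e.le
    have h6 : Nat.card (centralizer ({g} : Set S)) ≤ 2 * Nat.card F + 1 := by
      generalize 2 ^ (m + 1) = r at h3 h4
      omega
    have h7 := Nat.mul_le_mul h6 (show n ≤ 4 by omega)
    have h9 : Nat.card F ^ 2 * 7 ≤ Nat.card F ^ 2 * (Nat.card F - 1) :=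
      Nat.mul_le_mul_left _ (by omega)
    nlinarith
  · have h3 := cube_le hq F0 (ne_top_of hK)
    have h4 := eight_le_q (F := F0)
    rw [card_smul, card_subG]
    obtain ⟨s, hs⟩ : ∃ s, Nat.card F0 = s + 1 := ⟨_, (Nat.succ_pred_eq_of_pos (by omega)).symm⟩
    rw [hs] at h3 h4 ⊢
    have h9 : Nat.card F ^ 2 * 7 ≤ Nat.card F ^ 2 * (Nat.card F - 1) :=
      Nat.mul_le_mul_left _ (by omega)
    have h10 := Nat.pow_le_pow_left h3 2
    refine le_trans ?_ (le_trans (by omega : Nat.card F ^ 2 ≤ Nat.card F ^ 2 * 7) h9)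
    refine le_trans ?_ h10
    rw [Nat.add_sub_cancel]
    have : s * ((s + 1) ^ 2 + 1) ≤ (s + 1) ^ 4 := by nlinarith [Nat.zero_le (s ^ 4), Nat.zero_le (s ^ 3), Nat.zero_le (s ^ 2)]
    calc (s + 1) ^ 2 * s * ((s + 1) ^ 2 + 1) = (s + 1) ^ 2 * (s * ((s + 1) ^ 2 + 1)) := by ring
      _ ≤ (s + 1) ^ 2 * (s + 1) ^ 4 := Nat.mul_le_mul_left _ this
      _ = _ := by ring

theorem sz_coatom [Big F] {m : ℕ} (hq : Nat.card F = 2 ^ (2 * m + 1)) :
    IsCoatom (normalizer (H F S : Set S)) := by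
  have h8 := eight_le_q (F := F)
  have hb := fun (K : Subgroup S) hK => sz_bound hq (K := K) hK
  haveI := isCyclic_H (F := F) (G := S)
  obtain ⟨⟨_, k, rfl⟩, hk⟩ := IsCyclic.exists_ofOrder_eq_natCard (α := H F S)
  rw [card_H, ← orderOf_coe] at hk
  change orderOf (M k : S) = _ at hk
  have k1 : k ≠ 1 := by
    rintro rfl
    rw [map_one, orderOf_one] at hk; omega
  have kN : (M k : S) ∈ normalizer (H F S : Set S) := mem_normalizer_H.2 ⟨k, Or.inl rfl⟩
  have wN : (W F : S) ∈ normalizer (H F S : Set S) := mem_normalizer_H.2 ⟨1, Or.inr (by simp)⟩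
  have ko : Odd (orderOf (M k : S)) := hk ▸ odd_q1
  refine ⟨fun e => ?_, fun K hK => ?_⟩
  · have := card_normalizer_H (F := F) (G := S)
    rw [e, card_top, card_G F] at this
    have h1 : 0 < Nat.card F - 1 := by omega
    have h2 : Nat.card F ^ 2 * (Nat.card F ^ 2 + 1) = 2 := by
      refine Nat.eq_of_mul_eq_mul_right h1 ?_
      rw [← this]; ring
    nlinarith
  by_contra hne
  rcases subgroup_cases F K with ⟨p, h⟩ | ⟨g, -, h1, h2, h⟩ | ⟨F0, x, h1, rfl⟩
  · have e1 : (M k : S) • p = p := h (hK.le kN)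
    have e2 : (W F : S) • p = p := h (hK.le wN)
    rcases Ov.cases p with rfl | ⟨x, y, rfl⟩
    · exact pt_ne_inf _ _ (W_inf.symm.trans e2)
    · rw [M_pt, pt_inj] at e1
      have hx : x = 0 := by
        by_contra hx
        exact k1 (dl_eq_one (mul_right_cancel₀ hx (e1.1.trans (one_mul _).symm)))
      have hy : y = 0 := by
        by_contra hy
        have := mul_right_cancel₀ hy (e1.2.trans (one_mul _).symm)
        exact k1 (Units.ext ((θ : F →+* F).injective (this.trans (map_one _).symm)))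
      subst hx hy
      exact inf_ne_pt _ _ (W_zero.symm.trans e2)
  · have e1 := mem_cent_of_odd F h1 h2 (h (hK.le kN)) ko
    have e2 := cent_eq_of_odd F h1 h2 e1 (M_eq_one.not.2 k1)
    have e3 := cent_eq_of_conj_M (g := (M k : S)) (x := 1) k1 (by simp)
    rw [← e2, e3, map_one, one_smul] at h
    exact hK.not_ge h
  · have h3 := cube_le hq F0 (ne_top_of hne)
    have h4 := eight_le_q (F := F0)
    have e1 := mem_conj_smul.1 (hK.le kN)
    letI := subGModel (G := S) F0
    have e2 := orderOf_cases F0 (⟨_, e1⟩ : subG S F0)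
    have e3 : orderOf (x⁻¹ * M k * x) = Nat.card F - 1 := by
      rw [← hk]
      simpa using (MulAut.conj x⁻¹).orderOf_eq (M k)
    rw [← orderOf_coe, e3] at e2
    have e4 : Nat.card F0 ^ 2 * 8 ≤ Nat.card F0 ^ 3 := by
      rw [pow_succ _ 2]; exact Nat.mul_le_mul_left _ h4
    have e5 : Nat.card F0 * 8 ≤ Nat.card F0 ^ 2 := by
      rw [sq]; exact Nat.mul_le_mul_left _ h4
    rcases e2 with e | e | e <;> have := Nat.le_of_dvd (by omega) e <;> omega

theorem sz_not_pp [Big F] {m : ℕ} (hq : Nat.card F = 2 ^ (2 * m + 1)) {i k : ℕ}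
    (e : k * i = Nat.card F ^ 2 * (Nat.card F - 1) * (Nat.card F ^ 2 + 1))
    (hk : k ≤ Nat.card F ^ 2 * (Nat.card F - 1)) : ¬ IsPrimePow i := by
  have h8 := eight_le_q (F := F)
  intro hi
  obtain ⟨c1, c2, c3⟩ := coprime_tori (r_sq hq)
  have hi' : Nat.card F ^ 2 + 1 ≤ i := by
    by_contra! h
    have h1 : 0 < Nat.card F ^ 2 * (Nat.card F - 1) := Nat.mul_pos (by positivity) (by omega)
    have := Nat.mul_lt_mul_of_le_of_lt hk h h1
    omega
  have hd : i ∣ _ := ⟨k, e.symm.trans (mul_comm _ _)⟩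
  rcases (Nat.Coprime.isPrimePow_dvd_mul coprime_B_q2 hi).1 hd with h | h
  · rcases (Nat.Coprime.isPrimePow_dvd_mul (coprime_q_q1.pow_left 2) hi).1 h with h | h
    · have := Nat.le_of_dvd (by positivity) h; omega
    · have := Nat.le_of_dvd (by omega) h; nlinarith [Nat.sub_le (Nat.card F) 1]
  · rw [← c2] at h
    generalize 2 ^ (m + 1) = r at *
    rcases (Nat.Coprime.isPrimePow_dvd_mul c1 hi).1 h with h | h
    · have := Nat.le_of_dvd (by omega) h; nlinarith
    · have := Nat.le_of_dvd (by omega) h; nlinarith [Nat.sub_le (Nat.card F) r]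

theorem main [Big F] {m : ℕ} (hq : Nat.card F = 2 ^ (2 * m + 1))
    (h : {k : ℕ | ∃ M : Subgroup G, IsCoatom M ∧ k = Nat.card ↥M} =
      {k : ℕ | ∃ M : Subgroup S, IsCoatom M ∧ k = Nat.card ↥M}) : Nonempty (G ≃* S) := by
  have h8 := eight_le_q (F := F)
  have h1 : ∀ M : Subgroup G, IsCoatom M → ∃ L : Subgroup S, IsCoatom L ∧ Nat.card M = Nat.card L :=
    fun M hM => h.le ⟨M, hM, rfl⟩
  have h2 : ∀ L : Subgroup S, IsCoatom L → ∃ M : Subgroup G, IsCoatom M ∧ Nat.card L = Nat.card M :=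
    fun M hM => h.ge ⟨M, hM, rfl⟩
  obtain ⟨M₀, h0, c0⟩ := h2 _ (sz_coatom hq)
  rw [card_normalizer_H] at c0
  have ho := odd_q1 (F := F)
  have d1 : Nat.card G ∣ Nat.card S := by
    refine card_dvd (fun p hp hG => ?_) fun M hM => ?_
    · haveI := Fact.mk hp
      obtain ⟨n, hn⟩ := (hG.to_subgroup M₀).exists_card_eq
      rw [← c0] at hn
      have e1 := (Nat.prime_dvd_prime_iff_eq Nat.prime_two hp).1
        (Nat.prime_two.dvd_of_dvd_pow ⟨_, hn.symm⟩)
      subst e1
      have := (Nat.Coprime.pow_right n (Nat.coprime_two_right.2 ho)).eq_one_of_dvd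
        ⟨2, hn.symm.trans (mul_comm _ _)⟩
      omega
    · obtain ⟨L, -, e⟩ := h1 M hM
      exact e ▸ card_subgroup_dvd_card L
  have d2 : Nat.card S ∣ Nat.card G := by
    refine card_dvd (fun p hp hG => ?_) fun L hL => ?_
    · haveI := Fact.mk hp
      haveI := hG.isNilpotent
      exact not_isSolvable F S inferInstance
    · obtain ⟨M, -, e⟩ := h2 L hL
      exact e ▸ card_subgroup_dvd_card M
  have cG := (Nat.dvd_antisymm d1 d2).trans (card_G F S)
  have hb : ∀ M : Subgroup G, IsCoatom M → Nat.card M ≤ Nat.card F ^ 2 * (Nat.card F - 1) := by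
    intro M hM
    obtain ⟨L, hL, e⟩ := h1 M hM
    exact e ▸ sz_bound hq hL.1
  have hs : Sol M₀ := H23.isSolvable_of_not_four_dvd (by rw [← c0]; have := Nat.odd_iff.1 ho; omega)
  obtain ⟨k1, k2⟩ := simple_quo h0 hs
    (fun M hM => sz_not_pp hq ((card_mul_index M).trans cG) (hb M hM)) (fun M hM hd => by
      have e1 := (Nat.le_of_dvd Nat.card_pos hd).trans (hb M hM)
      have e2 := (card_mul_index M₀).trans cG
      rw [← c0] at e2
      have e3 : 2 * M₀.index = Nat.card F ^ 2 * (Nat.card F ^ 2 + 1) := by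
        refine Nat.eq_of_mul_eq_mul_right (show 0 < Nat.card F - 1 by omega) ?_
        rw [mul_right_comm, e2]; ring
      have e4 : Nat.card F ^ 2 * (2 * (Nat.card F - 1)) < Nat.card F ^ 2 * (Nat.card F ^ 2 + 1) :=
        Nat.mul_lt_mul_of_pos_left (by nlinarith [Nat.sub_le (Nat.card F) 1]) (by positivity)
      nlinarith)
  have h3 : ¬ 3 ∣ Nat.card (G ⧸ frattini G) := fun k => not_three_dvd_card F S
    ((k.trans (card_quotient_dvd_card _)).trans d1)
  obtain ⟨K, _, _, n, n1, hK, ⟨e⟩⟩ := H28.K.s0336 k2 h3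
  letI := titsOfCard hK
  letI := (lieModel hK).ofEquiv e
  have cK : Nat.card K = 2 ^ (2 * n + 1) := Nat.card_eq_fintype_card.trans hK
  have c1 := card_G K (G ⧸ frattini G)
  have c2 := card_eq_card_quotient_mul_card_subgroup (frattini G)
  have c3 : Nat.card (frattini G) ∣ 2 * (Nat.card F - 1) := c0 ▸ card_dvd_of_le (frattini_le_coatom h0)
  have hmn : n = m := by
    have o1 := (odd_q1 (F := K)).mul (odd_q2 (F := K))
    have o2 := ho.mul (odd_q2 (F := F))
    rw [cG, c1, mul_assoc, mul_assoc (Nat.card K ^ 2), mul_assoc] at c2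
    generalize (Nat.card K - 1) * (Nat.card K ^ 2 + 1) = a at o1 c2
    generalize (Nat.card F - 1) * (Nat.card F ^ 2 + 1) = b at o2 c2
    rw [hq, cK, ← pow_mul, ← pow_mul] at c2
    have v := congrArg (padicValNat 2) c2
    have z1 : a ≠ 0 := o1.pos.ne'
    have z2 : b ≠ 0 := o2.pos.ne'
    have z3 : Nat.card (frattini G) ≠ 0 := Nat.card_pos.ne'
    rw [padicValNat.mul (by positivity) z2, padicValNat.mul (by positivity) (by positivity),
      padicValNat.mul z1 z3, padicValNat.prime_pow, padicValNat.prime_pow,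
      padicValNat.eq_zero_of_not_dvd o1.not_two_dvd_nat,
      padicValNat.eq_zero_of_not_dvd o2.not_two_dvd_nat] at v
    have v2 : padicValNat 2 (Nat.card (frattini G)) ≤ 1 := by
      by_contra! k
      have := ((padicValNat_dvd_iff_le z3).2 (show 2 ≤ _ from k)).trans c3
      have := Nat.odd_iff.1 ho
      omega
    omega
  subst hmn
  have cKF : Nat.card (⊤ : Subfield F) = Nat.card K := by
    rw [cK, ← hq]; exact Nat.card_congr Subfield.topEquiv.toEquiv
  obtain ⟨e1⟩ := nonempty_equiv_subG (G := S) (G ⧸ frattini G) cKF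
  rw [subG_top] at e1
  have c4 : frattini G = ⊥ := by
    rw [c1, cG, cK, hq] at c2
    refine card_eq_one.1 (Nat.eq_of_mul_eq_mul_left ?_ (c2.symm.trans (mul_one _).symm))
    rw [← hq, ← cG]; exact Nat.card_pos
  exact ⟨(QuotientGroup.quotientBot.symm.trans (QuotientGroup.quotientMulEquivOfEq c4.symm)).trans
    (e1.symm.trans topEquiv)⟩

end Sz

end H5.MX
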