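import Cfsg.Agent.H5.SQ1
import Cfsg.Agent.H25.C2S4

/-! # Groups with element orders at most six: extensions -/

set_option autoImplicit false
set_option linter.unusedSectionVars false

open Cfsg
namespace H5.O6

open H19 Subgroup H5 H5.FP H2.GW
open scoped Pointwise commutatorElement

universe u

/-- element orders are at most six -/
def O (G : Type*) [Group G] : Prop := ∀ n, Ord G n → n ≤ 6

variable {G : Type u} [Group G] [Finite G] {R : Type*} [Group R] [Finite R] {f : G →* R}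
  {n p : ℕ} {K N P Q X : Subgroup G} {s t x y : G}

theorem inv_ne (o : orderOf x = p) (l : 2 < p) : x⁻¹ ≠ x := fun e =>
  absurd (Nat.le_of_dvd two_pos (o ▸ orderOf_dvd_of_pow_eq_one
    ((pow_two x).trans (mul_eq_one_iff_inv_eq.2 e)))) l.not_ge

namespace O
variable (h : O G)
include h

theorem quo (hf : Function.Surjective f) : O R := fun _ o => h _ (o.of_surj hf)

theorem sub (L : Subgroup G) : O L := fun _ o => h _ o.sub

theorem le (x : G) : orderOf x ≤ 6 := h _ ⟨x, rfl⟩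

theorem no (l : 6 < n) : ¬ Ord G n := fun o => (h n o).not_gt l

theorem four (hx : PiE {2} x) : x ^ 4 = 1 := by
  obtain ⟨k, e⟩ := hx.exists_pow (orderOf_pos x).ne'
  have l : k < 3 := (Nat.pow_lt_pow_iff_right one_lt_two).1 (by have := h.le x; omega)
  exact orderOf_dvd_iff_pow_eq_one.1 (e ▸ pow_dvd_pow 2 (show k ≤ 2 by omega))

theorem odd (hx : PiE {p} x) (p2 : p ≠ 2) (x1 : x ≠ 1) : orderOf x = p := by
  obtain ⟨k, e⟩ := hx.exists_pow (orderOf_pos x).ne'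
  have := (hx.dvd_of_ne_one (mt orderOf_eq_one_iff.1 x1)).1.two_le
  rcases k with _ | _ | k
  · exact absurd (orderOf_eq_one_iff.1 e) x1
  · simpa using e
  · exact absurd (Ord.of_dvd ⟨x, e⟩ ⟨p ^ k, by ring⟩) (h.no (n := p * p) (by
      have : 3 ≤ p := by omega
      nlinarith))

theorem el2 {H : Subgroup G} (hp : p.Prime) (p2 : p ≠ 2) (d : p ^ 2 ∣ #H) : ∃ E, El p 2 E H := by
  obtain ⟨P, hP⟩ := exists_syl p H
  obtain ⟨E, l, c⟩ := hP.pi.exists_card_pow hp (Nat.le_of_dvd (card_pos P) (hP.dvd (.prime_pow hp 2) d))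
  refine ⟨E, hp, l.trans hP.le, ⟨ab_of_card_sq hp c.dvd, fun x hx => ?_⟩, c⟩
  by_cases x1 : x = 1
  · rw [x1, one_pow]
  · rw [← h.odd (hP.pi.elt (l hx)) p2 x1, pow_orderOf_eq_one]

theorem prime (hp : p.Prime) (d : p ∣ Nat.card G) : p = 2 ∨ p = 3 ∨ p = 5 := by
  have := h _ ((ord_prime hp).2 d)
  have := hp.two_le
  have : p ≠ 4 := by rintro rfl; norm_num at hp
  have : p ≠ 6 := by rintro rfl; norm_num at hp
  omega

theorem five (d : 5 ∣ orderOf x) : orderOf x = 5 := by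
  have := h.le x
  have := orderOf_pos x
  omega

theorem c5 (o : orderOf x = 5) (c : y * x = x * y) : y ^ 5 = 1 := by
  by_contra e
  rw [← orderOf_dvd_iff_pow_eq_one] at e
  have := h _ (ord_mul rfl o c ((Nat.Prime.coprime_iff_not_dvd (by norm_num)).2 fun d =>
    e (h.five d).dvd).symm)
  exact e ((show orderOf y = 1 by have := orderOf_pos y; omega) ▸ one_dvd 5)

theorem c3 (o : orderOf x = 3) (c : y * x = x * y) (hy : PiE {2} y) : y * y = 1 := by
  rcases (Nat.dvd_prime_pow Nat.prime_two (m := 2)).1 (orderOf_dvd_of_pow_eq_one (h.four hy)) with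
    ⟨_ | _ | k, l, e⟩
  · simp [orderOf_eq_one_iff.1 e]
  · exact mul_self_of_two e
  · obtain rfl : k = 0 := by omega
    exact absurd (ord_mul e o c (by decide)) (h.no (by decide))

theorem eq1 (o : orderOf x = 5) (c : y * x = x * y) (hy : PiE {5}ᶜ y) : y = 1 :=
  PiN.e_eq_one ((PiN.prime_pow (by norm_num) 1).dvd (orderOf_dvd_of_pow_eq_one (h.c5 o c))) hy

theorem fix5 (hK : PiG {5}ᶜ K) (o : orderOf x = 5) : K ⊓ C[x] = ⊥ :=
  eq_bot_iff.2 fun _ hy => h.eq1 o (mem_cent1.1 hy.2) (hK.elt hy.1)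

theorem fd5 (hK : PiG {5}ᶜ K) (o : orderOf x = 5) (n : x ∈ N(K)) : FD K x :=
  ⟨n, fun i i0 i1 => h.fix5 hK (by
    rw [Nat.Coprime.orderOf_pow (o ▸ Nat.coprime_of_lt_prime i0.ne' (o ▸ i1) (by norm_num)), o])⟩

theorem fd5' (hK : PG 5 K) (o : PiE {5}ᶜ x) (n : x ∈ N(K)) : FD K x :=
  ⟨n, fun i i0 i1 => eq_bot_iff.2 fun y hy => by_contra fun e => pow_ne_one_of_lt_orderOf i0.ne' i1
    (h.eq1 (h.odd (hK.elt hy.1) (by decide) e) (mem_cent1.1 hy.2).symm (o.e_pow i))⟩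

theorem mod5 (hK : PiG {5}ᶜ K) (o : orderOf x = 5) (n : x ∈ N(K)) : #K % 5 = 1 := by
  haveI : Fact (Nat.Prime 5) := ⟨by norm_num⟩
  have := H1.card_modEq_card_inf_centralizer (abelem_pg (by norm_num) (abelem_zpowers
    (o ▸ pow_orderOf_eq_one x))).isPGroup (zpowers_le.2 n)
  rwa [cent_zpowers, h.fix5 hK o, card_bot] at this

theorem inv2 (o : orderOf x = 5) (e : t * x * t⁻¹ = x⁻¹) : t * t = 1 := by
  have c : t * t * x = x * (t * t) := by
    calc _ = t * (t * x * t⁻¹) * t := by group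
      _ = (t * x * t⁻¹)⁻¹ * (t * t) := by nth_rw 1 [e]; group
      _ = _ := by rw [e, inv_inv]
  refine h.eq1 o c (PiN.of_not_dvd fun d => inv_ne o (by decide) ?_)
  have o' : orderOf t = 5 := h.five (d.trans (by rw [← pow_two]; exact orderOf_pow_dvd 2))
  have : t = (t * t) ^ 3 := by
    rw [← pow_two, ← pow_mul, pow_succ', ← o', pow_orderOf_eq_one, mul_one]
  rw [← e, mul_inv_eq_iff_eq_mul, this]
  exact (Commute.pow_left c 3).eq

theorem surj (hK : PiG {5}ᶜ K) (o : orderOf x = 5) (n : x ∈ N(K)) (hy : y ∈ K) :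
    ∃ q ∈ K, q⁻¹ * (x * q * x⁻¹) = y := by
  obtain ⟨⟨q, hq⟩, k⟩ := Finite.surjective_of_injective (f := fun q : K =>
      (⟨_, mul_mem (inv_mem q.2) (conj_mem_of_norm n q.2)⟩ : K)) (fun a b k => Subtype.ext (mul_inv_eq_one.1
    (h.eq1 o (mul_inv_eq_iff_eq_mul.1 (by
      calc _ = a.1 * (a.1⁻¹ * (x * a * x⁻¹)) * (x * b.1⁻¹ * x⁻¹) := by group
        _ = _ := by rw [show a.1⁻¹ * (x * a * x⁻¹) = _ from congrArg Subtype.val k]; group)).symm
      (hK.elt (mul_mem a.2 (inv_mem b.2)))))) ⟨y, hy⟩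
  exact ⟨q, hq, congrArg Subtype.val k⟩

theorem o2 (o : orderOf x = 5) : orderOf (x * x) = 5 := by
  rw [← pow_two, Nat.Coprime.orderOf_pow (o ▸ by decide), o]

/-- a `2`-group normalized by a dihedral group of order ten is elementary abelian -/
theorem lemE [Q.Normal] (hQ : PG 2 Q) (o : orderOf x = 5) (e : t * x * t⁻¹ = x⁻¹) : Abelem 2 Q := by
  induction c : #Q using Nat.strong_induction_on generalizing G with | _ n ih => ?_
  by_cases Q1 : Q = ⊥
  · exact Q1 ▸ abelem_bot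
  have t2 := h.inv2 o e
  have m : ∀ g {q}, q ∈ Q → MulAut.conj g q ∈ Q := fun g _ a => Normal.conj_mem ‹_› _ a g
  obtain ⟨N, N1, hN, l, nN⟩ : ∃ N : Subgroup G, N ≠ ⊥ ∧ Abelem 2 N ∧ N ≤ Z(Q) ∧ N.Normal :=
    ⟨_, hQ.Ohm1_center_ne_bot Q1, abelem_Ohm1_center 2 Q, Ohm1_le 2 _, normalizer_eq_top_iff.1
      (top_le_iff.1 ((normalizer_eq_top Q).ge.trans (norm_le_norm_Ohm1_center 2 Q)))⟩
  obtain ⟨π, kπ, hπ⟩ : ∃ π : G →* G ⧸ N, (∀ {a b}, π a = π b → a * b⁻¹ ∈ N) ∧ Abelem 2 (Q.map π) := by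
    have hf := QuotientGroup.mk'_surjective N
    haveI := Normal.map ‹Q.Normal› _ hf
    refine ⟨QuotientGroup.mk' N, fun {a b} k => (QuotientGroup.eq_one_iff _).1 ?_, ih _ ?_ (h.quo hf)
      (hQ.dvd (card_map_dvd _ _)) (x := QuotientGroup.mk' N x) (t := QuotientGroup.mk' N t) ?_
      (by rw [← map_inv, ← map_inv, ← map_mul, ← map_mul, e]) rfl⟩
    · exact (map_mul (QuotientGroup.mk' N) a b⁻¹).trans (by rw [k, map_inv, mul_inv_cancel])
    · rw [← c, ← relIndex_ker, QuotientGroup.ker_mk', ← card_mul_relIndex (l.trans inf_le_left)]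
      exact lt_mul_left (relIndex_pos _ _) (ne_bot_iff_one_lt_card.1 N1)
    · refine orderOf_eq_prime (hp := ⟨by norm_num⟩) (by rw [← map_pow, ← o, pow_orderOf_eq_one, map_one])
        fun k => absurd (hQ.elt (l ((QuotientGroup.eq_one_iff _).1 k)).1 5 (by norm_num) o.symm.dvd) (by simp)
  have cm : ∀ {a b}, a ∈ Q → b ∈ Q → π a * π b = π b * π a := fun a b =>
    mul_comm_of_comm hπ.1 (mem_map_of_mem π a) (mem_map_of_mem π b)
  have sw : ∀ {a b c d}, b ∈ Q → c ∈ Q → π a * π b * (π c * π d) = π a * π c * (π b * π d) := fun a b => by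
    rw [mul_assoc, ← mul_assoc (π _) (π _) (π _), cm a b, mul_assoc, mul_assoc]
  have sq : ∀ {a}, a ∈ Q → π a * π a = 1 := fun a => (pow_two _).symm.trans (hπ.2 _ (mem_map_of_mem π a))
  have cz : ∀ {a b}, a ∈ N → b ∈ Q → b * a = a * b := fun a b => mem_cent.1 (l a).2 _ b
  have n2 : ∀ {a}, a ∈ N → a * a = 1 := fun a => (pow_two _).symm.trans (hN.2 _ a)
  let U : G → Prop := fun u => u ∈ Q ∧ ∃ q ∈ Q, π u = π q * π (MulAut.conj t q)
  have u2 : ∀ {u}, U u → u * u = 1 := by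
    rintro u ⟨-, q, hq, k⟩
    have a : PG 2 (Q ⊔ zpowers t : Subgroup G) := hQ.sup (abelem_pg Nat.prime_two (abelem_zpowers
      ((pow_two t).trans t2))) le_normalizer_of_normal
    have b := h.four (a.elt (mul_mem (mem_sup_left hq) (mem_sup_right (mem_zpowers t))))
    obtain ⟨z, hz, rfl⟩ : ∃ z ∈ N, u = z * (q * MulAut.conj t q) :=
      ⟨_, kπ (k.trans (map_mul π _ _).symm), by group⟩
    rw [mul_assoc, ← mul_assoc _ z, cz hz (mul_mem hq (m t hq)), mul_assoc z, ← mul_assoc z, n2 hz, one_mul,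
      MulAut.conj_apply, inv_eq_of_mul_eq_one_right t2, ← b]
    simp only [pow_succ, pow_zero, one_mul, mul_assoc]
  have uc : ∀ {u v}, U u → U v → u * v = v * u := fun {u v} a b => by
    obtain ⟨⟨hu, q, hq, k⟩, hv, r, hr, k'⟩ := And.intro a b
    rw [← inv_eq_of_mul_eq_one_right (u2 (u := u * v) ⟨mul_mem hu hv, q * r, mul_mem hq hr, by
      simp only [map_mul, k, k', sw (m t hq) hr]⟩), mul_inv_rev, inv_eq_of_mul_eq_one_right (u2 a),
      inv_eq_of_mul_eq_one_right (u2 b)]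
  have e1 : ∀ q, MulAut.conj t (MulAut.conj x q) = MulAut.conj x⁻¹ (MulAut.conj t q) := fun q => by
    rw [← e]; simp only [MulAut.conj_apply]; group
  have e2 : ∀ q, MulAut.conj t (MulAut.conj x⁻¹ q) = MulAut.conj x (MulAut.conj t q) := fun q => by
    conv_rhs => rw [← inv_inv x, ← e]
    simp only [MulAut.conj_apply]; group
  have kc : ∀ g {u q r}, π u = π q * π r → π (MulAut.conj g u) = π (MulAut.conj g q) * π (MulAut.conj g r) :=
    fun g _ _ _ k => by simp only [MulAut.conj_apply, map_mul, map_inv, k]; group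
  have ub : ∀ {u v}, U u → U v → ⁅u, MulAut.conj x v⁆ ∈ N ∧
      MulAut.conj x ⁅u, MulAut.conj x v⁆ = ⁅v, MulAut.conj x u⁆ := fun {u v} a b => by
    obtain ⟨hv, q, hq, k⟩ := id b
    have k1 : ∀ {c d}, c ∈ Q → d ∈ Q → ⁅c, d⁆ ∈ N := fun c d => by
      simpa only [commutatorElement_def, mul_inv_rev, mul_assoc] using
        kπ ((map_mul π _ _).trans ((cm c d).trans (map_mul π _ _).symm))
    have k2 := uc a (v := MulAut.conj x v * MulAut.conj x⁻¹ v) ⟨mul_mem (m x hv) (m _ hv), _,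
      mul_mem (m x hq) (m x⁻¹ hq), by
        simp only [map_mul, kc _ k, e1, e2, sw (m x (m t hq)) (m x⁻¹ hq), cm (m x (m t hq)) (m x⁻¹ (m t hq))]⟩
    have k3 := k1 a.1 (m x hv)
    have k4 := k1 a.1 (m x⁻¹ hv)
    refine ⟨k3, ?_⟩
    have k5 : ⁅u, MulAut.conj x v⁆ * ⁅u, MulAut.conj x⁻¹ v⁆ = 1 := by
      have := cz k4 (m x hv)
      generalize MulAut.conj x v = c at *
      generalize MulAut.conj x⁻¹ v = d at *
      calc _ = u * c * u⁻¹ * (c⁻¹ * (⁅u, d⁆ * c)) * c⁻¹ := by rw [commutatorElement_def u c]; group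
        _ = u * (c * d) * u⁻¹ * (c * d)⁻¹ := by rw [← this, commutatorElement_def]; group
        _ = 1 := by rw [k2]; group
    rw [mul_eq_one_iff_eq_inv.1 k5, commutatorElement_inv, map_commutatorElement, ← MulAut.mul_apply,
      ← map_mul, mul_inv_cancel, map_one, MulAut.one_apply]
  have o2 := h.o2 o
  have fx : ∀ {q}, q ∈ Q → x * x * q * (x * x)⁻¹ = q → q = 1 := fun a b =>
    h.eq1 o2 (mul_inv_eq_iff_eq_mul.1 b).symm ((hQ.sing_ne (by decide)).elt a)
  have uv : ∀ {u v}, U u → U v → u * MulAut.conj x v = MulAut.conj x v * u := fun a b =>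
    commutatorElement_eq_one_iff_mul_comm.1 (fx (l (ub a b).1).1 (by
      rw [← MulAut.conj_apply, map_mul, MulAut.mul_apply, (ub a b).2, (ub b a).2]))
  refine abelem_of_sq fun w hw => ?_
  obtain ⟨q, hq, k⟩ := h.surj (hQ.sing_ne (by decide)) o2 (le_normalizer_of_normal (mem_top _)) hw
  have a : U (q * MulAut.conj t q) := ⟨mul_mem hq (m t hq), q, hq, map_mul ..⟩
  have b : U (MulAut.conj x⁻¹ ((q * MulAut.conj t q)⁻¹ * w)) := by
    refine ⟨m _ (mul_mem (inv_mem a.1) hw), _, m x hq, ?_⟩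
    obtain rfl : q⁻¹ * MulAut.conj (x * x) q = w := k
    have i : ∀ {a}, a ∈ Q → (π a)⁻¹ = π a := fun a => inv_eq_of_mul_eq_one_right (sq a)
    rw [kc x⁻¹ (q := MulAut.conj t q) (r := MulAut.conj (x * x) q) (by
      simp only [map_mul π, map_inv, mul_inv_rev, i hq, i (m t hq), mul_assoc]
      rw [← mul_assoc (π q), sq hq, one_mul]), show MulAut.conj x⁻¹ (MulAut.conj (x * x) q) = MulAut.conj x q by
        simp only [MulAut.conj_apply]; group, e1, cm (m _ (m t hq)) (m x hq)]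
  have k1 := uv a b
  have k2 := congrArg (MulAut.conj x) (u2 b)
  rw [map_mul, map_one] at k2
  simp only [← MulAut.mul_apply, ← map_mul MulAut.conj, mul_inv_cancel, map_one, MulAut.one_apply] at k1 k2
  have k3 := u2 a
  generalize q * MulAut.conj t q = u at *
  calc w * w = u * (u⁻¹ * w * u) * (u⁻¹ * w) := by group
    _ = 1 := by rw [← k1, ← mul_assoc u u, k3, one_mul, k2]

theorem cases (o : orderOf x = 5) (n : s ∈ N(zpowers x)) :
    s * x * s⁻¹ = x ∨ s * x * s⁻¹ = x⁻¹ ∨ s * x * s⁻¹ = x ^ 2 ∨ s * x * s⁻¹ = (x ^ 2)⁻¹ := by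
  classical
  obtain ⟨k, hk, e⟩ := Finset.mem_image.1 (mem_zpowers_iff_mem_range_orderOf.1
    (conj_mem_of_norm n (mem_zpowers x)))
  have e5 : x ^ 5 = 1 := o ▸ pow_orderOf_eq_one x
  rw [o, Finset.mem_range] at hk
  rw [← e]
  interval_cases k
  · have := orderOf_conj' s x
    simp [← e, o] at this
  · simp
  · simp
  · exact .inr (.inr (.inr (eq_inv_of_mul_eq_one_left (by rw [← pow_add, e5]))))
  · exact .inr (.inl (eq_inv_of_mul_eq_one_left (by rw [← pow_succ, e5])))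

/-- lifting a dihedral group of order ten -/
theorem lift (hf : Function.Surjective f) (hk : PG 2 f.ker) {a b : R} (o : orderOf a = 5)
    (e : b * a * b⁻¹ = a⁻¹) : ∃ x t, orderOf x = 5 ∧ t * x * t⁻¹ = x⁻¹ ∧ f x = a ∧ f t = b := by
  haveI : Fact (Nat.Prime 5) := ⟨by norm_num⟩
  obtain ⟨x, rfl⟩ := hf a
  have ox := h.five (o ▸ orderOf_map_dvd f x)
  have hP : PG 5 (zpowers x) := .of_card (by norm_num) (by rw [Nat.card_zpowers, ox])
  obtain ⟨t, ht, rfl⟩ : b ∈ N(zpowers x).map f := by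
    rw [H1.map_normalizer_of_coprime hf hP.isPGroup ((hk.sing_ne (by decide)).coprime_prime Fact.out),
      MonoidHom.map_zpowers, mem_norm_iff_cj, cj_zpowers, e, zpowers_inv]
  refine ⟨x, t, ox, mul_inv_eq_one.1 (mem_bot.1 ((hk.inf_eq_bot (hP.sing_ne (by decide))).le ⟨?_, ?_⟩)),
    rfl, rfl⟩
  · simp [e]
  · exact (zpowers x).mul_mem (conj_mem_of_norm ht (mem_zpowers x)) (inv_mem (inv_mem (mem_zpowers x)))

end O

/-- `A₅` or `A₆` -/
def Ty (S : Type*) [Group S] : Prop :=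
  Nonempty (S ≃* alternatingGroup (Fin 5)) ∨ Nonempty (S ≃* alternatingGroup (Fin 6))

theorem card_alt {S : Type*} [Group S] (e : S ≃* alternatingGroup (Fin (n + 2))) :
    2 * Nat.card S = (n + 2).factorial := by
  rw [Nat.card_congr e.toEquiv, two_mul_nat_card_alternatingGroup, Nat.card_perm, Nat.card_fin]

/-- the relations used in `A₅` and `A₆` -/
def Rel {S : Type*} [Group S] (x a u : S) : Prop :=
  x ^ 5 = 1 ∧ x ≠ 1 ∧ a * x * a⁻¹ = x⁻¹ ∧ a ^ 2 = 1 ∧ a ≠ 1 ∧ u ^ 3 = 1 ∧ u * a * u⁻¹ ≠ a ∧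
    a * (u * a * u⁻¹) = u * a * u⁻¹ * a ∧ u * (u * a * u⁻¹) * u⁻¹ = a * (u * a * u⁻¹)

theorem Rel.map {S T : Type*} [Group S] [Group T] {x a u : S} (h : Rel x a u) {f : S →* T}
    (hf : Function.Injective f) : Rel (f x) (f a) (f u) := by
  simpa only [Rel, ← map_pow, ← map_inv, ← map_mul, ← map_one f, hf.eq_iff, hf.ne_iff] using h

open Equiv.Perm in
theorem rel5 : ∃ x a u : alternatingGroup (Fin 5), Rel x a u :=
  ⟨⟨c[4, 2, 0, 1, 3], mem_alternatingGroup.2 (by decide)⟩,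
    ⟨c[0, 1] * c[2, 3], mem_alternatingGroup.2 (by decide)⟩, ⟨c[0, 1, 2], mem_alternatingGroup.2 (by decide)⟩,
    by unfold Rel; decide +kernel⟩

open Equiv.Perm in
theorem rel6 : ∃ x a u : alternatingGroup (Fin 6), Rel x a u :=
  ⟨⟨c[4, 2, 0, 1, 3], mem_alternatingGroup.2 (by decide)⟩,
    ⟨c[0, 1] * c[2, 3], mem_alternatingGroup.2 (by decide)⟩, ⟨c[0, 1, 2], mem_alternatingGroup.2 (by decide)⟩,
    by unfold Rel; decide +kernel⟩

open Equiv.Perm in
theorem rel9 : ∃ a s : alternatingGroup (Fin 6), a ^ 3 = 1 ∧ a ≠ 1 ∧ s ^ 4 = 1 ∧ s ^ 2 ≠ 1 ∧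
    a * (s * a * s⁻¹) = s * a * s⁻¹ * a ∧ s ^ 2 * a * (s ^ 2)⁻¹ = a⁻¹ :=
  ⟨⟨c[0, 1, 2], mem_alternatingGroup.2 (by decide)⟩, ⟨c[0, 3, 1, 4] * c[2, 5], mem_alternatingGroup.2 (by decide)⟩,
    by decide +kernel⟩

theorem four_of (h4 : s ^ 4 = 1) (h2 : s ^ 2 ≠ 1) : orderOf s = 4 :=
  orderOf_eq_prime_pow (p := 2) (n := 1) h2 h4

variable {L : Subgroup R}

theorem fr9 (e : L ≃* alternatingGroup (Fin 6)) :
    ∃ K ≤ L, ∃ s ∈ L, K ≠ ⊥ ∧ PG 3 K ∧ orderOf s = 4 ∧ FD K s := by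
  obtain ⟨a, ha, s, hs, a3, a1, s4, s2, c, i⟩ : ∃ a ∈ L, ∃ s ∈ L, a ^ 3 = 1 ∧ a ≠ 1 ∧ s ^ 4 = 1 ∧ s ^ 2 ≠ 1 ∧
      a * (s * a * s⁻¹) = s * a * s⁻¹ * a ∧ s ^ 2 * a * (s ^ 2)⁻¹ = a⁻¹ := by
    obtain ⟨a, s, k⟩ := rel9
    have hf := L.subtype_injective.comp e.symm.injective
    refine ⟨_, (e.symm a).2, _, (e.symm s).2, ?_⟩
    simpa only [← coe_pow, ← coe_inv, ← coe_mul, ← map_pow, ← map_inv, ← map_mul, ne_eq, OneMemClass.coe_eq_one,
      Subtype.coe_inj, map_eq_one_iff _ e.symm.injective, e.symm.injective.eq_iff] using k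
  have b3 : (s * a * s⁻¹) ^ 3 = 1 := by rw [conj_pow, a3, mul_one, mul_inv_cancel]
  have hK := abelem_sup (abelem_zpowers a3) (abelem_zpowers b3) (zpowers_le.2 (by
    rw [cent_zpowers]; exact mem_cent1.2 c))
  have o := four_of s4 s2
  have iv : ∀ y ∈ zpowers a ⊔ zpowers (s * a * s⁻¹), s ^ 2 * y * (s ^ 2)⁻¹ = y⁻¹ := fun y hy => by
    obtain ⟨_, ⟨j, rfl⟩, _, ⟨k, rfl⟩, rfl⟩ := (mem_sup_of_norm (norms_of_comm hK.1 le_sup_right le_sup_left)).1 hy
    have : s ^ 2 * (s * a * s⁻¹) * (s ^ 2)⁻¹ = (s * a * s⁻¹)⁻¹ := by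
      rw [mul_inv_rev (s * a), mul_inv_rev s a, ← i]; group
    dsimp only
    rw [← conj_mul, ← conj_zpow, ← conj_zpow (a := s ^ 2), i, this, (Commute.zpow_zpow c j k).eq, inv_zpow,
      inv_zpow, mul_inv_rev (_ ^ k)]
  refine ⟨_, sup_le (zpowers_le.2 ha) (zpowers_le.2 (mul_mem (mul_mem hs ha) (inv_mem hs))), s, hs,
    ne_bot_of_mem (mem_sup_left (mem_zpowers a)) a1, abelem_pg Nat.prime_three hK, o, mem_norm_iff_cj.2 ?_,
    fun j j0 j1 => eq_bot_iff.2 fun y hy => by_contra fun y1 => inv_ne (orderOf_of_pow Nat.prime_three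
      (hK.2 y hy.1) y1) (by decide) ?_⟩
  · rw [cj_sup, cj_zpowers, cj_zpowers, sup_comm, ← zpowers_inv (g := a), ← i]
    simp only [pow_two, mul_inv_rev, mul_assoc]
  · have : y ∈ C[s ^ 2] := by
      rw [o] at j1
      interval_cases j
      · simpa only [← pow_mul] using cent1_le_cent1_pow _ 2 hy.2
      · exact hy.2
      · simpa only [← pow_mul, pow_add s 4 2, s4, one_mul] using cent1_le_cent1_pow _ 2 hy.2
    rw [← iv y hy.1, ← mem_cent1.1 this, mul_inv_cancel_right]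

namespace Ty
variable (h : Ty L)
include h

theorem card : #L = 60 ∨ #L = 360 :=
  h.imp (fun ⟨e⟩ => by have := card_alt e; simp only [Nat.factorial] at this; omega)
    fun ⟨e⟩ => by have := card_alt e; simp only [Nat.factorial] at this; omega

theorem simple' (N : Subgroup R) (hN : N ⊴ L) : N = ⊥ ∨ N = L := by
  haveI : IsSimpleGroup L := by
    rcases h with ⟨⟨e⟩⟩ | ⟨⟨e⟩⟩ <;> exact e.isSimpleGroup_congr.2 (alternatingGroup.isSimpleGroup (by simp))
  exact hN.subgroupOf.eq_bot_or_eq_top.imp (fun e => by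
    rwa [subgroupOf_eq_bot, disjoint_iff, inf_eq_left.2 hN.le] at e)
    fun e => hN.le.antisymm (subgroupOf_eq_top.1 e)

theorem rel : ∃ x ∈ L, ∃ a ∈ L, ∃ u ∈ L, Rel x a u := by
  obtain ⟨x, a, u, k⟩ : ∃ x a u : L, Rel x a u := by
    rcases h with ⟨⟨e⟩⟩ | ⟨⟨e⟩⟩
    · exact let ⟨_, _, _, k⟩ := rel5; ⟨_, _, _, k.map (f := e.symm.toMonoidHom) e.symm.injective⟩
    · exact let ⟨_, _, _, k⟩ := rel6; ⟨_, _, _, k.map (f := e.symm.toMonoidHom) e.symm.injective⟩
  exact ⟨x, x.2, a, a.2, u, u.2, k.map L.subtype_injective⟩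

theorem d10 : ∃ x ∈ L, ∃ t ∈ L, orderOf x = 5 ∧ t * x * t⁻¹ = x⁻¹ :=
  let ⟨x, hx, t, ht, _, _, k⟩ := h.rel
  ⟨x, hx, t, ht, orderOf_of_pow (by norm_num) k.1 k.2.1, k.2.2.1⟩

theorem fr3 : ∃ K ≤ L, ∃ s ∈ L, K ≠ ⊥ ∧ PG 2 K ∧ orderOf s = 3 ∧ FD K s := by
  obtain ⟨-, -, a, ha, u, hu, -, -, -, a2, a1, u3, ne, c, e1⟩ := h.rel
  have oa := orderOf_of_pow Nat.prime_two a2 a1
  have k : K4 a (u * a * u⁻¹) := ⟨oa, (orderOf_conj' u a).trans oa, ne.symm, c⟩
  have o := orderOf_of_pow Nat.prime_three u3 fun e => ne (by simp [e])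
  have f : V4 a (u * a * u⁻¹) ⊓ C[u] = ⊥ := eq_bot_iff.2 fun x hx => by
    have c' : u * x * u⁻¹ = x := by rw [← mem_cent1.1 hx.2, mul_inv_cancel_right]
    rcases k.mem.1 hx.1 with rfl | rfl | rfl | rfl
    · exact one_mem _
    · exact absurd c' ne
    · exact absurd (c'.symm.trans e1) k.mul'.ne
    · rw [← conj_mul, e1, ← mul_assoc, ← c, mul_assoc a, mul_self_of_two k.s2, mul_one] at c'
      exact absurd c' k.mul.ne
  refine ⟨_, V4_le.2 ⟨ha, mul_mem (mul_mem hu ha) (inv_mem hu)⟩, u, hu, fun e => by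
    simpa [e] using k.card, k.pg, o, mem_norm_iff_cj.2 (by rw [cj_V4, e1, k.V4_mul']), fun j j0 j1 => ?_⟩
  rw [o] at j1
  interval_cases j
  · rwa [pow_one]
  · exact H19.eq_bot_mono (inf_le_inf_left _ (by
      have := cent1_le_cent1_pow (u ^ 2) 2
      rwa [← pow_mul, pow_succ u 3, u3, one_mul] at this)) f

end Ty

namespace O
variable (h : O G)
include h

theorem nc {V : Subgroup G} (hV : PG p V) (V1 : V ≠ ⊥) {a : R} (ha : a ∈ (⊤ ⊓ C(V ⊓ ⊤)).map f)
    (c : p.Coprime (orderOf a)) : p * orderOf a ≤ 6 := by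
  obtain ⟨X, hX⟩ := hV.exists_el1 V1
  obtain ⟨y, hy, rfl⟩ := ha
  exact h _ (ord_cent hX (cent_mono (le_inf hX.le le_top)) (Ord.of_dvd ⟨⟨y, hy.2⟩, orderOf_mk ..⟩
    (orderOf_map_dvd f y)) c)

theorem two (hf : Function.Surjective f) (hs : Sol f.ker) (hL : Ty L) : PG 2 f.ker := by
  induction c : #f.ker using Nat.strong_induction_on generalizing G with | _ n ih => ?_
  have k : ∀ (N : Subgroup G) [N.Normal], N ≠ ⊥ → N ≤ f.ker → PG 2 (f.ker.map (QuotientGroup.mk' N)) ∧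
      #(f.ker.map (QuotientGroup.mk' N)) = N.relIndex f.ker := fun N _ N1 l => by
    have e : #(f.ker.map (QuotientGroup.mk' N)) = N.relIndex f.ker := by
      rw [← relIndex_ker, QuotientGroup.ker_mk']
    rw [← QuotientGroup.ker_lift N f l] at e ⊢
    refine ⟨ih _ ?_ (h.quo (QuotientGroup.mk'_surjective N)) (QuotientGroup.lift_surjective_of_surjective N f hf l)
      ?_ rfl, e⟩
    · rw [e, ← c, ← card_mul_relIndex l]
      exact lt_mul_left (relIndex_pos _ _) (ne_bot_iff_one_lt_card.1 N1)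
    · rw [QuotientGroup.ker_lift]
      exact Group.isSolvable_of_surjective (MonoidHom.subgroupMap_surjective _ _)
  by_cases e : f.ker = ⊥
  · exact e ▸ PiN.bot
  have nO : ∀ p, (Oc {p} f.ker).Normal := fun p => (normalIn_top.Oc _).normal
  by_cases e2 : Oc {2} f.ker = ⊥
  swap
  · have := k _ e2 (Oc_le _ _)
    exact .of_relIndex' (Oc_le _ _) (Oc_pi _ _) (this.2 ▸ this.1)
  obtain ⟨p, hp, e3⟩ := exists_Oc_ne_bot hs e
  have p2 : 2 ≠ p := by rintro rfl; exact e3 e2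
  have p3 : 3 ≤ p := by have := hp.two_le; omega
  obtain ⟨N, N1, hN, l, nN⟩ : ∃ N : Subgroup G, N ≠ ⊥ ∧ Abelem p N ∧ N ≤ f.ker ∧ N.Normal :=
    ⟨_, (Oc_pi _ _).Ohm1_center_ne_bot e3, abelem_Ohm1_center p _, (Ohm1_le p _).trans (inf_le_left.trans
      (Oc_le _ _)), normalizer_eq_top_iff.1 (top_le_iff.1 ((normalizer_eq_top _).ge.trans
        (norm_le_norm_Ohm1_center p _)))⟩
  have pN := abelem_pg hp hN
  obtain ⟨x, hx, -, -, o, -⟩ := hL.d10
  obtain ⟨k1, k2⟩ := k N N1 l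
  have hπ := QuotientGroup.mk'_surjective N
  have kπ := QuotientGroup.ker_mk' N
  obtain ⟨y, rfl⟩ := (QuotientGroup.lift_surjective_of_surjective N f hf l) x
  haveI := Normal.map (inferInstance : f.ker.Normal) _ hπ
  have c1 : f.ker ≤ C(N) := by
    rcases maz2 (QuotientGroup.mk' N) ⊤ (by rw [kπ]; exact (pN.infl _).sol) (map_mono le_top)
      (by rw [map_top_of_surjective _ hπ]; exact mem_top y) ((h.quo hπ).fd5 (k1.sing_ne (by decide))
        ((h.quo hπ).five (o ▸ orderOf_map_dvd _ y)) (le_normalizer_of_normal (mem_top y)))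
      (by rw [kπ]; exact k1.coprime ((pN.infl _).sing_ne p2.symm)) with a | ⟨r, hr, d, a⟩
    · rw [Subgroup.map_le_map_iff, kπ, inf_top_eq, top_inf_eq] at a
      exact a.trans (sup_le le_rfl (comm_iff_le_cent.1 hN.1))
    · rw [kπ] at d
      rw [pN.infl _ r hr d, (h.quo hπ).five (o ▸ orderOf_map_dvd _ y)] at a
      exact absurd a.sub (h.no (by omega))
  obtain ⟨S, hS⟩ := exists_syl 2 f.ker
  have e4 := hS.sup_eq l (k2 ▸ k1)
  rw [H19.eq_bot_mono (le_Oc ⟨hS.le, e4.ge.trans (sup_le (norms_of_cents (cents_symm (hS.le.trans c1)))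
    le_normalizer)⟩ hS.pi) e2, sup_bot_eq] at e4
  subst e4
  obtain ⟨K, l1, s, s1, K1, K2, s3, hs⟩ := hL.fr3
  rcases maz3 f ⊤ (pN.infl _).sol (by rw [map_top_of_surjective _ hf]; exact le_top) hL.simple' l1 K1 s1 hs
    (K2.coprime ((pN.infl _).sing_ne p2.symm)) with a | ⟨r, hr, d, a⟩
  · by_cases p5 : p = 5
    · have := h.nc pN N1 (a s1) (by rw [s3, p5]; decide)
      rw [s3] at this
      omega
    · have := h.nc pN N1 (a hx) (o ▸ (Nat.coprime_primes hp (by norm_num)).2 p5)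
      rw [o] at this
      omega
  · rw [pN.infl _ r hr d, s3] at a
    exact absurd a.sub (h.no (by omega))

/-- no faithful action of a Frobenius group with complement of order four -/
theorem no4 (hf : Function.Surjective f) (hk : PG 2 f.ker) (k1 : f.ker ≠ ⊥) {K : Subgroup R} {s : R}
    (hK : PiG {2}ᶜ K) (o : orderOf s = 4) (hs : FD K s) : K ≤ (⊤ ⊓ C(f.ker ⊓ ⊤)).map f := by
  have e := map_top_of_surjective _ hf
  refine (maz2 f ⊤ (hk.infl _).sol (e ▸ le_top) (e ▸ mem_top s) hs (hK.coprime' (hk.infl _))).resolve_right ?_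
  rintro ⟨r, hr, d, a⟩
  rw [hk.infl _ r hr d, o] at a
  exact h.no (by decide) a.sub

theorem idx {L : Subgroup G} [L.Normal] (hL : Ty L) :
    L = ⊤ ∨ L.index = 2 ∧ ∃ x s : G, orderOf x = 5 ∧ orderOf s = 4 ∧ s ∈ N(zpowers x) := by
  have p5 : Nat.Prime 5 := by norm_num
  obtain ⟨x, hx, t, ht, o, e⟩ := hL.d10
  have i5 : ¬ 5 ∣ L.index := fun d => by
    obtain ⟨S, hS⟩ := exists_syl 2 L
    have fr := hS.frattini normalIn_top
    rw [← relIndex_top_right, ← fr, relIndex_sup_of_norm le_normalizer_of_normal] at d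
    obtain ⟨y, hy, oy⟩ := exists_orderOf_eq_prime p5 (d.trans (relIndex_dvd_card _ _))
    have a := h.mod5 (hS.pi.sing_ne (by decide)) oy hy.2
    obtain ⟨k, c⟩ := hS.pi.exists_card
    have b := hS.card_mul
    have b' := hS.not_dvd Nat.prime_two
    have : k < 4 := by
      by_contra! l
      have : 2 ^ 4 ∣ #L := ((pow_dvd_pow 2 l).trans c.symm.dvd).trans (card_dvd hS.le)
      rcases hL.card with e | e <;> omega
    rw [c] at a b
    rcases hL.card with e | e <;> interval_cases k <;> omega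
  have cL : ∀ {y}, y * x * y⁻¹ = x → y ∈ L := fun {y} c => by
    haveI := Fact.mk p5
    by_contra n
    have := orderOf_eq_prime (p := 5) (x := QuotientGroup.mk' L y) (by
      rw [← map_pow, h.c5 o (mul_inv_eq_iff_eq_mul.1 c), map_one]) (mt (QuotientGroup.eq_one_iff y).1 n)
    exact i5 (this ▸ orderOf_dvd_natCard _)
  have iL : ∀ {y}, y * x * y⁻¹ = x⁻¹ → y ∈ L := fun {y} c => (L.mul_mem_cancel_left ht).1 (cL (by
    calc _ = t * (y * x * y⁻¹) * t⁻¹ := by group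
      _ = (t * x * t⁻¹)⁻¹ := by rw [c]; group
      _ = x := by rw [e, inv_inv]))
  have hP : Syl 5 (zpowers x) L := syl_mk (zpowers_le.2 hx) (.of_card p5 (by rw [Nat.card_zpowers, o])) fun d => by
    have := card_mul_relIndex (zpowers_le.2 hx)
    rw [Nat.card_zpowers, o] at this
    rcases hL.card with e | e <;> omega
  have fr := hP.frattini normalIn_top
  rw [top_inf_eq] at fr
  refine (em _).imp_right fun n => ?_
  obtain ⟨s, hs, n⟩ := SetLike.not_le_iff_exists.1 fun l : N(zpowers x) ≤ L => n (fr.symm.trans (sup_eq_left.2 l)).symm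
  have e5 : x ^ 5 = 1 := o ▸ pow_orderOf_eq_one x
  have e4 : (x ^ 2) ^ 2 = x⁻¹ := eq_inv_of_mul_eq_one_left (by rw [← pow_mul, ← pow_succ, e5])
  have d : ∀ a b : G, a * b * x * (a * b)⁻¹ = a * (b * x * b⁻¹) * a⁻¹ := fun a b => by group
  have k0 : ∀ {a}, a ∈ N(zpowers x) → a ∉ L → a * x * a⁻¹ = x ^ 2 ∨ a * x * a⁻¹ = (x ^ 2)⁻¹ := fun ha na =>
    ((h.cases o ha).resolve_left (mt cL na)).resolve_left (mt iL na)
  have k : ∀ {a}, a ∈ N(zpowers x) → a ∉ L → a * s ∈ L := fun {a} ha na => by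
    have d := d a s
    rcases k0 ha na with u | u <;> rcases k0 hs n with v | v <;> rw [v] at d <;>
      simp only [← conj_inv, ← conj_pow, u, inv_pow, e4, inv_inv] at d
    exacts [iL d, cL d, cL d, iL d]
  have k1 : s * s * x * (s * s)⁻¹ = x⁻¹ := by
    rw [d]
    rcases k0 hs n with u | u <;> rw [u] <;> simp only [← conj_inv, ← conj_pow, u, inv_pow, e4, inv_inv]
  refine ⟨index_eq_two_iff.2 ⟨s, fun g => ?_⟩, x, s, o, four_of (by
    rw [← h.inv2 o k1]; simp only [pow_succ, pow_zero, one_mul, mul_assoc]) fun c => inv_ne o (by decide) (by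
      rw [← k1, ← pow_two, c, one_mul, inv_one, mul_one]), hs⟩
  by_cases hg : g ∈ L
  · exact .inr ⟨hg, fun c => n ((L.mul_mem_cancel_left hg).1 c)⟩
  obtain ⟨l, hl, m, hm, rfl⟩ := (mem_sup_of_norm le_normalizer_of_normal).1 (fr.ge (mem_top g))
  exact .inl ⟨mul_assoc l m s ▸ mul_mem hl (k hm fun c => hg (mul_mem hl c)), hg⟩

end O

/-- the non-solvable groups -/
def NS (G : Type*) [Group G] : Prop :=
  (∃ (Q : Subgroup G) (_ : Q.Normal), Q ≠ ⊥ ∧ Abelem 2 Q ∧ Nonempty (G ⧸ Q ≃* alternatingGroup (Fin 5))) ∨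
    ∃ L : Subgroup G, L.index ∣ 2 ∧ Ty L ∧ C(L) = ⊥

theorem perm5 {L : Subgroup G} (i : L.index = 2) (e : L ≃* alternatingGroup (Fin 5)) (c : C(L) = ⊥) :
    Nonempty (G ≃* Equiv.Perm (Fin 5)) := by
  haveI := L.normal_of_index_eq_two i
  refine ⟨(MulEquiv.ofBijective ((MulAut.congr e).toMonoidHom.comp MulAut.conjNormal)
    ((Nat.bijective_iff_injective_and_card _).2 ⟨(injective_iff_map_eq_one _).2 fun g hg => ?_, ?_⟩)).trans
      (MulEquiv.ofBijective _ ⟨H22.Alt.conj_injective (by simp), H22.Alt.conj_surjective (by simp) (by simp)⟩).symm⟩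
  · refine mem_bot.1 (c.le (mem_cent.2 fun m hm => ?_))
    have : e (MulAut.conjNormal g (e.symm (e ⟨m, hm⟩))) = e ⟨m, hm⟩ :=
      congrArg (fun φ : MulAut (alternatingGroup (Fin 5)) => φ (e ⟨m, hm⟩)) hg
    rw [e.symm_apply_apply] at this
    exact (mul_inv_eq_iff_eq_mul.1 (congrArg Subtype.val (e.injective this))).symm
  · rw [← L.index_mul_card, i, card_alt e, ← Nat.card_eq_of_bijective _ ⟨H22.Alt.conj_injective (by simp),
      H22.Alt.conj_surjective (by simp) (by simp)⟩, Nat.card_perm, Nat.card_fin]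

theorem O.ns (h : O G) (hs : ¬ Group.IsSolvable G) (ih : ∀ (S : Type u) [Group S] [Finite S] [IsSimpleGroup S],
    ¬ IsMulCommutative S → O S → Nat.card S ≤ Nat.card G → Ty S) : NS G := by
  have hf := QuotientGroup.mk'_surjective (solvableRadical G)
  have hk := QuotientGroup.ker_mk' (solvableRadical G)
  have hF := H1.solvRad_eq_bot_iff_fitting_eq_bot.1 (H1.solvRad_quotient_solvRad (G := G))
  have h' := h.quo hf
  haveI : Nontrivial (G ⧸ solvableRadical G) := QuotientGroup.nontrivial_iff.2 (mt H1.solvRad_eq_top_iff.1 hs)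
  obtain ⟨L, hL, _, cL⟩ : ∃ L : Subgroup (G ⧸ solvableRadical G), Ty L ∧ L.Normal ∧ C(L) = ⊥ := by
    have fa : ∀ X : Subgroup (G ⧸ solvableRadical G), (∀ L, IsComponent L → L ≤ X) → C(X) = ⊥ := fun X k =>
      H19.eq_bot_mono ((cent_mono (by rw [H1.gf_def, hF, sup_bot_eq]; exact H1.layer_le_iff.2 k)).trans
        H1.centralizer_gf_le_fitting) hF
    have sz : ∀ L : Subgroup (G ⧸ solvableRadical G), IsComponent L → Ty L := fun L hL => by
      haveI := H1.component_isSimpleGroup_of_fitting_eq_bot hF hL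
      exact ih L (fun k => H1.Quasisimple.not_isSolvable hL.2 (sol_of_ab k)) (h'.sub L)
        ((Nat.le_of_dvd Nat.card_pos (card_subgroup_dvd_card L)).trans (Nat.card_le_card_of_surjective _ hf))
    obtain ⟨L, c1⟩ : ∃ L : Subgroup (G ⧸ solvableRadical G), IsComponent L := by
      by_contra! k
      exact top_ne_bot (cent_bot.symm.trans (fa ⊥ fun L a => (k L a).elim))
    have k : ∀ K, IsComponent K → K = L := fun K c2 => by_contra fun ne => by
      obtain ⟨x, hx, -, -, o, -⟩ := (sz _ c1).d10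
      obtain ⟨_, -, y, hy, -, -, y3, -⟩ := (sz _ c2).fr3
      exact h'.no (by decide) (ord_mul y3 o (mem_cent.1 (commg_eq_bot.1
        (H1.commutator_eq_bot_of_component_ne c2 c1 ne) hy) x hx).symm (by decide))
    exact ⟨L, sz _ c1, normalizer_eq_top_iff.1 (eq_top_iff.2 fun g _ =>
      mem_norm_iff_cj.2 (k _ (H1.isComponent_conj c1 g))), fa _ fun L a => (k L a).le⟩
  have k2 := h.two hf (by rw [hk]; exact H1.solvRad_isSolvable) hL
  by_cases k1 : (QuotientGroup.mk' (solvableRadical G)).ker = ⊥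
  · let e := MulEquiv.ofBijective _ ⟨(MonoidHom.ker_eq_bot_iff _).1 k1, hf⟩
    have i : (L.comap e.toMonoidHom).index = L.index := index_comap_of_surjective L hf
    have e' : L.comap e.toMonoidHom ≃* L := ((MulEquiv.subgroupCongr (map_comap_eq_self_of_surjective hf L)).symm.trans
      (e.subgroupMap _).symm).symm
    have c : C(L.comap e.toMonoidHom) = ⊥ := (map_eq_bot_iff_of_injective _ e.injective).1 (H19.eq_bot_mono
      ((map_centralizer_le_centralizer_image _ e.toMonoidHom).trans (by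
        rw [← coe_map, map_comap_eq_self_of_surjective (f := e.toMonoidHom) e.surjective])) cL)
    exact .inr ⟨_, i ▸ (h'.idx hL).elim (fun e => by simp [e]) fun j => j.1.dvd,
      hL.imp (fun ⟨a⟩ => ⟨e'.trans a⟩) fun ⟨a⟩ => ⟨e'.trans a⟩, c⟩
  have n5 : ∀ {x}, orderOf x = 5 → x ∉ (⊤ ⊓ C((QuotientGroup.mk' (solvableRadical G)).ker ⊓ ⊤)).map
      (QuotientGroup.mk' (solvableRadical G)) := fun o c => by
    have := h.nc k2 k1 c (o ▸ by decide)
    omega
  obtain ⟨x, hx, t, -, o, e⟩ := hL.d10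
  rcases h'.idx hL with rfl | ⟨-, y, s, oy, os, hs⟩
  swap
  · have hP : PG 5 (zpowers y) := .of_card (by norm_num) (by rw [Nat.card_zpowers, oy])
    exact (n5 oy (h.no4 hf k2 k1 (hP.sing_ne (by decide)) os (h'.fd5' hP (.of_not_dvd (by rw [os]; decide)) hs)
      (mem_zpowers y))).elim
  rcases hL with ⟨⟨a⟩⟩ | ⟨⟨a⟩⟩
  · obtain ⟨x, t, o, e, -⟩ := h.lift hf k2 o e
    exact .inl ⟨_, inferInstance, hk ▸ k1, h.lemE (hk ▸ k2) o e, ⟨topEquiv.symm.trans a⟩⟩
  · obtain ⟨K, -, s, -, K1, K3, os, hs⟩ := fr9 a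
    refine (n5 o ((Ty.simple' (.inr ⟨a⟩) _ ?_).resolve_left (ne_bot_mono
      (h.no4 hf k2 k1 (K3.sing_ne (by decide)) os hs) K1) ▸ mem_top x)).elim
    haveI := (inf_cent_normal (norms_inf (normalIn_top.norms le_top) le_normalizer) :
      ⊤ ⊓ C((QuotientGroup.mk' (solvableRadical G)).ker ⊓ ⊤) ⊴ ⊤).normal
    haveI := Normal.map this _ hf
    exact normalIn_top

end H5.O6
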