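import Cfsg.Agent.H5.O61

/-! # Groups with element orders at most six: a non-solvable `2`-local subgroup -/

set_option autoImplicit false
set_option linter.unusedSectionVars false

open Cfsg
namespace H5.O6

open H19 Subgroup H5 H5.FP H2.GW
open scoped Pointwise commutatorElement

universe u

variable {G : Type u} [Group G] [Finite G] {A M Q T X : Subgroup G} {a b r t v x y : G} {c : ℕ}

theorem der_le_of_sq (h : ∀ r ∈ T, r * r ∈ X) : ⁅T, T⁆ ≤ X := commutator_le.2 fun a ha b hb => by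
  rw [show ⁅a, b⁆ = a * b * (a * b) * (b⁻¹ * a⁻¹ * b * (b⁻¹ * a⁻¹ * b)) * (b⁻¹ * b⁻¹) by
    rw [commutatorElement_def]; group]
  exact mul_mem (mul_mem (h _ (mul_mem ha hb)) (h _ (mul_mem (mul_mem (inv_mem hb) (inv_mem ha)) hb)))
    (h _ (inv_mem hb))

theorem O.fact (h : O G) (hQ : Abelem 2 Q) (o : orderOf x = 5) (e : t * x * t⁻¹ = x⁻¹) (nx : x ∈ N(Q))
    (nt : t ∈ N(Q)) : #Q = #(Q ⊓ C[t]) * #(Q ⊓ C[t]) ∧ ∀ v ∈ Q ⊓ C[t], ∃ q ∈ Q, v = q * (t * q * t⁻¹) := by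
  have t2 := h.inv2 o e
  have pQ : PiG {5}ᶜ Q := (abelem_pg Nat.prime_two hQ).sing_ne (by decide)
  have cm : ∀ {a b}, a ∈ Q → b ∈ Q → a * b = b * a := mul_comm_of_comm hQ.1
  have sq : ∀ {a}, a ∈ Q → a * a = 1 := fun a => (pow_two _).symm.trans (hQ.2 _ a)
  have k1 : ∀ {q}, q ∈ Q → q * (t * q * t⁻¹) ∈ Q ⊓ C[t] := fun {q} hq =>
    ⟨mul_mem hq (conj_mem_of_norm nt hq), mem_cent1_conj'.2 (by
      rw [← conj_mul, cm hq (conj_mem_of_norm nt hq)]
      congr 1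
      calc _ = t * t * q * (t * t)⁻¹ := by group
        _ = q := by rw [t2]; group)⟩
  have k2 : Q ⊓ C[t] ⊓ cj x (Q ⊓ C[t]) = ⊥ := eq_bot_iff.2 fun v hv => by
    rw [cj_inf, cj_cent1] at hv
    refine h.eq1 (h.o2 o) (mem_cent1.1 (mem_cent1_symm.1 ?_)) (pQ.elt hv.1.1)
    have : x * x = x * t * x⁻¹ * t⁻¹ := by
      calc _ = x * x⁻¹⁻¹ := by group
        _ = x * (t * x * t⁻¹)⁻¹ := by rw [e]
        _ = _ := by group
    exact this ▸ mul_mem (mem_cent1_symm.1 hv.2.2) (inv_mem (mem_cent1_symm.1 hv.1.2))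
  have k3 : ∀ w ∈ Q, ∃ q ∈ Q, ∃ d ∈ cj x (Q ⊓ C[t]), w = q * (t * q * t⁻¹) * d := fun w hw => by
    obtain ⟨q, hq, rfl⟩ := h.surj pQ (h.o2 o) (mul_mem nx nx) hw
    refine ⟨q, hq, _, conj_mem_cj.2 (k1 (conj_mem_of_norm nx hq)), ?_⟩
    have : x * (x * q * x⁻¹ * (t * (x * q * x⁻¹) * t⁻¹)) * x⁻¹ = x * x * q * (x * x)⁻¹ * (t * q * t⁻¹) := by
      calc _ = x * (x * q * x⁻¹ * ((t * x * t⁻¹) * (t * q * t⁻¹) * (t * x * t⁻¹)⁻¹)) * x⁻¹ := by group
        _ = _ := by rw [e]; group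
    rw [this, cm (conj_mem_of_norm (mul_mem nx nx) hq) (conj_mem_of_norm nt hq), mul_assoc q, ← mul_assoc (t * q * t⁻¹),
      sq (conj_mem_of_norm nt hq), one_mul, inv_eq_of_mul_eq_one_right (sq hq)]
  have l : cj x (Q ⊓ C[t]) ≤ Q := cj_le_of_mem_norm nx inf_le_left
  refine ⟨?_, fun v hv => ?_⟩
  · have := card_sup_of_disjoint (norms_of_comm hQ.1 l inf_le_left) k2
    rw [card_cj] at this
    rw [← this]
    refine congrArg (fun X : Subgroup G => #X) (le_antisymm (fun w hw => ?_) (sup_le inf_le_left l))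
    obtain ⟨q, hq, d, hd, rfl⟩ := k3 w hw
    exact mul_mem (mem_sup_left (k1 hq)) (mem_sup_right hd)
  · obtain ⟨q, hq, d, hd, rfl⟩ := k3 v hv.1
    exact ⟨q, hq, by rw [mem_bot.1 (k2.le ⟨(mul_mem_cancel_left (k1 hq)).1 hv, hd⟩), mul_one]⟩

/-- `N(Q) / Q ≅ A₅` with Sylow subgroup `T` -/
structure Cf (Q T : Subgroup G) (y : G) (c : ℕ) : Prop where
  ab : Abelem 2 Q
  syl : Syl 2 T N(Q)
  le : Q ≤ T
  idx : Q.relIndex T = 4
  sq : ∀ r ∈ T, r * r ∈ Q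
  card : #Q = c * c
  c4 : 4 ≤ c
  cen : ∀ r ∈ T, r ∉ Q → #(Q ⊓ C[r]) = c
  com : ∀ r ∈ T, r ∉ Q → ∀ v ∈ Q ⊓ C[r], ∃ q ∈ Q, v = q * (r * q * r⁻¹)
  y3 : orderOf y = 3
  yQ : y ∈ N(Q)
  yT : y ∈ N(T)
  mv : ∀ r ∈ T, r ∉ Q → r * (y * r * y⁻¹) ∉ Q

theorem O.cf (h : O G) (hQ : Abelem 2 Q) (Q1 : Q ≠ ⊥) (hM : N(Q) = M) {S : Type*} [Group S] [Finite S]
    (c60 : Nat.card S = 60) {x a u : S} (rel : Rel x a u) {f : M →* S}
    (hf : Function.Surjective f) (hk : f.ker.map M.subtype = Q) : ∃ T y c, Cf Q T y c := by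
  have nM : ∀ g : M, g.1 ∈ N(Q) := fun g => hM.ge g.2
  have hk' : ∀ {g}, f g = 1 ↔ g.1 ∈ Q := fun {g} => by
    conv_rhs => rw [← hk]
    exact (mem_map_iff_mem (subtype_injective _) (K := f.ker)).symm
  have pQ := abelem_pg Nat.prime_two hQ
  have k2 : PG 2 f.ker := pQ.dvd (by rw [← hk, card_map_of_injective (subtype_injective _)])
  obtain ⟨x5, x1, e, a2, a1, u3, ne, cm, e1⟩ := rel
  have oa := orderOf_of_pow Nat.prime_two a2 a1
  have k : K4 a (u * a * u⁻¹) := ⟨oa, (orderOf_conj' u a).trans oa, ne.symm, cm⟩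
  have e2 : u * (a * (u * a * u⁻¹)) * u⁻¹ = a := by
    rw [← conj_mul, e1, ← mul_assoc, ← cm, mul_assoc a, mul_self_of_two k.s2, mul_one]
  have P : ∀ r ∈ pre f (V4 a (u * a * u⁻¹)), r ∉ Q → #Q % 5 = 1 ∧ #Q = #(Q ⊓ C[r]) * #(Q ⊓ C[r]) ∧
      ∀ v ∈ Q ⊓ C[r], ∃ q ∈ Q, v = q * (r * q * r⁻¹) := fun r hr n => by
    obtain ⟨hr, m⟩ := mem_pre.1 hr
    obtain ⟨g, hg⟩ : ∃ g, g * a * g⁻¹ = f ⟨r, hr⟩ := by
      rcases k.mem.1 m with m | m | m | m
      exacts [absurd (hk'.1 m) n, ⟨1, by simp [m]⟩, ⟨u, m.symm⟩, ⟨u * u, by rw [m, ← e1]; group⟩]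
    obtain ⟨z, t, o, e, -, ft⟩ := (h.sub _).lift hf k2 ((orderOf_conj' g x).trans (orderOf_of_pow (by norm_num) x5 x1))
      (b := f ⟨r, hr⟩) (by rw [← hg, conj_inv (a := x), ← e]; group)
    have d : ∀ q ∈ Q, r * q * r⁻¹ = t * q * t.1⁻¹ := fun q hq => by
      have : r * t.1⁻¹ ∈ Q := (hk' (g := ⟨r, hr⟩ * t⁻¹)).1 (by rw [map_mul, map_inv, ft, mul_inv_cancel])
      calc _ = r * t.1⁻¹ * (t * q * t.1⁻¹) * (r * t.1⁻¹)⁻¹ := by group
        _ = _ := by rw [mul_comm_of_comm hQ.1 this (conj_mem_of_norm (nM t) hq), mul_inv_cancel_right]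
    have o' := (orderOf_coe z).trans o
    have := h.fact hQ o' (congrArg Subtype.val e) (nM z) (nM t)
    rw [show Q ⊓ C[r] = Q ⊓ C[t.1] from ext fun v => and_congr_right fun hv =>
      mem_cent1_conj'.trans (d v hv ▸ mem_cent1_conj'.symm)]
    exact ⟨h.mod5 (pQ.sing_ne (by decide)) o' (nM z), this.1, fun v hv =>
      let ⟨q, hq, e⟩ := this.2 v hv; ⟨q, hq, by rw [d q hq, e]⟩⟩
  obtain ⟨r, hr⟩ := hf a
  have P0 := P r (coe_mem_pre.2 (hr ▸ left_mem_V4 _ _)) fun n => a1 (hr ▸ hk'.2 n)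
  obtain ⟨y, rfl⟩ := hf u
  have ou := orderOf_of_pow Nat.prime_three u3 fun e => ne (by simp [e])
  have fy : f (y ^ 4) = f y := by rw [map_pow, pow_succ, u3, one_mul]
  have i4 : Q.relIndex (pre f (V4 a (f y * a * (f y)⁻¹))) = 4 := by
    conv_lhs => rw [← hk]
    rw [pre, relIndex_map_map_of_injective _ _ (subtype_injective _), relIndex_ker, map_comap_eq_self_of_surjective hf,
      k.card]
  have l : Q ≤ pre f (V4 a (f y * a * (f y)⁻¹)) := fun q hq =>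
    mem_pre.2 ⟨hM.le (le_normalizer hq), (hk'.2 hq : f ⟨q, _⟩ = 1) ▸ one_mem _⟩
  have sy : Syl 2 (pre f (V4 a (f y * a * (f y)⁻¹))) M := by
    refine syl_mk (pre_le _ _) (.of_relIndex' l pQ (by rw [i4]; exact PiN.prime_pow Nat.prime_two 2)) ?_
    have := (V4 a (f y * a * (f y)⁻¹)).index_mul_card
    rw [pre, relIndex, subgroupOf, comap_map_eq_self_of_injective (subtype_injective _), index_comap_of_surjective _ hf]
    rw [k.card] at this
    omega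
  refine ⟨_, (y ^ 4 : M), _, hQ, by rwa [hM], l, i4, fun r hr => ?_, P0.2.1, ?_,
    fun r hr n => Nat.mul_self_inj.1 ((P r hr n).2.1.symm.trans P0.2.1),
    fun r hr n => (P r hr n).2.2, ?_, nM _, ?_, fun r hr n n' => ?_⟩
  · obtain ⟨hr, m⟩ := mem_pre.1 hr
    exact (hk' (g := ⟨r, hr⟩ * ⟨r, hr⟩)).1 ((map_mul ..).trans (k.sq m))
  · have := P0.1
    have := ne_bot_iff_one_lt_card.1 Q1
    rw [P0.2.1] at *
    by_contra! l
    generalize #(Q ⊓ C[r.1]) = c at *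
    interval_cases c <;> omega
  · have : 3 ∣ orderOf y := ou ▸ orderOf_map_dvd f y
    have := (h.sub _).le y
    have := orderOf_pos y
    rw [orderOf_coe]
    refine orderOf_of_pow Nat.prime_three (by
      rw [← pow_mul]; exact orderOf_dvd_iff_pow_eq_one.1 (by
        obtain e | e : orderOf y = 3 ∨ orderOf y = 6 := by omega
        all_goals simp [e])) fun e => ne (by simp [← fy, e])
  · refine zpowers_le.1 (norms_pre (zpowers_le.2 (y ^ 4).2) ?_)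
    rw [im_zpowers, fy, zpowers_le, mem_norm_iff_cj, cj_V4, e1, k.V4_mul']
  · obtain ⟨hr, m⟩ := mem_pre.1 hr
    have := (hk' (g := ⟨r, hr⟩ * (y ^ 4 * ⟨r, hr⟩ * (y ^ 4)⁻¹))).2 n'
    rw [map_mul, map_mul, map_mul, map_inv, fy, mul_eq_one_iff_inv_eq, inv_eq_of_mul_eq_one_right (k.sq m)] at this
    rcases k.mem.1 m with m | m | m | m
    · exact n (hk'.1 m)
    · exact ne (m ▸ this).symm
    · exact k.mul'.ne ((m ▸ this).trans e1)
    · exact k.mul.ne ((m ▸ this).trans e2).symm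

namespace Cf
variable (k : Cf Q T y c)
include k

theorem pg : PG 2 T := k.syl.pi

theorem cm (ha : a ∈ Q) (hb : b ∈ Q) : a * b = b * a := mul_comm_of_comm k.ab.1 ha hb

theorem sq1 (ha : a ∈ Q) : a * a = 1 := (pow_two _).symm.trans (k.ab.2 _ ha)

theorem cardT : #T = 4 * (c * c) := by rw [← card_mul_relIndex k.le, k.idx, k.card, mul_comm]

theorem top (l1 : Q ≤ X) (l2 : X ≤ T) (ha : a ∈ X) (na : a ∉ Q) (hb : y * a * y⁻¹ ∈ X) : X = T := by
  have n : zpowers a ≤ N(Q) := zpowers_le.2 (k.syl.le (l2 ha))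
  have l3 : Q ⊔ zpowers a ≤ X := sup_le l1 (zpowers_le.2 ha)
  have a1 := ((k.pg.of_le l2).of_le l3).card_mul_le (left_lt_sup.2 (mt zpowers_le.1 na))
  have a2 := (k.pg.of_le l2).card_mul_le (l3.lt_of_ne fun e => by
    obtain ⟨q, hq, _, ⟨i, rfl⟩, e⟩ := (mem_sup_of_norm n).1 (e.ge hb)
    have z : ∀ j : ℤ, a ^ (2 * j) ∈ Q := fun j => by
      rw [zpow_mul, zpow_two]; exact zpow_mem (k.sq a (l2 ha)) j
    rcases Int.even_or_odd' i with ⟨j, rfl | rfl⟩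
    · exact na ((mem_normalizer_iff.1 k.yQ a).2 (e ▸ mul_mem hq (z j)))
    · refine k.mv a (l2 ha) na ?_
      rw [e, show a * (q * (fun i : ℤ => a ^ i) (2 * j + 1)) = a * q * a⁻¹ * a ^ (2 * (j + 1)) by group]
      exact mul_mem (conj_mem_of_norm (n (mem_zpowers a)) hq) (z _))
  exact eq_of_le_of_card_eq l2 ((card_le l2).antisymm (by rw [k.cardT, ← k.card]; omega))

theorem cent (hv : v ∈ Q) (ha : a ∈ T) (na : a ∉ Q) (h1 : v ∈ C[a]) (h2 : v ∈ C[y * a * y⁻¹]) : v ∈ C(T) :=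
  le_cent1_iff.1 (inf_eq_left.1 (k.top (le_inf k.le fun _ b => mem_cent1.2 (k.cm b hv)) inf_le_left
    ⟨ha, mem_cent1_symm.1 h1⟩ na ⟨conj_mem_of_norm k.yT ha, mem_cent1_symm.1 h2⟩))

theorem card_le4 (l : A ≤ T) : #A = #(Q ⊓ A) * Q.relIndex A ∧ Q.relIndex A ∣ 4 :=
  ⟨(card_inf_mul_relIndex Q A).symm, k.idx ▸ relIndex_dvd_of_norm (l.trans k.syl.le) k.le l⟩

theorem sup_eq (l : A ≤ T) (e : Q.relIndex A = 4) : Q ⊔ A = T :=
  eq_of_le_of_card_eq (sup_le k.le l) (by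
    rw [← card_mul_relIndex le_sup_left, relIndex_sup_of_norm (l.trans k.syl.le), e, ← k.idx, card_mul_relIndex k.le])

theorem nab : ¬ Ab T := fun e => by
  obtain ⟨r, hr, n⟩ := SetLike.not_le_iff_exists.1 fun l : T ≤ Q => by simpa [relIndex_eq_one.2 l] using k.idx
  have := k.cen r hr n
  rw [inf_eq_left.2 fun q hq => mem_cent1.2 (mul_comm_of_comm e (k.le hq) hr), k.card] at this
  have := k.c4
  nlinarith

section nat
variable (nat : ∀ r ∈ T, r ∉ Q → Q ⊓ C[r] ≤ C(T))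
include nat

theorem nat_der : ⁅T, T⁆ ≤ C(T) := der_le_of_sq fun r hr => by
  by_cases n : r ∈ Q
  · exact k.sq1 n ▸ one_mem _
  · exact nat r hr n ⟨k.sq r hr, mem_cent1.2 (mul_assoc ..)⟩

theorem nat_syl (h : O G) : Syl 2 T ⊤ := by
  by_contra ns
  obtain ⟨U, lt, hU, -, nU⟩ := k.pg.exists_lt_norm le_top ns
  obtain ⟨s, hs, n, s2⟩ : ∃ s ∈ U, s ∉ T ∧ s * s ∈ T := by
    obtain ⟨s, hs, n⟩ := SetLike.exists_of_lt lt
    by_cases e : s * s ∈ T
    · exact ⟨s, hs, n, e⟩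
    · exact ⟨_, mul_mem hs hs, e, by
        rw [← pow_two, ← pow_two, ← pow_mul, h.four (hU.elt hs)]; exact one_mem T⟩
  have lA : cj s Q ≤ T := cj_le_of_mem_norm (nU hs) k.le
  have nA : T ≤ N(cj s Q) := by rw [← cj_norm, ← cj_of_mem_norm (nU hs)]; exact cj_mono s k.syl.le
  have hA := abelem_J k.ab s
  obtain ⟨a, ha, na⟩ := SetLike.not_le_iff_exists.1 fun l : cj s Q ≤ Q =>
    n (k.syl.mem_of_norm (mem_norm_of_cj_le l) (hU.elt hs) (nU hs))
  have l : Q ⊓ cj s Q ≤ Q ⊓ C[a] := inf_le_inf_left _ fun x hx => mem_cent1.2 (mul_comm_of_comm hA.1 hx ha)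
  obtain ⟨c1, c2⟩ := k.card_le4 lA
  have c3 := card_le l
  have c4 := k.c4
  have c5 := Nat.le_of_dvd four_pos c2
  rw [card_cj, k.card] at c1
  rw [k.cen a (lA ha) na] at c3
  obtain ⟨rfl, c6, c7⟩ : c = 4 ∧ #(Q ⊓ cj s Q) = 4 ∧ Q.relIndex (cj s Q) = 4 := by
    refine ⟨?_, ?_, ?_⟩ <;> nlinarith
  obtain ⟨q0, h0, a0, h1, e⟩ := (mem_sup_of_norm (lA.trans k.syl.le)).1 ((k.sup_eq lA c7).ge s2)
  have h2 := mul_mem h0 (mem_cj.1 h1)
  obtain ⟨w, hw, nw⟩ := SetLike.not_le_iff_exists.1 fun l' : Q ≤ Q ⊓ cj s Q ⊔ zpowers (q0 * (s⁻¹ * a0 * s)) => by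
    have d1 := Nat.le_of_dvd (mul_pos (card_pos _) (card_pos _)) (card_sup_dvd (norms_of_comm k.ab.1
      (zpowers_le.2 h2) (inf_le_left : Q ⊓ cj s Q ≤ Q)))
    have d2 := card_le l'
    have d3 := Nat.le_of_dvd two_pos (orderOf_dvd_of_pow_eq_one (k.ab.2 _ h2))
    rw [c6, Nat.card_zpowers] at d1
    rw [k.card] at d2
    omega
  have hq := mul_mem hw h0
  have h3 := conj_mem_cj (g := s).2 hq
  have hz : q0 * (s * (w * q0) * s⁻¹) * q0⁻¹ * (s * (w * q0) * s⁻¹)⁻¹ ∈ Q ⊓ cj s Q :=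
    mem_inf.2 ⟨by simpa only [mul_assoc] using mul_mem h0 (conj_mem_of_norm (k.syl.le (lA h3)) (inv_mem h0)),
      mul_mem (conj_mem_of_norm (nA (k.le h0)) h3) (inv_mem h3)⟩
  generalize ez : q0 * (s * (w * q0) * s⁻¹) * q0⁻¹ * (s * (w * q0) * s⁻¹)⁻¹ = z at hz
  have h4 := mul_mem h3 h1
  have e4 := h.four (hU.elt (mul_mem (lt.le (k.le hq)) hs))
  have e2 : (w * q0 * s) ^ 2 = w * z * (s * (w * q0) * s⁻¹ * a0) := by
    calc _ = w * (q0 * (s * (w * q0) * s⁻¹)) * (s * s) := by rw [pow_two]; group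
      _ = _ := by rw [e, ← ez, inv_eq_of_mul_eq_one_right (k.sq1 h0)]; group
  rw [show 4 = 2 * 2 from rfl, pow_mul, e2, pow_two] at e4
  have h5 := mul_mem hw hz.1
  have n4 : s * (w * q0) * s⁻¹ * a0 ∉ Q := fun m => nw (by
    have : s⁻¹ * (s * (w * q0) * s⁻¹ * a0) * s ∈ Q ⊓ cj s Q := ⟨mem_cj.1 h4, mem_cj.2 (by
      simpa only [mul_inv_rev, mul_assoc] using conj_mem_of_norm' (k.syl.le s2) m)⟩
    simpa only [mul_assoc, inv_mul_cancel_left, mul_inv_rev, mul_inv_cancel_left, inv_inv, mul_inv_cancel, mul_one]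
      using mul_mem (mem_sup_left this) (inv_mem (mem_sup_right (mem_zpowers (q0 * (s⁻¹ * a0 * s))))))
  have := nat _ (lA h4) n4 ⟨h5, mem_cent1.2 (by
    rw [← inv_eq_of_mul_eq_one_right e4, mul_inv_rev, inv_eq_of_mul_eq_one_right (k.sq1 h5),
      inv_eq_of_mul_eq_one_right ((pow_two _).symm.trans (hA.2 _ h4))])⟩
  exact nw (mem_sup_left ((mul_mem_cancel_right hz).1 ((eq_of_le_of_card_eq l (by
    rw [c6, k.cen a (lA ha) na])).ge ⟨h5, cent_le_cent1 (lA ha) this⟩)))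

end nat

section
variable (nn : ¬ ∀ r ∈ T, r ∉ Q → Q ⊓ C[r] ≤ C(T))
include nn

theorem cardZ : #(Q ⊓ C(T)) * 2 ≤ c := by
  push Not at nn
  obtain ⟨r, hr, n, nn⟩ := nn
  exact k.cen r hr n ▸ ((k.pg.of_le k.le).infl _).card_mul_le ((inf_le_inf_left _ (cent_le_cent1 hr)).lt_of_ne
    fun e => nn (e.ge.trans inf_le_right))

theorem small (l : A ≤ T) (hA : Ab A) (n : ¬ A ≤ Q) : #A ≤ 2 * c := by
  obtain ⟨c1, c2⟩ := k.card_le4 l
  by_cases e : Q.relIndex A = 4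
  · have := card_le (show Q ⊓ A ≤ Q ⊓ C(T) from le_inf inf_le_left (k.sup_eq l e ▸ cents_sup
      (cents_of_comm k.ab.1 inf_le_left le_rfl) (cents_of_comm hA inf_le_right le_rfl)))
    have := k.cardZ nn
    rw [c1, e]; omega
  obtain ⟨a, ha, na⟩ := SetLike.not_le_iff_exists.1 n
  have := card_le (show Q ⊓ A ≤ Q ⊓ C[a] from inf_le_inf_left _ fun x hx =>
    mem_cent1.2 (mul_comm_of_comm hA hx ha))
  rw [k.cen a (l ha) na] at this
  rcases (Nat.dvd_prime_pow Nat.prime_two (m := 2)).1 c2 with ⟨i, li, e'⟩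
  interval_cases i <;> rw [c1, e'] <;> omega

theorem uniq (l : A ≤ T) (hA : Ab A) (e : #Q ≤ #A) : A = Q := by
  refine eq_of_le_of_card_ge (by_contra fun n => ?_) e
  have := k.small nn l hA n
  have := k.c4
  rw [k.card] at e
  nlinarith

theorem syl_top : Syl 2 T ⊤ := k.syl.syl_of_norm_le le_top fun g hg => mem_norm_iff_cj.2
  (k.uniq nn (cj_le_of_mem_norm hg.2 k.le) (abelem_J k.ab g).1 (card_cj g Q).ge)

theorem cent_le (h : O G) {H : Subgroup G} (hH : C(Q ⊓ C(T)) = H) (ch : H ⊓ C(Oc {2} H) ≤ Oc {2} H) :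
    H ≤ N(Q) := by
  have TH : T ≤ H := hH ▸ cents_symm inf_le_right
  have sH : Syl 2 T H := (k.syl_top nn).of_le TH le_top
  have RT := Oc_le_hall sH
  have yH : y ∈ N(H) := hH ▸ norm_le_norm_cent _ (zpowers_le.1 (norms_inf (zpowers_le.2 k.yQ)
    (norms_cent (zpowers_le.2 k.yT))))
  have yR := norm_le_norm_Oc {2} H yH
  have nR := Oc_normal {2} H
  have mx : ∀ {X}, X ⊴ H → PG 2 X → X ≤ Oc {2} H := le_Oc
  have bs : (∀ g ∈ H, PG 2 (Q ⊔ cj g Q : Subgroup G)) → Q ≤ Oc {2} H := fun e => pCore_map_eq Nat.prime_two H ▸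
    H1.baer_suzuki_of (k.le.trans TH) fun g hg => (e g hg).isPGroup
  generalize Oc {2} H = R at *
  have pR := k.pg.of_le RT
  by_cases QR : Q ≤ R
  · exact fun g hg => mem_norm_iff_cj.2 (k.uniq nn ((cj_le_of_mem_norm (nR.norm hg) QR).trans RT)
      (abelem_J k.ab g).1 (card_cj g Q).ge)
  exfalso
  obtain ⟨g, hg, ng⟩ : ∃ g ∈ H, ¬ PG 2 (Q ⊔ cj g Q : Subgroup G) := by
    by_contra! e
    exact QR (bs e)
  have l0 : cj g (Q ⊓ R) ≤ R := cj_le_of_mem_norm (nR.norm hg) inf_le_right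
  have ab0 : Ab (cj g (Q ⊓ R)) := comm_cj.2 (comm_mono k.ab.1 inf_le_left)
  have n0 : ¬ cj g (Q ⊓ R) ≤ Q := fun l => ng fun p hp d => by_contra fun p2 => by
    have e := eq_of_le_of_card_eq (le_inf l l0) (card_cj ..)
    have c1 : Q ≤ C(Q ⊓ R) := cents_of_comm k.ab.1 le_rfl inf_le_left
    have c2 : cj g Q ≤ C(Q ⊓ R) := by rw [← e, ← cj_cent]; exact cj_mono g c1
    have d1 : ⁅R, Q⁆ ≤ Q ⊓ R := inf_comm R Q ▸ commg_le_inf (nR.norms (k.le.trans TH)) (RT.trans k.syl.le)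
    have d2 : ⁅R, cj g Q⁆ ≤ Q ⊓ R := by rw [← e, ← nR.cj_eq hg, ← cj_comm, nR.cj_eq hg]; exact cj_mono g d1
    obtain ⟨X, hX⟩ := exists_el1 hp d
    have := cents_of_stable ((pR.infr Q).coprime (hX.pg.sing_ne p2)) (hX.le.trans (sup_le c1 c2))
      ((commutator_mono le_rfl hX.le).trans (commg_sup_right_le d1 d2 (norms_of_cents c1) (norms_of_cents c2)))
    exact p2 (hX.self.mem_pi (pR.of_le ((le_inf (hX.le.trans (sup_le (k.le.trans TH)
      (cj_le_of_mem hg (k.le.trans TH)))) this).trans ch)))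
  have c0 := k.small nn (l0.trans RT) ab0 n0
  rw [card_cj] at c0
  obtain ⟨a, ha, na⟩ := SetLike.not_le_iff_exists.1 n0
  have aT := RT (l0 ha)
  obtain ⟨z, hz, z1⟩ := exists_ne_one ((k.pg.of_le k.le).meet_cent k.pg k.syl.le fun e => by
    have := k.c4
    have := k.card
    rw [e, card_bot] at this
    nlinarith)
  have cZ := k.cardZ nn
  by_cases d9 : 3 ^ 2 ∣ #H
  · obtain ⟨E, hE⟩ := h.el2 Nat.prime_three (by decide) d9
    have dR : ∀ v ∈ ⁅R, R⁆, v ∈ Q ⊓ C(T) := fun v hv => by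
      have d0 : ⁅R, R⁆ ≤ Q ⊓ R := le_inf ((der_mono RT).trans (der_le_of_sq k.sq)) (der_le R)
      have d1 : ⁅R, R⁆ ≤ C[a] := fun v hv => mem_cent1.2 (mul_comm_of_comm ab0
        (cj_mono g d0 ((cj_of_mem_norm (norms_der nR.norm hg)).ge hv)) ha)
      exact ⟨(d0 hv).1, k.cent (d0 hv).1 aT na (d1 hv) (cj_cent1 y a ▸ cj_mono y d1
        ((cj_of_mem_norm (zpowers_le.1 (norms_der (zpowers_le.2 yR)))).ge hv))⟩
    have abX : ∀ {X}, El 3 1 X E → Ab (R ⊓ C(X) : Subgroup G) := fun hX => by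
      obtain ⟨x, -, o, rfl⟩ := hX.exists_gen
      exact (abelem_of_sq (P := R ⊓ C(zpowers x)) fun v hv =>
        h.c3 o (mem_cent1.1 (cent_zpowers x ▸ hv.2)) (pR.elt hv.1)).1
    have key : ∀ {X Y u v}, El 3 1 X E → El 3 1 Y E → u ∈ R ⊓ C(X) → v ∈ R ⊓ C(Y) → u * v = v * u := by
      intro X Y u v hX hY hu hv
      have aY := abX hY
      obtain ⟨e, -, o, rfl⟩ := hY.exists_gen
      have eE := hY.le (mem_zpowers e)
      have ne : e ∈ N(R ⊓ C(X)) := zpowers_le.1 (norms_inf (zpowers_le.2 (nR.norm (hE.le eE)))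
        (norms_of_le (zpowers_le.2 (cent_mono hX.le (hE.le_cent eE)))))
      have h1 := conj_mem_of_norm ne hu
      have h2 := conj_mem_of_norm ne h1
      have e3 : e * (e * (e * u * e⁻¹) * e⁻¹) * e⁻¹ = u := by
        calc _ = e ^ 3 * u * (e ^ 3)⁻¹ := by simp only [pow_succ, pow_zero]; group
          _ = u := by rw [← o, pow_orderOf_eq_one]; group
      have hw := dR _ (commutator_mem_commutator hu.1 hv.1)
      have cw : ∀ {g}, g ∈ H → ⁅u, v⁆ * g = g * ⁅u, v⁆ := fun m => mem_cent.1 (hH.ge m) _ hw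
      have ev : e * v * e⁻¹ = v := mem_cent1_conj'.1 (cent_zpowers e ▸ hv.2)
      have st : ∀ {u'}, u' * v = ⁅u, v⁆ * v * u' → e * u' * e⁻¹ * v = ⁅u, v⁆ * v * (e * u' * e⁻¹) := fun {u'} m => by
        calc _ = e * (u' * v) * e⁻¹ := by conv_lhs => rw [← ev]
                                          group
          _ = e * ⁅u, v⁆ * e⁻¹ * (e * v * e⁻¹) * (e * u' * e⁻¹) := by rw [m]; group
          _ = _ := by rw [ev, ← cw (hE.le eE), mul_inv_cancel_right]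
      have s0 : u * v = ⁅u, v⁆ * v * u := by rw [commutatorElement_def]; group
      have s1 := st s0
      have s2 := st s1
      have s3 : u * (e * u * e⁻¹) * (e * (e * u * e⁻¹) * e⁻¹) ∈ R ⊓ C(zpowers e) :=
        ⟨(mul_mem (mul_mem hu h1) h2).1, cent_zpowers e ▸ mem_cent1_conj'.2 (by
          rw [← conj_mul, ← conj_mul, e3, mul_comm_of_comm (abX hX) (mul_mem h1 h2) hu, mul_assoc u])⟩
      have s4 := mul_comm_of_comm aY s3 hv
      have w2 := k.sq1 hw.1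
      have c1 := cw (nR.le hu.1)
      have c2 := cw (nR.le h1.1)
      have c3 := cw (nR.le hv.1)
      rw [← commutatorElement_eq_one_iff_mul_comm]
      generalize ⁅u, v⁆ = w at *
      generalize e * (e * u * e⁻¹) * e⁻¹ = u2 at *
      generalize e * u * e⁻¹ = u1 at *
      rw [mul_assoc, s2, mul_assoc u, ← mul_assoc u1, ← mul_assoc u1, ← c2, mul_assoc w, s1, ← mul_assoc w,
        ← mul_assoc w, w2, one_mul, ← mul_assoc, ← mul_assoc, s0] at s4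
      simpa only [mul_assoc, mul_eq_right] using s4
    have gen : ∀ {L}, (∀ X, El 3 1 X E → R ⊓ C(X) ≤ L) → R ≤ L :=
      hE.le_of_cent_le (nR.norms hE.le) (pR.sing_ne (by decide))
    have abR : R ≤ C(R) := gen fun Y hY v hv => le_cent1_iff.1 (gen fun X hX u hu => mem_cent1.2 (key hX hY hu hv))
    have := card_le (show Q ⊓ C[a] ≤ Q ⊓ C(T) from fun v hv => ⟨hv.1, k.cent hv.1 aT na hv.2 (by
      obtain ⟨q, hq, rfl⟩ := k.com a aT na v hv
      refine cent_le_cent1 (conj_mem_of_norm yR (l0 ha)) (abR ?_)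
      simpa only [mul_assoc, inv_eq_of_mul_eq_one_right (k.sq1 hq)] using
        mul_mem (nR.conj_mem (TH (k.le hq)) (l0 ha)) (inv_mem (l0 ha)))⟩)
    have := k.c4
    rw [k.cen a aT na] at *
    omega
  have nT : ¬ H ≤ N(T) := fun e => QR (k.le.trans (mx ⟨TH, e⟩ k.pg))
  have i3 : T.relIndex H = 3 := by
    have d := relIndex_dvd_card T H
    obtain ⟨j, e⟩ := PiN.exists_pow (p := 3) (fun p hp d' => by
      obtain ⟨x, hx, o⟩ := exists_orderOf_eq_prime hp (d'.trans d)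
      rcases h.prime hp (o ▸ orderOf_dvd_natCard x) with rfl | rfl | rfl
      · exact (sH.not_dvd hp d').elim
      · rfl
      · exact (z1 (h.eq1 o (mem_cent.1 (hH.ge hx) z hz)
          (((k.pg.of_le k.le).sing_ne (by decide)).elt hz.1))).elim) (relIndex_ne_zero' T H)
    rcases j with _ | _ | j
    · exact (nT ((relIndex_eq_one.1 e).trans le_normalizer)).elim
    · exact e
    · exact (d9 ((Dvd.intro (3 ^ j) (by rw [e]; ring)).trans d)).elim
  have i6 : R.relIndex H ≤ 6 := by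
    have c : (T.subgroupOf H).normalCore.index ≤ 6 := by
      rw [normalCore_eq_ker, index_ker]
      exact (card_le_card_group _).trans (by rw [Nat.card_perm, ← index, ← relIndex, i3]; decide)
    refine le_trans (Nat.le_of_dvd (Nat.pos_of_ne_zero index_ne_zero_of_finite) (index_dvd_of_le
      (map_le_iff_le_comap.1 (mx (normalIn_map_subtype _) (k.pg.of_le ?_))))) c
    exact map_le_iff_le_comap.2 (normalCore_le _)
  rw [← relIndex_mul_relIndex R T H RT TH, i3] at i6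
  have c1 := card_inf_mul_relIndex R Q
  have c2 := Nat.le_of_dvd (relIndex_pos R T) (relIndex_dvd_of_norm (nR.norms (k.le.trans TH)) RT k.le)
  have c3 := ne_bot_iff_one_lt_card.1 (ne_bot_of_mem hz z1)
  rw [k.card, inf_comm] at c1
  have c4 : c ≤ 4 := by
    have := k.c4
    nlinarith
  have p3 : PG 3 (zpowers y) := .of_card Nat.prime_three (by rw [Nat.card_zpowers, k.y3])
  have yH' : y ∈ H := hH.le (zpowers_le.1 (cent_el1 (el1_mk Nat.prime_two le_top (by omega)) p3 (norms_inf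
    (zpowers_le.2 k.yQ) (norms_cent (zpowers_le.2 k.yT))) (by decide)))
  rcases eq_of_prime_index (le_inf TH le_normalizer) inf_le_left (i3 ▸ Nat.prime_three) with e | e
  · exact absurd (k.pg.elt (e.le ⟨yH', k.yT⟩) 3 Nat.prime_three k.y3.symm.dvd) (by simp)
  · exact nT (inf_eq_left.1 e)

end

end Cf

end H5.O6
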