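import Cfsg.Agent.H5.O61
import Cfsg.Agent.H11.Small
import Cfsg.Agent.H11.SUBasic
import Cfsg.Agent.H11.SpSimple

/-! # The known simple groups with element orders at most `6` -/

set_option autoImplicit false
set_option linter.unusedSectionVars false

open Cfsg
namespace H5.O6

open H19 Subgroup H5 H5.FP H2.GW
open scoped Pointwise commutatorElement MatrixGroups

universe u

variable {G : Type u} [Group G] [Finite G] {F : Type} [Field F] [Fintype F] {d n q : ℕ}

namespace O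
variable (h : O G)
include h

theorem sm (hd : d ∣ 6) (e : n ∣ d * Nat.card G) (h2 : ¬ 2 ∣ n) (h5 : ¬ 5 ∣ n) (h9 : ¬ 9 ∣ n) : n = 1 ∨ n = 3 := by
  obtain ⟨j, rfl⟩ := PiN.exists_pow (p := 3) (fun p hp d' => by
    rcases (hp.dvd_mul.1 (d'.trans e)).elim (fun k => ((hp.dvd_mul (m := 2) (n := 3)).1 (k.trans hd)).imp
      (Nat.prime_dvd_prime_iff_eq hp Nat.prime_two).1 fun k =>
        .inl ((Nat.prime_dvd_prime_iff_eq hp Nat.prime_three).1 k)) (h.prime hp) with rfl | rfl | rfl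
    exacts [(h2 d').elim, rfl, (h5 d').elim]) (by rintro rfl; simp at h2 : n ≠ 0)
  rcases j with _ | _ | j
  exacts [.inl rfl, .inr rfl, (h9 (Dvd.intro (3 ^ j) (by ring))).elim]

theorem sq3 (hd : d ∣ 6) (e : q ^ 2 + q + 1 ∣ d * Nat.card G) : q ≤ 1 := by
  have k : ∀ m, 0 < m → (∀ r < m, (r ^ 2 + r + 1) % m ≠ 0) → ¬ m ∣ q ^ 2 + q + 1 := fun m l k d =>
    k _ (Nat.mod_lt q l) (by rw [← Nat.mod_eq_zero_of_dvd d]; simp [Nat.add_mod, Nat.pow_mod])
  have := h.sm hd e (k 2 two_pos (by decide)) (k 5 (by decide) (by decide)) (k 9 (by decide) (by decide))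
  by_contra l
  rcases this with k | k <;> nlinarith

theorem ord7 {p : ℕ} (hp : p.Prime) (l : 6 < p) (e : Nat.card G = n) : ¬ p ∣ n := fun d => by
  rcases h.prime hp (e ▸ d) with rfl | rfl | rfl <;> omega

theorem l2 (c : 4 ≤ Fintype.card F) (e : G ≃* PSL(2, F)) : Ty G := by
  obtain ⟨p, hp⟩ := CharP.exists F
  haveI := Fact.mk (CharP.char_is_prime F p)
  have k := h _ ((ord_congr e).2 ((psl2_ord p).2 (.inr (.inr dvd_rfl))))
  have o := H11.card_psl_two (F := F)
  rw [← Nat.card_congr e.toEquiv] at o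
  have l : Fintype.card F ≤ 12 := by
    have := Nat.div_le_div_left (a := Fintype.card F + 1) (Nat.le_of_dvd two_pos
      (Nat.gcd_dvd_left 2 (Fintype.card F - 1))) (Nat.gcd_pos_of_pos_left _ two_pos)
    omega
  have a := fun (k : Nonempty (PSL(2, F) ≃* alternatingGroup (Fin 5))) => (.inl (k.map e.trans) : Ty G)
  obtain ⟨q, hq⟩ : ∃ q, Fintype.card F = q := ⟨_, rfl⟩
  rw [hq] at c k o l
  interval_cases q
  any_goals (revert k; simp; done)
  · exact a (H11.nonempty_psl2_four_equiv hq)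
  · exact a (H11.nonempty_psl2_five_equiv hq)
  · exact (h.ord7 (p := 7) (n := 168) (by norm_num) (by decide) (by norm_num at o; omega) (by decide)).elim
  · exact .inr ((H11.nonempty_psl2_nine_equiv hq).map e.trans)
  · exact (h.ord7 (p := 11) (n := 660) (by norm_num) (by decide) (by norm_num at o; omega) (by decide)).elim

theorem l3 (e : G ≃* PSL(3, F)) : False := by
  have o := H11.card_psl (ι := Fin 3) (F := F)
  have o' := H11.card_units_mul_card_sl (ι := Fin 3) (F := F)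
  rw [Matrix.card_GL_field, Fin.prod_univ_three, ← o, ← Nat.card_congr e.toEquiv] at o'
  obtain ⟨r, hr⟩ : ∃ r, Fintype.card F = r + 1 + 1 := ⟨Fintype.card F - 2, by have := Fintype.one_lt_card (α := F); omega⟩
  simp only [hr, Fintype.card_fin, Nat.add_sub_cancel, Fin.val_zero, pow_zero] at o'
  rw [show (r + 1 + 1) ^ 3 - 1 = (r + 1) * ((r + 2) ^ 2 + (r + 2) + 1) from Nat.sub_eq_of_eq_add (by ring),
    mul_assoc, mul_assoc] at o'
  have := h.sq3 ((Nat.gcd_dvd_left 3 _).trans (by decide)) (Dvd.intro _ (Nat.eq_of_mul_eq_mul_left r.succ_pos o').symm)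
  omega

theorem u3 (c : Fintype.card F = q ^ 2) (l : 3 ≤ q) (e : G ≃* PSU 3 F q) : False := by
  have o := H11.card_psu c (n := 3) (by decide)
  obtain ⟨r, rfl⟩ : ∃ r, q = r + 1 := ⟨q - 1, by omega⟩
  rw [← Nat.card_congr e.toEquiv, Finset.prod_range_succ, if_pos (by decide), Finset.prod_range_succ,
    Finset.prod_range_one, if_pos (by decide), show (r + 1) ^ (2 + 1) + 1 = (r + 1 + 1) * (r ^ 2 + r + 1) by ring,
    mul_left_comm, zero_add, pow_one, mul_assoc, mul_left_comm _ (r + 1 + 1)] at o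
  have := h.sq3 ((Nat.gcd_dvd_left 3 _).trans (by decide)) ((Nat.eq_of_mul_eq_mul_left (by omega) o).symm ▸
    ((Dvd.intro_left _ rfl).mul_left _).mul_left _)
  omega

theorem sz (k : IsSuzuki G) : False := by
  obtain ⟨-, m, hm, e⟩ := k
  have k : 4 ^ m % 15 = 1 ∨ 4 ^ m % 15 = 4 := by
    clear hm e
    induction m with
    | zero => simp
    | succ m ih => rw [pow_succ]; omega
  have := Nat.pow_le_pow_right (show 0 < 4 by decide) hm
  rw [show 2 ^ (2 * m + 1) = 2 * 4 ^ m by rw [pow_succ, pow_mul, mul_comm]; rfl] at e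
  have := h.sm (d := 1) (n := 2 * 4 ^ m - 1) (by decide) (by rw [one_mul, e]; exact Dvd.intro_left _ rfl)
  omega

theorem sp4 (c : 2 ∣ Fintype.card F) (l : 4 ≤ Fintype.card F) (e : G ≃* PSp 2 F) : False := by
  have o := H11.card_psp (F := F) (m := 2) (by decide)
  obtain ⟨r, hr⟩ : ∃ r, Fintype.card F = r + 1 := ⟨Fintype.card F - 1, by omega⟩
  rw [← Nat.card_congr e.toEquiv, Finset.prod_range_succ, Finset.prod_range_one, hr,
    show (r + 1) ^ (2 * (1 + 1)) - 1 = r * ((r + 2) * (r * r + 2 * r + 2)) from Nat.sub_eq_of_eq_add (by ring)] at o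
  rw [hr] at c l
  have k := fun n (d : n ∣ r * ((r + 2) * (r * r + 2 * r + 2))) =>
    h.sm ((Nat.gcd_dvd_left 2 _).trans (by decide)) (o ▸ (d.mul_left _).mul_left _)
  have k1 := k _ (Dvd.intro _ rfl)
  have k2 := k _ ((Dvd.intro _ rfl).mul_left r)
  have k3 := k _ ((Dvd.intro_left _ rfl).mul_left r)
  have m : ∀ n, r * r % n = r % n * (r % n) % n := fun n => Nat.mul_mod r r n
  have m2 := m 2
  have m3 := m 3
  have m5 := m 5
  have : r * r ≥ 1 := Nat.mul_pos (by omega) (by omega)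
  generalize r * r = s at *
  obtain h3 | h3 | h3 : r % 3 = 0 ∨ r % 3 = 1 ∨ r % 3 = 2 := by omega
  all_goals
    obtain h5 | h5 | h5 | h5 | h5 : r % 5 = 0 ∨ r % 5 = 1 ∨ r % 5 = 2 ∨ r % 5 = 3 ∨ r % 5 = 4 := by omega
    all_goals
      rw [show r % 2 = 1 by omega] at m2
      rw [h3] at m3
      rw [h5] at m5
      omega

end O

end H5.O6
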