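import Cfsg.Agent.H1.PA0
import Cfsg.Agent.H0.TRX
import Cfsg.Agent.H15.Ru
import Cfsg.Agent.H16.T.ON
import Cfsg.Agent.H16.P.ONL

/-! S2198: elements of the Rudvalis and O'Nan groups. -/

set_option autoImplicit false
set_option maxRecDepth 100000

namespace H5.PA
open Cfsg H16 H0.TR H1.PA

theorem six {G : Type} [Group G] [Finite G] {a h : G} (e : h * h = 1) (n : (a * h * a * h) ^ 60 ≠ 1) :
    ∃ h, 6 < orderOf (a * (h * a * h⁻¹)) := ⟨h, not_le.1 fun l => n (by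
  rw [inv_eq_of_mul_eq_one_right e, ← mul_assoc, ← mul_assoc] at l
  have := orderOf_pos (a * h * a * h)
  rw [← orderOf_dvd_iff_pow_eq_one]
  generalize orderOf (a * h * a * h) = k at *
  interval_cases k <;> decide)⟩

/-- the word for `(a h a h) ^ 60` -/
def sx (a h : ℕ) : List ℕ := (List.replicate 60 [h, a, h, a]).flatten

def Wr : List (List ℕ) := [[4, 1, 1, 3, 1, 2, 5, 0, 3, 0, 5, 0, 5, 6, 5, 0, 0, 5, 1, 1, 4], [1, 1, 1, 3, 3, 1, 3, 3, 0, 0, 5,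
  1, 1, 4, 5, 0, 2, 6, 5, 6, 0, 5, 0, 2], [0, 4, 0, 2, 3, 5, 1, 3, 0, 0, 6, 5, 6, 0, 5, 6, 5, 1, 5], [6]]
def Er : List (List ℕ × List ℕ) := [([0, 0], []), ([3, 3], []), ([1, 1], []), ([0, 1], [1, 0]), ([2, 2, 2, 2, 2, 2, 2, 2, 2,
  2, 2, 2, 2], []), ([0, 2], [2, 0]), ([1, 2], [2, 1])]

theorem rc : allL (ltAll 7) Wr = true ∧ (∀ d ∈ Er, eqL (wdsP H15.Ru.P Wr) 4 H15.Ru.B d.1 d.2 = 0) ∧
    ∀ d ∈ [(sx 0 3, []), ([1], []), ([1], [0]), ([2], [])], 0 < 4060 ∧ ltAll 4 d.1 = 0 ∧ ltAll 4 d.2 = 0 ∧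
      apW (wdsP H15.Ru.P Wr) d.1 0 ≠ apW (wdsP H15.Ru.P Wr) d.2 0 := by decide +kernel

theorem rp0 : RP0 := by
  obtain ⟨_, g, M, -⟩ := exists_md H15.Ru.act (ptF_inj 4060) H15.Ru.card H15.Ru.isBase (by decide +kernel) H15.RuL.equiv.symm
  have := M.fin
  have e := fun d h => M.eq_of (M.wact rc.1) (rc.2.1 d h)
  have n := fun d h => M.nrel (M.wact rc.1) 0 (rc.2.2 d h)
  generalize wds g Wr = x at e n
  simp only [Er, sx, List.forall_mem_cons, evA_replicate_flatten, evA_cons, evA_nil, one_mul] at e n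
  obtain ⟨e1, e2, e3, e4, e5, e6, e7, -⟩ := e
  have := Fact.mk (show Nat.Prime 13 by norm_num)
  exact ⟨x 0, x 1, x 2, e1, six e2 n.1, e3, n.2.1, n.2.2.1, e4, orderOf_eq_prime (by simpa only [pow_succ, pow_zero, one_mul]) n.2.2.2.1,
    e6, e7⟩

def Wo : List (List ℕ) := [[0, 4, 0, 1, 0, 1, 4, 0, 1, 2, 4, 5, 1, 0, 1, 4, 0, 1, 2, 4], [0, 3], [0, 2, 4, 0, 1, 0, 4, 5, 1,
  0, 1, 4, 0, 1, 0, 4, 5, 1, 0, 3, 4, 2], [1, 4, 0, 1, 0, 2, 4, 5, 1, 0, 1, 0, 4, 0, 5, 1, 0, 4], [2, 3, 4, 0, 1, 5, 1, 0, 1,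
  4, 0, 1, 5, 1, 0, 1, 4, 0, 1, 0, 5, 1, 3, 6, 9, 0, 8, 5, 1, 7], [5, 1, 0, 1, 0, 4, 0, 1, 5, 3], [0, 1, 0, 1, 0, 4, 0, 1, 2,
  4, 5, 1, 0, 1, 0, 4, 0, 1, 5, 1, 0, 1, 4, 0, 5, 1, 0, 1], [1], [1, 0, 2, 3, 5, 1, 0, 1, 0, 4, 0, 5, 1, 0, 1, 4, 0, 2, 4, 5,
  1, 0, 3, 5, 6, 4, 2, 8, 8, 1], [5, 1, 0, 1, 4, 0, 1, 5, 1, 0, 3, 4, 5, 1, 0, 1, 5, 8, 0, 4, 9, 9, 5], [0, 1, 0, 1, 0, 5, 1,
  0, 3, 4, 5, 1, 0, 4, 9, 8, 1, 8, 0, 8, 5], [0, 1, 0, 1, 2, 5, 1, 0, 3, 4, 5, 1, 0, 4, 9, 8, 1, 8, 0, 8, 5], [0, 4, 5, 1, 0,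
  1, 4, 0, 1, 0, 4, 5, 1, 0, 1, 6, 5, 8, 9, 2, 7, 5], [0, 1, 0, 5, 1, 0, 3, 4, 2, 5, 1, 0, 1, 5, 3, 6, 4, 8, 1, 8, 2, 8], [0,
  3], [1, 0, 3, 5, 1, 0, 3, 4, 2, 5, 1, 0, 1, 5, 3, 6, 4, 8, 1, 8, 2, 8], [3, 4, 5, 1, 0, 1, 4, 0, 1, 0, 4, 5, 1, 0, 1, 6, 5,
  8, 9, 2, 7, 5]]
def Eo : List (List ℕ × List ℕ) := [([0, 0], []), ([7, 7], []), ([0, 1], [1, 0]), ([0, 8], [8, 1]), ([0, 9], [9, 0, 1]), ([2,
  2, 2, 2, 2, 2, 2], []), ([0, 2], [2, 0]), ([2, 5], [5, 2]), ([2, 6], [6, 2]), ([6, 5], [5, 6, 2]), ([0, 3], [3, 0]), ([0,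
  4], [4, 0]), ([3, 3, 3], []), ([4, 4, 4], []), ([4, 3], [3, 4]), ([2, 3], [3, 2, 2]), ([0, 10], [10, 0]), ([4, 10], [10,
  3]), ([0, 11], [11, 0]), ([4, 4, 11], [11, 3]), ([0, 12], [12, 0]), ([4, 3, 12], [12, 3]), ([0, 13], [13, 0]), ([4, 4, 3,
  13], [13, 3]), ([0, 14], [14, 0]), ([3, 3, 14], [14, 3]), ([0, 15], [15, 0]), ([4, 3, 3, 15], [15, 3]), ([0, 16], [16, 0]),
  ([4, 4, 3, 3, 16], [16, 3])]

theorem oc : allL (ltAll 10) Wo = true ∧ (∀ d ∈ Eo, eqL (wdsP TON.P Wo) 17 TON.B d.1 d.2 = 0) ∧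
    ∀ d ∈ [(sx 0 7, []), ([2], [])], 1 < 122760 ∧ ltAll 17 d.1 = 0 ∧ ltAll 17 d.2 = 0 ∧
      apW (wdsP TON.P Wo) d.1 1 ≠ apW (wdsP TON.P Wo) d.2 1 := by decide +kernel

theorem op0 : OP0 := by
  obtain ⟨_, g, M, -⟩ := exists_md TON.act TON.inj TON.card TON.isBase ⟨TON.Blt, by decide⟩
    ((MulEquiv.subgroupCongr TON.gen_eq).trans PON.equiv.symm)
  have := M.fin
  have e := fun d h => M.eq_of (M.wact oc.1) (oc.2.1 d h)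
  have n := fun d h => M.nrel (M.wact oc.1) 1 (oc.2.2 d h)
  generalize wds g Wo = x at e n
  simp only [Eo, sx, List.forall_mem_cons, evA_replicate_flatten, evA_cons, evA_nil, one_mul] at e n
  obtain ⟨e1, e2, e3, e4, e5, e6, e7, e8, e9, f1, f2, f3, f4, f5, f6, f7, g1, g2, g3, g4, g5, g6, g7, g8, g9, h1, h2, h3, h4,
    h5, -⟩ := e
  have := Fact.mk Nat.prime_seven
  refine ⟨x 0, x 1, x 2, x 3, x 4, x 5, x 6, e1, six e2 n.1, e3, isConj_iff.2 ⟨_, mul_inv_eq_iff_eq_mul.2 e4⟩,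
    isConj_iff.2 ⟨_, mul_inv_eq_iff_eq_mul.2 e5⟩, orderOf_eq_prime (by simpa only [pow_succ, pow_zero, one_mul]) n.2.1, e7, e8,
    e9, ⟨0, by rw [commutatorElement_def, f1]; group⟩, by simp, by simp, by simp, by simp, by simp, by simp, f2, f3,
    ⟨0, by simpa only [pow_succ, pow_zero, one_mul]⟩, ⟨0, by simpa only [pow_succ, pow_zero, one_mul]⟩, ⟨0, by simpa⟩,
    by rw [f7, sq, mul_inv_cancel_right], fun i a j b c => ?_⟩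
  have k : ∀ {g y : Cfsg.Spor.ON}, g * x 0 = x 0 * g → g * y = x 3 * g →
      ∃ g, ∃ k : ℕ, g * x 0 = x 0 * g ∧ g * 1 = g ∧ g * y * g⁻¹ = x 3 * 1 ^ k := fun a b => ⟨_, 0, a, by simp, by simp [b]⟩
  interval_cases i <;> interval_cases j <;> simp only [pow_succ, pow_zero, one_mul, mul_one (x 3), mul_one (x 3 * x 3)]
  exacts [absurd rfl c, k g1 g2, k g3 (by simpa only [mul_assoc] using g4), k (g := 1) (by simp) (by simp), k g5 (by simpa only [mul_assoc] using g6),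
    k g7 (by simpa only [mul_assoc] using g8), k g9 (by simpa only [mul_assoc] using h1), k h2 (by simpa only [mul_assoc] using h3),
    k h4 (by simpa only [mul_assoc] using h5)]

end H5.PA
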