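import Mathlib.Tactic

/-! Groups of order `|PSL₂(p²)|` with a character of degree `p²`: arithmetic. -/

set_option autoImplicit false

namespace H5.PP

variable {p n d e k r : ℕ}

theorem a1 (hp : 1 < p) (h : d ∣ p * p + 1) (e1 : d ≡ 1 [MOD p]) : d = 1 ∨ d = p * p + 1 := by
  obtain ⟨e, he⟩ := h
  have h1 : e ≡ 1 [MOD p] := by
    have h2 : d * e ≡ 1 * e [MOD p] := e1.mul_right e
    rw [← he, one_mul] at h2
    exact h2.symm.trans (by simp [Nat.ModEq, Nat.mul_add_mod])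
  rw [Nat.ModEq, Nat.mod_eq_of_lt hp] at e1 h1
  have h3 := Nat.div_add_mod d p
  have h4 := Nat.div_add_mod e p
  rw [e1] at h3
  rw [h1] at h4
  generalize d / p = a at h3
  generalize e / p = b at h4
  subst h3 h4
  rcases a with _ | a
  · simp
  rcases b with _ | b
  · right; simpa using he.symm
  exfalso; nlinarith [Nat.zero_le (a * p), Nat.zero_le (b * p), Nat.zero_le (a * b * p * p),
    Nat.zero_le (a * p * p), Nat.zero_le (b * p * p)]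

theorem a2 (hp : 1 < p) (hk : p * p = k + 1) (h : d ∣ k) (e1 : d ≡ 1 [MOD p]) : d = 1 ∨ d = p + 1 := by
  obtain ⟨e, he⟩ := h
  have h1 : p ∣ e + 1 := by
    have h2 : d * e + 1 ≡ 1 * e + 1 [MOD p] := (e1.mul_right e).add_right 1
    rw [← he, one_mul, ← hk] at h2
    exact (Nat.modEq_zero_iff_dvd).1 (h2.symm.trans (by simp [Nat.ModEq]))
  rw [Nat.ModEq, Nat.mod_eq_of_lt hp] at e1
  have h3 := Nat.div_add_mod d p
  rw [e1] at h3
  generalize d / p = a at h3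
  obtain ⟨b, hb⟩ := h1
  subst h3
  rcases a with _ | _ | a
  · simp
  · simp
  exfalso
  rcases b with _ | b
  · simp at hb
  have h5 : p ≤ e + 1 := by nlinarith [Nat.zero_le (p * b)]
  nlinarith [Nat.zero_le (a * p * e), Nat.zero_le (p * e)]

theorem odd_p (hn : p * p = 2 * n + 1) : Odd p := by
  rcases Nat.even_or_odd p with ⟨k, rfl⟩ | h
  · exfalso
    have : (k + k) * (k + k) = 2 * (2 * (k * k)) := by ring
    omega
  · exact h

theorem even_n (hn : p * p = 2 * n + 1) : Even n := by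
  obtain ⟨k, rfl⟩ := odd_p hn
  exact ⟨k * k + k, by nlinarith⟩

theorem cop_m (hn : p * p = 2 * n + 1) : p.Coprime ((2 * n + 2) * n) := by
  refine Nat.Coprime.mul_right ?_ ?_
  · rw [show 2 * n + 2 = 1 + p * p by omega, Nat.coprime_add_mul_left_right]; simp
  · refine Nat.Coprime.coprime_dvd_right (Dvd.intro_left 2 rfl) ?_
    exact (Nat.coprime_of_mul_modEq_one p (show p * p ≡ 1 [MOD 2 * n] by
      rw [hn]; simp [Nat.ModEq]))

theorem a3 (hp : 1 < p) (hn : p * p = 2 * n + 1) (h : d ∣ (2 * n + 2) * n) (e1 : d ≡ 1 [MOD p * p]) :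
    d = 1 ∨ d = 2 * n + 2 := by
  have := a2 (p := p * p) (k := 2 * ((2 * n + 2) * n)) (by nlinarith) (by rw [hn]; ring)
    (h.mul_left 2) e1
  omega

theorem a4 (hp : 1 < p) (hn : p * p = 2 * n + 1) (hr : r.Prime) (h : r ^ k ∣ (2 * n + 2) * n)
    (e1 : r ^ k ≡ 1 [MOD p]) (h1 : r ^ k ≠ 1) : r = 2 ∧ r ^ k = p + 1 := by
  obtain ⟨t, ht⟩ := odd_p hn
  obtain ⟨s, hs⟩ := even_n hn
  rcases hr.eq_two_or_odd' with rfl | ho
  · refine ⟨rfl, (a2 hp hn ?_ e1).resolve_left h1⟩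
    have c : (2 ^ k).Coprime (n + 1) := Nat.Coprime.pow_left _ (Odd.coprime_two_left ⟨s, by omega⟩)
    exact c.dvd_of_dvd_mul_left (by rwa [show (n + 1) * (2 * n) = (2 * n + 2) * n by ring])
  exfalso
  have o := ho.pow (n := k)
  have h2 : r ^ k ∣ (n + 1) * n := o.coprime_two_right.dvd_of_dvd_mul_left
    (by rwa [show 2 * ((n + 1) * n) = (2 * n + 2) * n by ring])
  obtain ⟨u, hu⟩ := o
  rcases (Nat.Coprime.isPrimePow_dvd_mul (by simp) (hr.isPrimePow.pow fun e => h1 (by simp [e]))).1 h2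
    with h3 | h3
  · have := a1 hp (hn ▸ (show 2 * n + 1 + 1 = 2 * (n + 1) by ring) ▸ h3.mul_left 2) e1
    omega
  · have := a2 hp hn (h3.mul_left 2) e1
    omega

theorem a5 (h5 : 5 < p) (hn : p * p = 2 * n + 1) (hd : p + 1 = 2 ^ d) :
    ¬ (p + 1) * 4 ∣ p * p * ((2 * n + 2) * n) := fun h => by
  obtain ⟨s, hs⟩ := even_n hn
  obtain _ | _ | d := d
  · omega
  · omega
  obtain ⟨k, rfl⟩ : ∃ k, p = 4 * k + 3 := ⟨2 ^ d - 1, by
    have := Nat.one_le_two_pow (n := d); rw [pow_succ, pow_succ] at hd; omega⟩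
  have e : n = (2 * k + 1) * (4 * k + 3 + 1) := by nlinarith
  have h2 : 2 ∣ (4 * k + 3) * (4 * k + 3) * ((n + 1) * (2 * k + 1)) := by
    refine Nat.dvd_of_mul_dvd_mul_left (show 0 < (4 * k + 3 + 1) * 2 by omega) ?_
    convert h using 1
    · ring
    · nth_rw 3 [e]; ring
  have o1 : Odd (4 * k + 3) := ⟨2 * k + 1, by ring⟩
  exact ((o1.mul o1).mul ((show Odd (n + 1) from ⟨s, by omega⟩).mul ⟨k, rfl⟩)).not_two_dvd_nat h2

theorem a6 {c : ℤ} {q : ℕ} (hn : p * p = 2 * n + 1) (h : q ∣ p * p * ((2 * n + 2) * n)) (hc : (q : ℤ) ∣ p - c) :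
    (q : ℤ) ∣ c ^ 2 * (c ^ 4 - 1) := by
  have h1 : (q : ℤ) ∣ (p : ℤ) ^ 2 * (p ^ 4 - 1) := by
    have h2 : (q : ℤ) ∣ p * p * ((2 * n + 2) * n) := by exact_mod_cast h
    have h3 : (p : ℤ) * p = 2 * n + 1 := by exact_mod_cast hn
    have h5 := h2.mul_left 2
    rw [h3] at h5
    rw [show (p : ℤ) ^ 4 = (p * p) ^ 2 by ring, sq, h3]
    exact h5.trans (dvd_of_eq (by ring))
  have h4 : (p : ℤ) ≡ c [ZMOD q] := (Int.modEq_iff_dvd.2 hc).symm
  exact (Int.modEq_zero_iff_dvd).1 ((((h4.pow 2).mul ((h4.pow 4).sub_right 1)).symm).trans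
    (Int.modEq_zero_iff_dvd.2 h1))

theorem w1 {a s : ℕ} (hp : p.Prime) (h5 : 5 < p) (hn : p * p = 2 * n + 1) (hd : p + 1 = 2 ^ d) (ha : 2 ≤ a)
    (e : s = 2 ^ a * ((2 ^ a) ^ 2 - 1)) (h1 : p + 1 ∣ s) (h2 : p ∣ s) (h3 : s ∣ p * p * ((2 * n + 2) * n)) :
    False := by
  have o : Odd ((2 ^ a) ^ 2 - 1) := Nat.Even.sub_odd (Nat.one_le_pow _ _ (by positivity))
    ((Nat.even_pow.2 ⟨even_two, by omega⟩).pow_of_ne_zero two_ne_zero) odd_one
  have l1 : d ≤ a := (Nat.pow_dvd_pow_iff_le_right one_lt_two).1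
    ((o.coprime_two_left.pow_left d).dvd_of_dvd_mul_right (hd ▸ e ▸ h1))
  have l2 : a ≤ d + 1 := by
    by_contra! k
    refine a5 h5 hn hd (Dvd.dvd.trans ?_ ((Dvd.intro _ e.symm).trans h3))
    rw [hd, show 2 ^ d * 4 = 2 ^ (d + 2) by ring]
    exact pow_dvd_pow 2 k
  rcases l2.eq_or_lt with rfl | l2
  · rw [pow_succ, ← hd, show ((p + 1) * 2) ^ 2 = (p * (4 * p + 8) + 3) + 1 by ring, Nat.add_sub_cancel,
      show (p + 1) * 2 * (p * (4 * p + 8) + 3) = p * ((p + 1) * 2 * (4 * p + 8) + 6) + 6 by ring] at e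
    have := Nat.le_of_dvd (by norm_num) ((Nat.dvd_add_right (Dvd.intro _ rfl)).1 (e ▸ h2))
    obtain rfl : p = 6 := by omega
    exact absurd hp (by decide)
  obtain rfl : d = a := by omega
  rw [← hd, show (p + 1) ^ 2 = p * (p + 2) + 1 by ring, Nat.add_sub_cancel] at e
  have h4 := a6 (c := -2) hn (Dvd.dvd.trans ⟨(p + 1) * p, by rw [e]; ring⟩ h3 : p + 2 ∣ _) (by simp)
  have h6 : p + 2 ∣ 60 := Int.natCast_dvd_natCast.1 h4
  have := Nat.le_of_dvd (by norm_num) h6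
  have : d < 6 := (Nat.pow_lt_pow_iff_right one_lt_two).1 (by omega)
  obtain rfl : p = 2 ^ d - 1 := by omega
  interval_cases d <;> omega

theorem w2 {q s : ℕ} (h : q % 8 = 3 ∨ q % 8 = 5) (e : Nat.gcd 2 (q - 1) * s = q * (q ^ 2 - 1)) : ¬ 8 ∣ s := by
  rintro ⟨t, rfl⟩
  rw [Nat.gcd_eq_left (by omega)] at e
  obtain ⟨k, rfl | rfl⟩ : ∃ k, q = 8 * k + 3 ∨ q = 8 * k + 5 := ⟨q / 8, by omega⟩
  · rw [show (8 * k + 3) ^ 2 = 8 * (8 * k ^ 2 + 6 * k + 1) + 1 by ring, Nat.add_sub_cancel] at e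
    have : 2 * t = 2 * (32 * k ^ 3 + 36 * k ^ 2 + 13 * k + 1) + 1 := by nlinarith
    omega
  · rw [show (8 * k + 5) ^ 2 = 8 * (8 * k ^ 2 + 10 * k + 3) + 1 by ring, Nat.add_sub_cancel] at e
    have : 2 * t = 2 * (32 * k ^ 3 + 60 * k ^ 2 + 37 * k + 7) + 1 := by nlinarith
    omega

theorem w3 (m : ℕ) : ¬ 16 ∣ (3 ^ (2 * m + 1)) ^ 3 * ((3 ^ (2 * m + 1)) ^ 3 + 1) * (3 ^ (2 * m + 1) - 1) := by
  obtain ⟨k, e⟩ : ∃ k, 3 ^ (2 * m + 1) = 8 * k + 3 := ⟨3 ^ (2 * m + 1) / 8, by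
    have : 3 ^ (2 * m + 1) % 8 = 3 := by rw [pow_succ, pow_mul, Nat.mul_mod, Nat.pow_mod]; simp
    omega⟩
  rw [e, show 8 * k + 3 - 1 = 2 * (2 * (2 * k) + 1) by omega, show (8 * k + 3) ^ 3 * ((8 * k + 3) ^ 3 + 1) *
    (2 * (2 * (2 * k) + 1)) = 8 * ((2 * (4 * k + 1) + 1) ^ 3 * (2 * (64 * k ^ 3 + 72 * k ^ 2 + 27 * k + 3) + 1) *
      (2 * (2 * k) + 1)) by ring]
  exact fun h => (((odd_two_mul_add_one _).pow.mul (odd_two_mul_add_one _)).mul
    (odd_two_mul_add_one _)).not_two_dvd_nat (Nat.dvd_of_mul_dvd_mul_left (by norm_num : 0 < 8) h)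

/-- the output of the Brauer–Reynolds theorem -/
def Wd (p n a y : ℕ) : Prop := a < p * p → (n ∣ a ∧ y = p + 1) ∨ (p = 17 ∧ a = 240 ∧ y = 120)

variable {a b c f h s y : ℕ}

theorem lt_sq (h5 : 5 < p) (hn : p * p = 2 * n + 1) (d : a * h * c ∣ (2 * n + 2) * n) (l : b ≤ h * c) :
    a < p * p ∨ b < p * p := by
  have := Nat.le_of_dvd (by nlinarith) d
  by_contra! k
  nlinarith [Nat.mul_le_mul k.1 k.2, Nat.mul_le_mul_left a l]

theorem hc (h5 : 5 < p) (hn : p * p = 2 * n + 1) (d : a * h * c ∣ (2 * n + 2) * n) (e : n ∣ a) :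
    h * c ∣ 2 * n + 2 := by
  obtain ⟨k, rfl⟩ := e
  refine Nat.dvd_of_mul_dvd_mul_right (show 0 < n by nlinarith) (Dvd.dvd.trans ⟨k, by ring⟩ d)

theorem h17 (hn : 17 * 17 = 2 * n + 1) (d : 240 * h * c ∣ (2 * n + 2) * n) : h * c ∣ 174 := by
  obtain rfl : n = 144 := by omega
  exact Nat.dvd_of_mul_dvd_mul_left (show 0 < 240 by omega) (by rwa [← mul_assoc])

theorem nA (h5 : 5 < p) (hn : p * p = 2 * n + 1) (d : a * h * c ∣ (2 * n + 2) * n) (W : Wd p n a y)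
    (e : f * y = a) (l : f ∣ h) (l2 : y ≤ c) : False := by
  have h0 : 0 < h := Nat.pos_of_ne_zero fun e => by
    have := Nat.le_of_dvd (by nlinarith) d
    simp [e] at d
    nlinarith
  rcases W ((lt_sq h5 hn d (e ▸ Nat.mul_le_mul (Nat.le_of_dvd h0 l) l2)).elim id id) with
    ⟨h1, rfl⟩ | ⟨rfl, rfl, rfl⟩
  · obtain ⟨k, rfl⟩ := odd_p hn
    have h2 := (Dvd.intro _ rfl).trans (hc h5 hn d h1)
    obtain rfl : n = k * (2 * k + 1 + 1) := by nlinarith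
    have h3 := ((Nat.dvd_of_mul_dvd_mul_right (by omega) (e ▸ h1)).trans l).trans h2
    have := Nat.le_of_dvd two_pos ((Nat.dvd_add_right ⟨2 * (2 * k + 1 + 1), by ring⟩).1 h3)
    omega
  · obtain rfl : f = 2 := by omega
    obtain ⟨k, rfl⟩ := l
    have := Nat.le_of_dvd (by norm_num) (h17 hn d)
    nlinarith [show 0 < k by omega]

theorem nB (h5 : 5 < p) (hn : p * p = 2 * n + 1) (d : a * h * c ∣ (2 * n + 2) * n) (W : Wd p n a y)
    (a0 : 0 < a) (l : a + 2 ≤ c) (e : c ≡ s [MOD p]) (s2 : 2 ≤ s) (sp : s ≤ p) : False := by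
  have h0 : 0 < h := Nat.pos_of_ne_zero fun e => by
    simp [e] at d
    nlinarith
  rcases W ((lt_sq h5 hn d (b := a) (by nlinarith)).elim id id) with ⟨h1, rfl⟩ | ⟨rfl, rfl, rfl⟩
  · have h2 := Nat.le_of_dvd a0 h1
    obtain ⟨k, hk⟩ := (Dvd.intro_left _ rfl).trans (hc h5 hn d h1)
    obtain rfl : k = 1 := by
      rcases k with _ | _ | k
      · omega
      · rfl
      · nlinarith
    rw [show c = p * p + 1 by omega, Nat.ModEq, Nat.mul_add_mod, Nat.mod_eq_of_lt (by omega)] at e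
    rcases sp.eq_or_lt with rfl | sp
    · simp at e
    · rw [Nat.mod_eq_of_lt sp] at e; omega
  · have := Nat.le_of_dvd (by norm_num) (h17 hn d)
    nlinarith

theorem nF (h5 : 5 < p) (hn : p * p = 2 * n + 1) (d : a * h * c ∣ (2 * n + 2) * n) (W : Wd p n a y)
    (l : a < p * p) (e : c ≡ 1 [MOD p]) (c1 : c ≠ 1) : h = 1 := by
  rcases W l with ⟨h1, rfl⟩ | ⟨rfl, rfl, rfl⟩
  · have h2 := hc h5 hn d h1
    rw [show 2 * n + 2 = p * p + 1 by omega] at h2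
    rw [(a1 (by omega) ((Dvd.intro_left _ rfl).trans h2) e).resolve_left c1] at h2
    exact Nat.dvd_one.1 (Nat.dvd_of_mul_dvd_mul_right (Nat.succ_pos _) (by rwa [one_mul]))
  · have h2 := (Dvd.intro_left _ rfl).trans (h17 hn d)
    have := Nat.le_of_dvd (by norm_num) h2
    rw [Nat.ModEq] at e
    obtain ⟨k, rfl⟩ : ∃ k, c = 17 * k + 1 := ⟨c / 17, by omega⟩
    have : k ≤ 10 := by omega
    interval_cases k <;> omega

theorem wd (hp : p.Prime) (h5 : 5 < p) (hn : p * p = 2 * n + 1) (a0 : 0 < a) (ya : y ∣ a) (e : y ≡ 1 [MOD p])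
    (y1 : y ≠ 1) (sa : s ∣ p * a) (sm : s ∣ p * p * ((2 * n + 2) * n))
    (H : s < p ^ 3 → ∃ q, Nat.gcd 2 (q - 1) * s = q * (q ^ 2 - 1) ∧ (q = p ∨ ∃ m, q = 2 ^ m ∧ p = q + 1)) :
    Wd p n a y := fun l => by
  obtain ⟨k, hk⟩ := odd_p hn
  obtain ⟨q, e1, rfl | ⟨m, e2, rfl⟩⟩ := H (by nlinarith [Nat.le_of_dvd (by positivity) sa])
  · rw [Nat.gcd_eq_left (by omega), sq, hn, Nat.add_sub_cancel] at e1
    obtain rfl : s = q * n := by nlinarith
    have h1 := Nat.dvd_of_mul_dvd_mul_left (by omega) sa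
    refine .inl ⟨h1, (a2 (by omega) hn (ya.trans ?_) e).resolve_left y1⟩
    obtain ⟨j, rfl⟩ := h1
    obtain _ | _ | _ | j := j
    · omega
    · simp
    · rw [mul_comm]
    · nlinarith
  obtain ⟨r, rfl⟩ : ∃ r, q = r + 1 := ⟨q - 1, by omega⟩
  rw [Nat.add_sub_cancel, Nat.Coprime.gcd_eq_one (Odd.coprime_two_left ⟨k - 1, by omega⟩), one_mul,
    show (r + 1) ^ 2 = r * (r + 2) + 1 by ring, Nat.add_sub_cancel] at e1
  have h4 := a6 (c := 2) hn (Dvd.dvd.trans ⟨(r + 1) * (r + 2), by rw [e1]; ring⟩ sm : r ∣ _) (by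
    push_cast; ring_nf; rfl)
  have h6 : r ∣ 60 := Int.natCast_dvd_natCast.1 h4
  have := Nat.le_of_dvd (by norm_num) h6
  have : m < 6 := (Nat.pow_lt_pow_iff_right one_lt_two).1 (by omega)
  obtain rfl : r = 2 ^ m - 1 := by omega
  obtain rfl : m = 4 := by interval_cases m <;> first | omega | exact absurd hp (by norm_num)
  norm_num at e1 l e
  subst e1
  obtain rfl : a = 240 := by omega
  refine .inr ⟨rfl, rfl, ?_⟩
  have := Nat.le_of_dvd a0 ya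
  rw [Nat.ModEq] at e
  obtain ⟨k, rfl⟩ : ∃ k, y = 17 * k + 1 := ⟨y / 17, by omega⟩
  have : k ≤ 15 := by omega
  interval_cases k <;> omega

end H5.PP
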