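import Cfsg.Agent.H5.TP6

/-! Groups in which all non-identity `p`-elements are conjugate. -/

set_option autoImplicit false
set_option linter.unusedSectionVars false

namespace H5.TP
open Subgroup H24.NF H9 MulAction
open scoped commutatorElement

variable {G : Type*} [Group G] [Finite G] {p : ℕ} [hp : Fact p.Prime] {V K : Subgroup G}

/-- all non-identity `p`-elements are conjugate -/
def PCj (p : ℕ) (G : Type*) [Group G] : Prop := ∀ x y : G, x ≠ 1 → y ≠ 1 →
  (∃ k : ℕ, orderOf x = p ^ k) → (∃ k : ℕ, orderOf y = p ^ k) → IsConj x y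

theorem PCj.map {X : Type*} [Group X] (h : PCj p G) {f : G →* X} (hs : Function.Surjective f) :
    PCj p X := by
  have k : ∀ x : X, (∃ k, orderOf x = p ^ k) → ∃ g, f g = x ∧ ∃ k, orderOf g = p ^ k := fun x ⟨k, e⟩ => by
    obtain ⟨a, m, h1, h2⟩ := Nat.exists_eq_pow_mul_and_not_dvd (Nat.card_pos (α := G)).ne' p
      hp.out.ne_one
    obtain ⟨j, hj⟩ := exists_pow_eq_self_of_coprime (x := x) (n := m)
      (e ▸ (hp.out.coprime_iff_not_dvd.2 h1).symm.pow_right k)
    obtain ⟨g, rfl⟩ := hs x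
    refine ⟨(g ^ m) ^ j, by rw [map_pow, map_pow, hj], ((Nat.dvd_prime_pow hp.out).1
      ((orderOf_pow_dvd j).trans (orderOf_dvd_of_pow_eq_one (n := p ^ a) ?_))).imp fun _ => And.right⟩
    rw [← pow_mul, mul_comm, ← h2, pow_card_eq_one']
  intro x y hx hy a b
  obtain ⟨g, rfl, c⟩ := k x a
  obtain ⟨g', rfl, d⟩ := k y b
  exact f.map_isConj (h g g' (by rintro rfl; simp at hx) (by rintro rfl; simp at hy) c d)

theorem setup (hs : Cfsg.IsPSolvable p G) (hO : Cfsg.pPrimeCore p G = ⊥) (hd : p ∣ Nat.card G)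
    (h : PCj p G) : ∃ (V K : Subgroup G) (_ : V.Normal), Cfsg.IsElementaryAbelian p V ∧
      IsComplement' V K ∧ ¬ p ∣ Nat.card K ∧ (p ≤ kc K ∨ (∀ x ∉ V, V ⊓ centralizer {x} = ⊥) ∧
        (Nat.card V = p ∧ Nat.card K = p - 1 ∧ kc K = p - 1 ∨
          p = 11 ∧ Nat.card V = 121 ∧ Nonempty (K ≃* H24.SL25))) := by
  have h1 := H1.centralizer_pCore_le_of_isPSolvable hs hO
  have h2 : IsPGroup p (Cfsg.pCore p G) := H1.pCore_isPGroup
  set V := Cfsg.pCore p G
  have h3 : ∀ x ∈ V, ∃ k, orderOf x = p ^ k := fun x hx =>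
    (IsPGroup.iff_orderOf.1 h2 ⟨x, hx⟩).imp fun _ e => (orderOf_coe _).trans e
  haveI : Nontrivial V := (nontrivial_iff_ne_bot V).2 fun e => by
    rw [e, coe_bot, centralizer_eq_top_iff_subset.2 (by simp), top_le_iff] at h1
    rw [← card_top, ← h1, card_bot] at hd
    exact hp.out.ne_one (Nat.dvd_one.1 hd)
  obtain ⟨⟨z, hz⟩, h4⟩ := @exists_ne _ h2.center_nontrivial 1
  have h5 : ∀ N : Subgroup G, N.Normal → (z : G) ∈ N → ∀ x, (∃ k, orderOf x = p ^ k) → x ∈ N :=
    fun N hN a x b => (eq_or_ne x 1).elim (· ▸ one_mem N) fun e => by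
      obtain ⟨c, rfl⟩ := isConj_iff.1 (h z x (fun e => h4 (Subtype.ext (Subtype.ext e))) e (h3 z z.2) b)
      exact hN.conj_mem _ a c
  have hV : Cfsg.IsElementaryAbelian p V := ⟨ab_le (B := (center V).map V.subtype) inferInstance
    fun x hx => h5 _ inferInstance (mem_map_of_mem _ hz) x (h3 x hx), fun x hx => by
      obtain ⟨y, hy⟩ := exists_prime_orderOf_dvd_card' p hd
      refine (eq_or_ne x 1).elim (fun e => by rw [e, one_pow]) fun e => ?_
      obtain ⟨c, rfl⟩ := isConj_iff.1 (h y x (by rintro rfl; exact hp.out.ne_one (by simpa using hy.symm))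
        e ⟨1, by rw [hy, pow_one]⟩ (h3 x hx))
      rw [conj_pow, ← hy, pow_orderOf_eq_one]; simp⟩
  have h6 : ¬ p ∣ V.index := fun e => by
    obtain ⟨P⟩ : Nonempty (Sylow p G) := inferInstance
    exact P.not_dvd_index (e.trans (index_dvd_of_le fun x hx => h5 V inferInstance z.2 x
      ((IsPGroup.iff_orderOf.1 P.isPGroup' ⟨x, hx⟩).imp fun _ e => (orderOf_coe _).trans e)))
  obtain ⟨n, hn⟩ := h2.exists_card_eq
  obtain ⟨K, hK⟩ := exists_right_complement'_of_coprime (N := V)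
    (hn ▸ (hp.out.coprime_iff_not_dvd.2 h6).pow_left n)
  have h7 := hK.symm.index_eq_card ▸ h6
  haveI : Nontrivial (EA hV) := ‹Nontrivial V›
  have ht := cρ_tr (hV := hV) (G := K) fun v hv w hw a b => by
    obtain ⟨c, rfl⟩ := isConj_iff.1 (h v w a b (h3 v hv) (h3 w hw))
    obtain ⟨⟨k, u⟩, rfl⟩ := hK.symm.2 c
    refine ⟨k, k.2, ?_⟩
    simp only [mul_inv_rev, ← mul_assoc]
    rw [mul_assoc _ (u : G), show (u : G) * v = v * u from congrArg Subtype.val
      (hV.1.is_comm.comm u ⟨v, hv⟩), ← mul_assoc, mul_inv_cancel_right]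
  have hρ := cρ_inj (hV := hV) h1 hK.disjoint
  have h8 : Fpf (cρ hV K) → ∀ x ∉ V, V ⊓ centralizer {x} = ⊥ := fun hf x hx =>
    eq_bot_iff.2 fun v hv => by_contra fun e => hx (by
      obtain ⟨⟨u, k⟩, rfl⟩ := hK.2 x
      have := hf (EA.mk hV v hv.1) (mt EA.val_eq_one.2 e) k (cρ_fix.2 (by
        refine (mul_mem_cancel_left (x := (u : G)) ?_).1 (mem_centralizer_singleton_iff.2
          (mem_centralizer_singleton_iff.1 hv.2).symm)
        exact mem_centralizer_singleton_iff.2 (congrArg Subtype.val (hV.1.is_comm.comm u ⟨v, hv.1⟩))))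
      simp [this])
  refine ⟨V, K, inferInstance, hV, hK, h7, ?_⟩
  rcases n with _ | _ | n
  · exact absurd hn Finite.one_lt_card.ne'
  · obtain ⟨B, a, b, c, -⟩ := (dim_one (V := EA hV) (hn.trans (pow_one p))).gam ht hρ hn
    obtain rfl : B = ⊤ := index_eq_one.1 (by have := B.index_ne_zero_of_finite; omega)
    rw [card_top, zero_add, pow_one] at b
    rw [zero_add, pow_one] at hn
    have d : Nat.card K = p - 1 := Nat.dvd_antisymm b (hn ▸ ht.dvd)
    refine .inr ⟨h8 fun v hv g hg => mem_bot.1 (card_eq_one.1 (mul_eq_right₀ index_ne_zero_of_finite |>.1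
      ((St (cρ hV K) v).card_mul_index.trans ?_)) ▸ hg), .inl ⟨hn, d, (kc_of_comm inferInstance).trans d⟩⟩
    rw [ht.index hv, d, EA.card, hn]
  · exact (lower ht hρ h7 hn (by omega)).imp_right fun ⟨a, b, c, d⟩ => ⟨h8 c, .inr ⟨a, b, d⟩⟩

theorem affine [V.Normal] (hV : Cfsg.IsElementaryAbelian p V) (hK : IsComplement' V K)
    (h : ∀ x ∉ V, V ⊓ centralizer {x} = ⊥) (h1 : Nat.card V = p) (h2 : Nat.card K = p - 1) :
    Nonempty (G ≃* Cfsg.affineGroup (ZMod p)) := by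
  have hinj : Function.Injective (toPermHom G (G ⧸ K)) := by
    rw [← MonoidHom.ker_eq_bot_iff, ← normalCore_eq_ker, eq_bot_iff]
    refine fun x hx => hK.disjoint.le_bot ⟨by_contra fun e => hp.out.ne_one ?_, K.normalCore_le hx⟩
    rw [← h1, ← (inf_eq_left (a := V)).2 fun v hv => mem_centralizer_singleton_iff.2 (commute_of_normal_of_disjoint
      V K.normalCore ‹_› inferInstance (hK.disjoint.mono_right K.normalCore_le) v x hv hx), h x e, card_bot]
  haveI : FaithfulSMul G (G ⧸ K) := ⟨fun e => hinj (Equiv.ext e)⟩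
  have ht : IsPretransitive V (G ⧸ K) := .of_orbit (x₀ := ((1 : G) : G ⧸ K)) fun x => by
    obtain ⟨g, rfl⟩ := QuotientGroup.mk_surjective x
    obtain ⟨⟨u, k⟩, rfl⟩ := hK.2 g
    exact ⟨u, QuotientGroup.eq.2 (by simp [Subgroup.smul_def])⟩
  obtain ⟨β, ρ, -, b0, b1, b2⟩ := H24.exists_affine hV ht ((1 : G) : G ⧸ K)
  let e : EA hV ≃ₗ[ZMod p] ZMod p := LinearEquiv.ofFinrankEq _ _ (Nat.pow_right_injective hp.out.two_le
    (by simpa using (Module.natCard_eq_pow_finrank (K := ZMod p) (V := EA hV)).symm.trans h1))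
  let f := (β.symm.trans e.toEquiv).permCongrHom.toMonoidHom.comp (toPermHom G (G ⧸ K))
  have hf : Function.Injective f := (β.symm.trans e.toEquiv).permCongrHom.injective.comp hinj
  refine ⟨(MonoidHom.ofInjective hf).trans (MulEquiv.subgroupCongr (eq_of_le_of_card_ge ?_ ?_))⟩
  · rintro _ ⟨g, rfl⟩
    obtain ⟨⟨u, k⟩, rfl⟩ := hK.2 g
    let σ := ρ ⟨k, (stabilizer_quotient K).ge k.2⟩
    have a : ∀ x, e (σ (e.symm x)) = e (σ (e.symm 1)) * x := fun x => by
      rw [mul_comm, ← smul_eq_mul, ← map_smul, ← map_smul, ← map_smul, smul_eq_mul, mul_one]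
    refine ⟨Units.mk0 (e (σ (e.symm 1))) (by simp), e (EA.mk hV u u.2), fun x => ?_⟩
    change e (β.symm (((u : G) * k) • β (e.symm x))) = _
    rw [mul_smul, ← b2 ⟨k, _⟩, Units.val_mk0, ← a, add_comm, ← map_add, ← β.symm_apply_apply (_ + _), b1]
    rfl
  · rw [← Nat.card_congr (MonoidHom.ofInjective hf).toEquiv, ← hK.card_mul_card, h1, h2, mul_comm]
    simpa using H23.card_affineGroup_le (F := ZMod p)

theorem frob [V.Normal] (hK : IsComplement' V K) (h : ∀ x ∉ V, V ⊓ centralizer {x} = ⊥)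
    (h1 : V ≠ ⊥) (h2 : K ≠ ⊥) : Cfsg.IsFrobeniusComplement K := by
  refine H24.isFrobeniusComplement_iff.2 ⟨h2, fun e => h1 (by simpa [e] using hK.disjoint),
    fun g x hx e => or_iff_not_imp_right.2 fun a => ?_⟩
  obtain ⟨⟨u, k⟩, rfl⟩ := hK.2 g
  suffices (u : G) = 1 by simp [this]
  have b : (u : G)⁻¹ * (x * u * x⁻¹) = 1 := hK.disjoint.le_bot ⟨V.mul_mem (V.inv_mem u.2)
    (Normal.conj_mem ‹_› _ u.2 x), by
      simpa [mul_assoc] using K.mul_mem (K.mul_mem (K.mul_mem k.2 e) (K.inv_mem k.2)) (K.inv_mem hx)⟩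
  exact (h x fun b => a (hK.disjoint.le_bot ⟨b, hx⟩)).le ⟨u.2, mem_centralizer_singleton_iff.2
    (mul_inv_eq_iff_eq_mul.1 (inv_mul_eq_one.1 b).symm).symm⟩

end H5.TP
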