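/-
S4881: the reduction to a linear group with two orbits on non-zero vectors.
-/
import Cfsg.Agent.H10.PR.A0
import Cfsg.Agent.S4878

set_option autoImplicit false
set_option linter.unusedSectionVars false

namespace H5.PR
open _root_.Cfsg Subgroup H19 H5.TP H24.NF H9 H10.PR MulAction

universe u
variable {G X : Type*} [Group G] [Finite G] [Group X] {p : ℕ} [hp : Fact p.Prime]

/-- `p`-elements -/
def PE (p : ℕ) {G : Type*} [Group G] (x : G) : Prop := ∃ k : ℕ, orderOf x = p ^ k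

/-- exactly two classes of non-identity `p`-elements -/
def P3 (p : ℕ) (G : Type*) [Group G] : Prop := ∃ a b : G, a ≠ 1 ∧ b ≠ 1 ∧ PE p a ∧ PE p b ∧ ¬ IsConj a b ∧
  ∀ x, PE p x → x = 1 ∨ IsConj a x ∨ IsConj b x

theorem p3_of (h : Nat.card {c : ConjClasses G // ∃ g : G, ConjClasses.mk g = c ∧ ∃ k : ℕ, orderOf g = p ^ k} = 3) : P3 p G := by
  have h' : ({c : ConjClasses G | ∃ g : G, ConjClasses.mk g = c ∧ ∃ k : ℕ, orderOf g = p ^ k} \ {ConjClasses.mk 1}).ncard = 2 := by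
    rw [Set.ncard_diff_singleton_of_mem (by exact ⟨1, rfl, 0, by simp⟩), ← Nat.card_coe_set_eq]
    exact congrArg (· - 1) h
  obtain ⟨c, d, n, e⟩ := Set.ncard_eq_two.1 h'
  obtain ⟨⟨a, rfl, a1⟩, a2⟩ := e.ge (Set.mem_insert _ _)
  obtain ⟨⟨b, rfl, b1⟩, b2⟩ := e.ge (Set.mem_insert_of_mem _ rfl)
  refine ⟨a, b, fun f => a2 (f ▸ rfl), fun f => b2 (f ▸ rfl), a1, b1, fun f => n (ConjClasses.mk_eq_mk_iff_isConj.2 f),
    fun x hx => or_iff_not_imp_left.2 fun x1 => ?_⟩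
  exact (e.le ⟨⟨x, rfl, hx⟩, fun f => x1 (isConj_one_left.1 (ConjClasses.mk_eq_mk_iff_isConj.1 f))⟩).imp
    (fun f => ConjClasses.mk_eq_mk_iff_isConj.1 f.symm) fun f => ConjClasses.mk_eq_mk_iff_isConj.1 (Eq.symm f)

theorem PE.map {x : G} (h : PE p x) (f : G →* X) : PE p (f x) :=
  let ⟨_, e⟩ := h; ((Nat.dvd_prime_pow hp.out).1 ((orderOf_map_dvd f x).trans e.dvd)).imp fun _ => And.right

theorem PE.dvd {x : G} (h : PE p x) (h1 : x ≠ 1) : p ∣ orderOf x := by
  obtain ⟨_ | k, e⟩ := h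
  exacts [absurd (orderOf_eq_one_iff.1 e) h1, e ▸ dvd_pow_self p k.succ_ne_zero]

theorem PE.lift {f : G →* X} (hs : Function.Surjective f) {x : X} (h : PE p x) : ∃ g, f g = x ∧ PE p g := by
  obtain ⟨k, e⟩ := h
  obtain ⟨a, m, h1, h2⟩ := Nat.exists_eq_pow_mul_and_not_dvd (Nat.card_pos (α := G)).ne' p hp.out.ne_one
  obtain ⟨j, hj⟩ := exists_pow_eq_self_of_coprime (x := x) (n := m) (e ▸ (hp.out.coprime_iff_not_dvd.2 h1).symm.pow_right k)
  obtain ⟨g, rfl⟩ := hs x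
  refine ⟨(g ^ m) ^ j, by rw [map_pow, map_pow, hj], ((Nat.dvd_prime_pow hp.out).1
    ((orderOf_pow_dvd j).trans (orderOf_dvd_of_pow_eq_one (n := p ^ a) ?_))).imp fun _ => And.right⟩
  rw [← pow_mul, mul_comm, ← h2, pow_card_eq_one']

theorem PE.pg {x : G} (h : PE p x) : PG p (zpowers x) :=
  let ⟨k, e⟩ := h; PiN.of_isPGroup hp.out (.of_card (n := k) ((Nat.card_zpowers x).trans e))

/-- `p`-elements with the same image modulo a normal `p'`-subgroup are conjugate -/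
theorem PE.conj {f : G →* X} (hN : ¬ p ∣ #f.ker) {x y : G} (hx : PE p x) (hy : PE p y) (e : f x = f y) : IsConj x y := by
  have s : Syl p (zpowers y) (f.ker ⊔ zpowers y) := syl_mk le_sup_right hy.pg fun d => hN (by
    have a := card_sup_dvd (A := f.ker) (B := zpowers y) le_normalizer_of_normal
    rw [← card_mul_relIndex (le_sup_right : zpowers y ≤ f.ker ⊔ zpowers y), mul_comm] at a
    exact d.trans (Nat.dvd_of_mul_dvd_mul_right (card_pos _) a))
  have m : x ∈ f.ker ⊔ zpowers y := by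
    rw [show x = x * y⁻¹ * y by group]
    exact mul_mem_sup (by simp [MonoidHom.mem_ker, e]) (mem_zpowers y)
  obtain ⟨g, hg, l⟩ := s.scj_le (zpowers_le_of_mem m) hx.pg
  obtain ⟨n, hn, _, ⟨j, rfl⟩, rfl⟩ := (mem_sup_of_norm le_normalizer_of_normal).1 hg
  have l := l (conj_mem_cj.2 (mem_zpowers x))
  refine isConj_iff.2 ⟨n * y ^ j, mul_inv_eq_one.1 (by_contra fun c => hN ?_)⟩
  have a : n * y ^ j * x * (n * y ^ j)⁻¹ * y⁻¹ ∈ zpowers y := mul_mem l (inv_mem (mem_zpowers y))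
  obtain ⟨k, o⟩ := hy
  refine (PE.dvd (((Nat.dvd_prime_pow hp.out).1 (o ▸ orderOf_dvd_of_mem_zpowers a)).imp fun _ => And.right) c).trans
    (orderOf_dvd_natCard _ ?_)
  simp [MonoidHom.mem_ker, e, show f n = 1 from hn, ((Commute.refl (f y)).zpow_left j).eq]

theorem P3.map (h : P3 p G) {f : G →* X} (hs : Function.Surjective f) (hN : ¬ p ∣ #f.ker) : P3 p X := by
  obtain ⟨a, b, a1, b1, a2, b2, n, h⟩ := h
  have k : ∀ {x : G}, PE p x → x ≠ 1 → f x ≠ 1 := fun hx x1 e => hN ((hx.dvd x1).trans (orderOf_dvd_natCard _ e))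
  refine ⟨f a, f b, k a2 a1, k b2 b1, a2.map f, b2.map f, fun c => n ?_, fun x hx => ?_⟩
  · obtain ⟨g, e⟩ := isConj_iff.1 c
    obtain ⟨g, rfl⟩ := hs g
    exact (isConj_iff.2 ⟨g, rfl⟩).trans (PE.conj hN (a2.map (MulAut.conj g).toMonoidHom) b2 (by simpa using e))
  · obtain ⟨g, rfl, hg⟩ := hx.lift hs
    exact (h g hg).imp (fun e => by rw [e, map_one]) (Or.imp f.map_isConj f.map_isConj)

theorem rc_le {f : G →* X} (hs : Function.Surjective f) : Nat.card (RC p X) ≤ Nat.card (RC p G) := by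
  have := Finite.of_surjective _ hs
  refine Nat.card_le_card_of_surjective (fun c : RC p G => ⟨c.1.map f, by
    obtain ⟨_, g, rfl, h⟩ := c
    exact ⟨f g, rfl, fun d => h (d.trans (orderOf_map_dvd f g))⟩⟩) ?_
  rintro ⟨_, x, rfl, hx⟩
  obtain ⟨a, m, h1, h2⟩ := Nat.exists_eq_pow_mul_and_not_dvd (Nat.card_pos (α := G)).ne' p hp.out.ne_one
  obtain ⟨j, hj⟩ := exists_pow_eq_self_of_coprime (x := x) (n := p ^ a) ((hp.out.coprime_iff_not_dvd.2 hx).pow_left a)
  obtain ⟨g, rfl⟩ := hs x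
  refine ⟨⟨_, (g ^ p ^ a) ^ j, rfl, fun e => h1 (e.trans ((orderOf_pow_dvd j).trans (orderOf_dvd_of_pow_eq_one ?_)))⟩,
    Subtype.ext (congrArg ConjClasses.mk (by rw [map_pow, map_pow, hj]))⟩
  rw [← pow_mul, ← h2, pow_card_eq_one']

theorem two_one {K V : Type u} [Group K] [Finite K] [AddCommGroup V] [Module (ZMod p) V] [Finite V] {ρ : K →* (V ≃ₗ[ZMod p] V)} {u w : V}
    (h : Two ρ 1 u w) : Fpf ρ ∧ 2 * Nat.card K = p - 1 ∧ kc K = Nat.card K := by
  have r : Module.finrank (ZMod p) V = 1 := Nat.pow_right_injective hp.out.two_le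
    (by simpa using (Module.natCard_eq_pow_finrank (K := ZMod p) (V := V)).symm.trans h.card)
  have f : Fpf ρ := fun v hv g e => h.inj (by
    ext x
    obtain ⟨c, rfl⟩ := (finrank_eq_one_iff_of_nonzero' v hv).1 r x
    simp [e])
  have i : ∀ {v}, v ≠ 0 → ∀ {a b}, ρ a v = ρ b v → a = b := fun hv a b e =>
    (inv_mul_eq_one.1 (f _ hv _ (by rw [map_mul, LinearEquiv.mul_apply, e, ← LinearEquiv.mul_apply, ← map_mul]; simp))).symm
  refine ⟨f, ?_, kc_of_comm ⟨⟨fun a b => Subtype.ext (i h.u0 ?_)⟩⟩⟩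
  · have n : ∀ {a b}, ρ a u ≠ ρ b w := fun {a b} e => h.ne (b⁻¹ * a) (by
      rw [map_mul, LinearEquiv.mul_apply, e, ← LinearEquiv.mul_apply, ← map_mul]; simp)
    have := Nat.card_eq_of_bijective (fun s : K ⊕ K => (⟨s.elim (ρ · u) (ρ · w), by
      rcases s with s | s <;> simp [h.u0, h.w0]⟩ : ↥(Set.univ \ {0} : Set V))) ⟨by
        rintro (a | a) (b | b) e <;> replace e := congrArg Subtype.val e
        exacts [congrArg _ (i h.u0 e), absurd e n, absurd e.symm n, congrArg _ (i h.w0 e)], fun ⟨v, hv⟩ =>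
          (h.all v hv.2).elim (fun ⟨g, e⟩ => ⟨.inl g, Subtype.ext e⟩) fun ⟨g, e⟩ => ⟨.inr g, Subtype.ext e⟩⟩
    rw [Nat.card_sum, Nat.card_coe_set_eq, Set.ncard_diff_singleton_of_mem (Set.mem_univ _), Set.ncard_univ, h.card, pow_one] at this
    omega
  · obtain ⟨c, e⟩ := (finrank_eq_one_iff_of_nonzero' u h.u0).1 r (ρ a u)
    obtain ⟨d, e'⟩ := (finrank_eq_one_iff_of_nonzero' u h.u0).1 r (ρ b u)
    simp only [coe_mul, map_mul, LinearEquiv.mul_apply, ← e, ← e', map_smul, smul_comm c d]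

theorem setup3 {G : Type u} [Group G] [Finite G] (hm : Main.{u}) (hs : IsPSolvable p G) (hO : pPrimeCore p G = ⊥) (h : P3 p G) :
    p ^ 2 ∣ Nat.card G ∧ p ≤ 2 * Nat.card (RC p G) ∨ ∃ (V K : Subgroup G) (_ : V.Normal), IsElementaryAbelian p V ∧ IsComplement' V K ∧
      (∀ x ∉ V, V ⊓ centralizer {x} = ⊥) ∧ #V = p ∧ 2 * #K = p - 1 ∧ kc K = #K := by
  have h1 := H1.centralizer_pCore_le_of_isPSolvable hs hO
  have h2 : IsPGroup p (pCore p G) := H1.pCore_isPGroup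
  obtain ⟨a, b, a1, b1, a2, b2, n, h⟩ := h
  have o1 : pCore p G ≠ ⊥ := fun e => by
    rw [e, cent_bot, top_le_iff] at h1
    exact a1 (mem_bot.1 (h1.ge (mem_top a)))
  have hV : IsElementaryAbelian p (Ohm1 p Z(pCore p G)) := abelem_Ohm1_center p _
  have v1 := (PiN.of_isPGroup hp.out h2).Ohm1_center_ne_bot o1
  have : (Ohm1 p Z(pCore p G)).Normal := normalizer_eq_top_iff.1 (top_le_iff.1 ((normalizer_eq_top _).ge.trans (norm_le_norm_Ohm1_center p _)))
  set V := Ohm1 p Z(pCore p G)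
  have pe : ∀ x ∈ V, PE p x := fun x hx => ((Nat.dvd_prime hp.out).1 (orderOf_dvd_of_pow_eq_one (hV.2 x hx))).elim
    (fun e => ⟨0, e⟩) fun e => ⟨1, e.trans (pow_one p).symm⟩
  have cj : ∀ {x y : G}, IsConj x y → x ∈ V → y ∈ V := fun c hx => let ⟨g, e⟩ := isConj_iff.1 c; e ▸ this.conj_mem _ hx g
  obtain ⟨⟨z, hz⟩, z1⟩ := ne_bot_iff_exists_ne_one.1 v1
  replace z1 : z ≠ 1 := fun e => z1 (Subtype.ext e)
  have A : ∀ {a b : G}, a ∈ V → b ∉ V → PE p b → (∀ x, PE p x → x = 1 ∨ IsConj a x ∨ IsConj b x) →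
      p ^ 2 ∣ Nat.card G ∧ p ≤ 2 * Nat.card (RC p G) := fun {a b} ha hb b2 h => by
    have s := QuotientGroup.mk'_surjective V
    have d : p ∣ Nat.card (G ⧸ V) := ((b2.map (QuotientGroup.mk' V)).dvd (mt (QuotientGroup.eq_one_iff b).1 hb)).trans (orderOf_dvd_natCard (G := G ⧸ V) _)
    have k : ∀ x : G ⧸ V, x ≠ 1 → PE p x → IsConj (QuotientGroup.mk' V b) x := fun x x1 hx => by
      obtain ⟨g, rfl, hg⟩ := hx.lift s
      rcases h g hg with e | e | e
      exacts [absurd (e ▸ map_one _) x1, absurd ((QuotientGroup.eq_one_iff g).2 (cj e ha)) x1, (QuotientGroup.mk' V).map_isConj e]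
    refine ⟨by rw [card_eq_card_quotient_mul_card_subgroup V, sq]; exact mul_dvd_mul d (((pe z hz).dvd z1).trans (orderOf_dvd_natCard _ hz)), ?_⟩
    have l := rc_le (p := p) s
    have := hp.out.two_le
    have : p ≤ Nat.card (RC p (G ⧸ V)) ∨ Nat.card (RC p (G ⧸ V)) = p - 1 ∨ p = 11 ∧ Nat.card (RC p (G ⧸ V)) = 9 :=
      (Agent.S4878.result p (H1.isPSolvable_quotient hs V) d fun x y x1 y1 hx hy => (k x x1 hx).symm.trans (k y y1 hy)).imp_right
        (Or.imp And.left (And.imp_right And.left))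
    omega
  by_cases ha : a ∈ V
  swap
  · exact .inl (A (((h z (pe z hz)).resolve_left z1).elim (fun c => absurd (cj c.symm hz) ha) fun c => cj c.symm hz) ha a2
      fun x hx => (h x hx).imp_right Or.symm)
  by_cases hb : b ∈ V
  swap
  · exact .inl (A ha hb b2 h)
  have h5 : ∀ x, PE p x → x ∈ V := fun x hx => (h x hx).elim (· ▸ one_mem V) (Or.elim · (cj · ha) (cj · hb))
  have h6 : ¬ p ∣ V.index := fun e => by
    obtain ⟨P⟩ : Nonempty (Sylow p G) := inferInstance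
    exact P.not_dvd_index (e.trans (index_dvd_of_le fun x hx => h5 x
      ((IsPGroup.iff_orderOf.1 P.isPGroup' ⟨x, hx⟩).imp fun _ e => (orderOf_coe _).trans e)))
  have le : pCore p G ≤ V := fun x hx => h5 x ((IsPGroup.iff_orderOf.1 h2 ⟨x, hx⟩).imp fun _ e => (orderOf_coe _).trans e)
  have h7 : C(V) ≤ V := (cent_mono le).trans (h1.trans le)
  obtain ⟨m, hn⟩ := (abelem_pg hp.out hV).exists_card
  obtain ⟨K, hK⟩ := exists_right_complement'_of_coprime (N := V) (hn ▸ (hp.out.coprime_iff_not_dvd.2 h6).pow_left m)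
  have h8 := hK.symm.index_eq_card ▸ h6
  have t : ∀ {v w : G} (hv : v ∈ V) (hw : w ∈ V), IsConj v w → ∃ g, cρ hV K g (EA.mk hV v hv) = EA.mk hV w hw := fun {v w} hv hw d => by
    obtain ⟨c, rfl⟩ := isConj_iff.1 d
    obtain ⟨⟨k, u⟩, rfl⟩ := hK.symm.2 c
    refine ⟨k, EA.ext (show (k : G) * v * (k : G)⁻¹ = _ from ?_)⟩
    simp only [EA.val_mk, mul_inv_rev, ← mul_assoc]
    rw [mul_assoc _ (u : G), show (u : G) * v = v * u from congrArg Subtype.val
      (hV.1.is_comm.comm u ⟨v, hv⟩), ← mul_assoc, mul_inv_cancel_right]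
  have T : Two (cρ hV K) m (EA.mk hV a ha) (EA.mk hV b hb) := ⟨cρ_inj h7 hK.disjoint, h8, hn, mt EA.val_eq_one.2 a1, mt EA.val_eq_one.2 b1,
    fun g e => n (isConj_iff.2 ⟨g, congrArg EA.val e⟩), fun v hv => ((h _ (pe _ v.val_mem)).resolve_left (mt EA.val_eq_one.1 hv)).imp
      (t ha v.val_mem) (t hb v.val_mem)⟩
  rcases m with _ | _ | m
  · exact absurd (card_eq_one.1 hn) v1
  · obtain ⟨hf, c1, c2⟩ := two_one T
    refine .inr ⟨V, K, this, hV, hK, fun x hx => eq_bot_iff.2 fun v hv => by_contra fun e => hx ?_, hn.trans (pow_one p), c1, c2⟩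
    obtain ⟨⟨u, k⟩, rfl⟩ := hK.2 x
    have := hf (EA.mk hV v hv.1) (mt EA.val_eq_one.2 e) k (cρ_fix.2 (by
      refine (mul_mem_cancel_left (x := (u : G)) ?_).1 (mem_centralizer_singleton_iff.2
        (mem_centralizer_singleton_iff.1 hv.2).symm)
      exact mem_centralizer_singleton_iff.2 (congrArg Subtype.val (hV.1.is_comm.comm u ⟨v, hv.1⟩))))
    simp [this]
  · exact .inl ⟨((pow_dvd_pow p (by omega)).trans hn.symm.dvd).trans (card_subgroup_dvd_card V),
      (hm _ _ p _ _ _ _ T (by omega)).trans (Nat.mul_le_mul_left 2 (rc_zero (π := hK.symm.QuotientMulEquiv.toMonoidHom.comp (QuotientGroup.mk' V))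
        (hK.symm.QuotientMulEquiv.surjective.comp (QuotientGroup.mk'_surjective V)) h8))⟩

theorem affine' {V K : Subgroup G} [V.Normal] (hV : IsElementaryAbelian p V) (hK : IsComplement' V K)
    (h : ∀ x ∉ V, V ⊓ centralizer {x} = ⊥) (h1 : Nat.card V = p) : ∃ f : G →* affineGroup (ZMod p), Function.Injective f := by
  have hinj : Function.Injective (toPermHom G (G ⧸ K)) := by
    rw [← MonoidHom.ker_eq_bot_iff, ← normalCore_eq_ker, eq_bot_iff]
    refine fun x hx => hK.disjoint.le_bot ⟨by_contra fun e => hp.out.ne_one ?_, K.normalCore_le hx⟩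
    rw [← h1, ← (inf_eq_left (a := V)).2 fun v hv => mem_centralizer_singleton_iff.2 (commute_of_normal_of_disjoint
      V K.normalCore ‹_› inferInstance (hK.disjoint.mono_right K.normalCore_le) v x hv hx), h x e, card_bot]
  haveI : FaithfulSMul G (G ⧸ K) := ⟨fun e => hinj (Equiv.ext e)⟩
  have ht : IsPretransitive V (G ⧸ K) := .of_orbit (x₀ := ((1 : G) : G ⧸ K)) fun x => by
    obtain ⟨g, rfl⟩ := QuotientGroup.mk_surjective x
    obtain ⟨⟨u, k⟩, rfl⟩ := hK.2 g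
    exact ⟨u, QuotientGroup.eq.2 (by simp [Subgroup.smul_def])⟩
  obtain ⟨β, ρ, -, b0, b1, b2⟩ := H24.exists_affine hV ht ((1 : G) : G ⧸ K)
  let e : EA hV ≃ₗ[ZMod p] ZMod p := LinearEquiv.ofFinrankEq _ _ (Nat.pow_right_injective hp.out.two_le
    (by simpa using (Module.natCard_eq_pow_finrank (K := ZMod p) (V := EA hV)).symm.trans h1))
  let f := (β.symm.trans e.toEquiv).permCongrHom.toMonoidHom.comp (toPermHom G (G ⧸ K))
  have hf : Function.Injective f := (β.symm.trans e.toEquiv).permCongrHom.injective.comp hinj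
  refine ⟨f.codRestrict _ fun g => ?_, fun x y e => hf (congrArg Subtype.val e)⟩
  obtain ⟨⟨u, k⟩, rfl⟩ := hK.2 g
  let σ := ρ ⟨k, (stabilizer_quotient K).ge k.2⟩
  have a : ∀ x, e (σ (e.symm x)) = e (σ (e.symm 1)) * x := fun x => by
    rw [mul_comm, ← smul_eq_mul, ← map_smul, ← map_smul, ← map_smul, smul_eq_mul, mul_one]
  refine ⟨Units.mk0 (e (σ (e.symm 1))) (by simp), e (EA.mk hV u u.2), fun x => ?_⟩
  change e (β.symm (((u : G) * k) • β (e.symm x))) = _
  rw [mul_smul, ← b2 ⟨k, _⟩, Units.val_mk0, ← a, add_comm, ← map_add, ← β.symm_apply_apply (_ + _), b1]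
  rfl

theorem rd : RD.{u} := fun hm G _ _ p hp hs h3 => by
  have h := p3_of h3
  have p2 := hp.out.two_le
  have A : p ^ 2 ∣ Nat.card G → p ≤ 2 * Nat.card (RC p G) → _ := fun d l => (⟨by omega, iff_of_false (by omega) fun ⟨_, e, _⟩ => by
    have := Nat.le_of_dvd (by omega) (Nat.dvd_of_mul_dvd_mul_left hp.out.pos (e ▸ sq p ▸ d.mul_left 2))
    omega⟩ : p - 1 ≤ 2 * Nat.card (RC p G) ∧ (2 * Nat.card (RC p G) = p - 1 ↔ (p ≠ 2 ∧
      2 * Nat.card G = p * (p - 1) ∧ ∃ f : G →* ↥(affineGroup (ZMod p)), Function.Injective f)))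
  have cp : ∀ {k : ℕ}, 0 < k → 2 * k = p - 1 → ¬ p ∣ k := fun h0 e d => by have := Nat.le_of_dvd h0 d; omega
  by_cases hO : pPrimeCore p G = ⊥
  · rcases setup3 hm hs hO h with ⟨a, b⟩ | ⟨V, K, _, hV, hK, h2, a, b, c⟩
    · exact A a b
    let π : G →* K := hK.symm.QuotientMulEquiv.toMonoidHom.comp (QuotientGroup.mk' V)
    have hk : π.ker = V := (MonoidHom.ker_mulEquiv_comp _ hK.symm.QuotientMulEquiv).trans (QuotientGroup.ker_mk' V)
    have h4 := rc_eq (π := π) (hK.symm.QuotientMulEquiv.surjective.comp (QuotientGroup.mk'_surjective V)) (cp Nat.card_pos b)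
      (hk ▸ hV.2) (hk ▸ h2)
    rw [h4, c, b]
    exact ⟨le_rfl, iff_of_true rfl ⟨by omega, by rw [← hK.card_mul_card, a, ← b]; ring, affine' hV hK h2 a⟩⟩
  have hN := hp.out.coprime_iff_not_dvd.1 (H1.pPrimeCore_coprime (p := p) (G := G)).symm
  set N := pPrimeCore p G
  have s := QuotientGroup.mk'_surjective N
  rcases setup3 hm (H1.isPSolvable_quotient hs N) H1.pPrimeCore_quotient_pPrimeCore (h.map s (by rwa [QuotientGroup.ker_mk'])) with
    ⟨a, b⟩ | ⟨V, K, _, hV, hK, h2, a, b, c⟩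
  · exact A (a.trans (card_quotient_dvd_card N)) (b.trans (Nat.mul_le_mul_left 2 (rc_le s)))
  obtain ⟨⟨n, hn⟩, n1⟩ := ne_bot_iff_exists_ne_one.1 hO
  have h4 := rc_one (π := (hK.symm.QuotientMulEquiv.toMonoidHom.comp (QuotientGroup.mk' V)).comp (QuotientGroup.mk' N))
    ((hK.symm.QuotientMulEquiv.surjective.comp (QuotientGroup.mk'_surjective V)).comp s) (cp Nat.card_pos b) (b := n)
    (fun e => hN (e.trans (orderOf_dvd_natCard N hn))) (fun e => n1 (Subtype.ext e))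
    (by rw [MonoidHom.comp_apply, show QuotientGroup.mk' N n = 1 from (QuotientGroup.eq_one_iff n).2 hn, map_one])
  refine ⟨by omega, iff_of_false (by omega) fun ⟨_, e, _⟩ => hO (card_eq_one.1 ?_)⟩
  rw [card_eq_card_quotient_mul_card_subgroup N, ← hK.card_mul_card, a, ← b] at e
  refine Nat.eq_of_mul_eq_mul_left (Nat.mul_pos hp.out.pos (Nat.mul_pos two_pos (card_pos K))) ?_
  linarith

end H5.PR
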