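import Mathlib

/-! Integer bookkeeping for three families of characters attached to three self-centralizing subgroups. -/

set_option autoImplicit false

namespace H5.SC
open Finset

variable {I : Type*} [DecidableEq I] {S F : Finset I} {f g : I → ℤ}

theorem supp_le (S : Finset I) (f : I → ℤ) : (#{i ∈ S | f i ≠ 0} : ℤ) ≤ ∑ i ∈ S, f i ^ 2 := by
  rw [card_eq_sum_ones, Nat.cast_sum, sum_filter]
  refine sum_le_sum fun i _ => ?_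
  split_ifs with h
  · have := sq_pos_of_ne_zero h
    push_cast; omega
  · positivity

theorem sq_le_sum {i : I} (hi : i ∈ S) : f i ^ 2 ≤ ∑ i ∈ S, f i ^ 2 :=
  single_le_sum (f := fun i => f i ^ 2) (fun _ _ => sq_nonneg _) hi

theorem zero_of (h : ∑ i ∈ S, f i ^ 2 ≤ 0) {i : I} (hi : i ∈ S) : f i = 0 :=
  pow_eq_zero_iff two_ne_zero |>.1 (le_antisymm ((sq_le_sum hi).trans h) (sq_nonneg _))

theorem uniq (h : ∑ i ∈ S, f i ^ 2 ≤ 1) {i j : I} (hi : i ∈ S) (h0 : f i ≠ 0) (hj : j ∈ S)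
    (e : j ≠ i) : f j = 0 := by
  rw [← add_sum_erase _ _ hi] at h
  have := sq_pos_of_ne_zero h0
  exact zero_of (S := S.erase i) (by omega) (mem_erase.2 ⟨e, hj⟩)

theorem one (h : ∑ i ∈ S, f i ^ 2 = 1) :
    ∃ i ∈ S, f i ^ 2 = 1 ∧ ∀ j ∈ S, j ≠ i → f j = 0 := by
  obtain ⟨i, hi, h0⟩ := exists_ne_zero_of_sum_ne_zero (h.trans_ne one_ne_zero)
  have h1 : f i ≠ 0 := fun e => h0 (by simp [e])
  have := sq_le_sum (f := f) hi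
  have := sq_pos_of_ne_zero h1
  exact ⟨i, hi, by omega, fun j hj => uniq h.le hi h1 hj⟩

theorem kill (h : ∑ i ∈ S, f i ^ 2 ≤ 1) (e : ∑ i ∈ S, f i * g i = 0) {i : I} (hi : i ∈ S)
    (h0 : f i ≠ 0) : g i = 0 := by
  rw [sum_eq_single_of_mem i hi fun j hj n => by rw [uniq h hi h0 hj n, zero_mul]] at e
  exact (mul_eq_zero.1 e).resolve_left h0

theorem ne_three (h : #S ≤ 2) : ∑ i ∈ S, f i ^ 2 ≠ 3 := by
  have k : ∀ a b : ℤ, a ^ 2 + b ^ 2 ≠ 3 := fun a b e => by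
    have : -2 < a := by nlinarith
    have : a < 2 := by nlinarith
    have : -2 < b := by nlinarith
    have : b < 2 := by nlinarith
    interval_cases a <;> interval_cases b <;> omega
  obtain h | h | h : #S = 0 ∨ #S = 1 ∨ #S = 2 := by omega
  · simp [card_eq_zero.1 h]
  · obtain ⟨a, rfl⟩ := card_eq_one.1 h
    simpa using k (f a) 0
  · obtain ⟨a, b, n, rfl⟩ := card_eq_two.1 h
    rw [sum_pair n]; exact k _ _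

theorem bessel {L : I → ℤ} (h1 : ∑ i ∈ S, f i ^ 2 = 1) (h2 : ∑ i ∈ S, g i ^ 2 ≤ 1)
    (h3 : ∑ i ∈ S, f i * g i = 0) :
    (∑ i ∈ S, f i * L i) ^ 2 + (∑ i ∈ S, g i * L i) ^ 2 ≤ ∑ i ∈ S, L i ^ 2 := by
  set q := ∑ i ∈ S, f i * L i with hq
  set E := ∑ i ∈ S, g i * L i with hE
  have h0 : 0 ≤ ∑ i ∈ S, (L i - q * f i - E * g i) ^ 2 := sum_nonneg fun _ _ => sq_nonneg _
  have : ∑ i ∈ S, (L i - q * f i - E * g i) ^ 2 = ∑ i ∈ S, L i ^ 2 + q ^ 2 * ∑ i ∈ S, f i ^ 2 +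
      E ^ 2 * ∑ i ∈ S, g i ^ 2 - 2 * q * ∑ i ∈ S, f i * L i - 2 * E * ∑ i ∈ S, g i * L i +
      2 * q * E * ∑ i ∈ S, f i * g i := by
    simp only [mul_sum, ← sum_add_distrib, ← sum_sub_distrib]
    exact sum_congr rfl fun _ _ => by ring
  rw [h1, h3, ← hq, ← hE] at this
  nlinarith [mul_le_mul_of_nonneg_left h2 (sq_nonneg E)]

theorem sq_eq_one_iff_of_ne_zero_or' {e : ℤ} (h : e ^ 2 = 1) : e = 1 ∨ e = -1 :=
  sq_eq_one_iff.1 h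

/-- the shape of a vector on its own family -/
def Fam (F : Finset I) (f : I → ℤ) : Prop :=
  ∃ θ ∈ F, ∃ ε c : ℤ, ε ^ 2 = 1 ∧ f θ = c - ε ∧ ∀ i ∈ F, i ≠ θ → f i = c

/-- constant on a family -/
def Cst {R : Type*} (F : Finset I) (L : I → R) : Prop := ∀ i ∈ F, ∀ j ∈ F, L i = L j

theorem Fam.sums (h : Fam F f) : ∃ ε c : ℤ, (ε = 1 ∨ ε = -1) ∧ ∑ i ∈ F, f i = #F * c - ε ∧
    ∑ i ∈ F, f i ^ 2 = #F * c ^ 2 - 2 * ε * c + 1 := by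
  obtain ⟨θ, hθ, ε, c, h1, h2, h3⟩ := h
  have k : ∀ u : ℤ → ℤ, ∑ i ∈ F, u (f i) = u (c - ε) + (#F - 1) * u c := fun u => by
    rw [← add_sum_erase _ _ hθ, h2, sum_congr rfl fun i hi => by
      rw [h3 i (mem_of_mem_erase hi) (ne_of_mem_erase hi)], sum_const, card_erase_of_mem hθ,
      nsmul_eq_mul, Nat.cast_sub (card_pos.2 ⟨θ, hθ⟩), Nat.cast_one]
  refine ⟨ε, c, sq_eq_one_iff_of_ne_zero_or' h1, ?_, ?_⟩
  · rw [k (·)]; ring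
  · rw [k (· ^ 2)]; linear_combination h1

theorem Fam.pos (h : Fam F f) (h2 : 2 ≤ #F) : 1 ≤ ∑ i ∈ F, f i ^ 2 ∧ ∑ i ∈ F, f i ≠ 0 ∧
    (∑ i ∈ F, f i ^ 2 = 1 → (∑ i ∈ F, f i) ^ 2 = 1) ∧
    (∑ i ∈ F, f i ^ 2 = 2 → (∑ i ∈ F, f i) ^ 2 = 4) := by
  obtain ⟨ε, c, h1, e1, e2⟩ := h.sums
  rw [e1, e2]
  clear e1 e2
  generalize #F = n at h2
  have h2 : (2 : ℤ) ≤ n := by exact_mod_cast h2
  generalize (n : ℤ) = n at h2
  wlog h : ε = 1 generalizing ε c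
  · have := this (-ε) (-c) (by omega) (by omega)
    refine ⟨by linarith [this.1], fun e => this.2.1 (by linarith), fun e => ?_, fun e => ?_⟩
    · linear_combination this.2.2.1 (by linarith)
    · linear_combination this.2.2.2 (by linarith)
  subst h
  have k : 0 ≤ c * (c - 1) := by
    rcases le_or_gt c 0 with h | h
    · nlinarith
    · nlinarith
  refine ⟨by nlinarith, fun e => ?_, fun e => ?_, fun e => ?_⟩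
  · have : n ∣ 1 := ⟨c, by linarith⟩
    have := Int.le_of_dvd one_pos this
    omega
  · have : c * (n * c - 2) = 0 := by linarith
    rcases mul_eq_zero.1 this with h | h
    · simp [h]
    · rw [show n * c - 1 = 1 by linarith]; rfl
  · have : c * (n * c - 2) = 1 := by linarith
    rcases Int.eq_one_or_neg_one_of_mul_eq_one' this with ⟨h, h'⟩ | ⟨h, h'⟩
    · rw [show n * c - 1 = 2 by linarith]; rfl
    · subst h; omega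

theorem Cst.sum {R : Type*} [CommRing R] {L : I → R} (h : Cst F L) {j : I} (hj : j ∈ F)
    (f : I → ℤ) : ∑ i ∈ F, (f i : R) * L i = (∑ i ∈ F, f i : ℤ) * L j := by
  rw [Int.cast_sum, sum_mul]
  exact sum_congr rfl fun i hi => by rw [h i hi j hj]

theorem Cst.sum' {R : Type*} [AddCommMonoid R] {L : I → R} (h : Cst F L) {j : I} (hj : j ∈ F) :
    ∑ i ∈ F, L i = #F • L j := by
  rw [← sum_const]
  exact sum_congr rfl fun i hi => h i hi j hj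

theorem num {h₁ h₂ h₃ δ a₂ a₃ w₂ w₃ q₂ q₃ s₂ s₃ m₂ m₃ m : ℤ} (c1 : 2 ≤ h₁) (c2 : 3 ≤ h₂)
    (c3 : 3 ≤ h₃) (hδ : δ ^ 2 = 1) (p2 : 1 ≤ q₂) (p3 : 1 ≤ q₃) (l2 : 0 ≤ m₂) (l3 : 0 ≤ m₃)
    (l : 0 ≤ m₂ + 2 * m + m₃) (cs : m ^ 2 ≤ m₂ * m₃)
    (n2 : 1 + h₁ * (a₂ + δ) ^ 2 + q₂ + h₃ * w₂ ^ 2 + a₂ ^ 2 + m₂ = 5)
    (n3 : 1 + h₁ * (a₃ + δ) ^ 2 + h₂ * w₃ ^ 2 + q₃ + a₃ ^ 2 + m₃ = 5)
    (e : 1 + h₁ * ((a₂ + δ) * (a₃ + δ)) + s₂ * w₃ + s₃ * w₂ + a₂ * a₃ + m = 0) :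
    w₂ = 0 ∧ w₃ = 0 ∧ ((a₂ = -δ ∧ a₃ = -δ ∧ m₂ = 2 ∧ m₃ = 2 ∧ m = -2 ∧ q₂ = 1 ∧ q₃ = 1) ∨
      (h₁ = 2 ∧ a₂ = 0 ∧ a₃ = -δ ∧ m₂ = 1 ∧ q₂ = 1 ∧ m = -1 ∧ m₃ + q₃ = 3) ∨
      (h₁ = 2 ∧ a₃ = 0 ∧ a₂ = -δ ∧ m₃ = 1 ∧ q₃ = 1 ∧ m = -1 ∧ m₂ + q₂ = 3)) := by
  have k : ∀ a h w r : ℤ, 3 ≤ h → 0 ≤ r → h₁ * (a + δ) ^ 2 + h * w ^ 2 + a ^ 2 + r = 3 →
      w = 0 ∧ (a = 0 ∨ a = -δ) := fun a h w r hh hr n => by
    have t1 := mul_le_mul_of_nonneg_right c1 (sq_nonneg (a + δ))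
    have t2 := mul_le_mul_of_nonneg_right hh (sq_nonneg w)
    have ha : a = 0 ∨ a = -δ := by
      by_contra! hn
      have : -2 < a := by nlinarith [sq_nonneg (a + δ), sq_nonneg w]
      have : a < 2 := by nlinarith [sq_nonneg (a + δ), sq_nonneg w]
      rcases sq_eq_one_iff.1 hδ with rfl | rfl <;> interval_cases a <;> simp_all <;>
        nlinarith [sq_nonneg w]
    refine ⟨?_, ha⟩
    by_contra h0
    have := sq_pos_of_ne_zero h0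
    rcases ha with rfl | rfl <;> nlinarith
  obtain ⟨rfl, u2⟩ := k a₂ h₃ w₂ (q₂ - 1 + m₂) c3 (by omega) (by linarith)
  obtain ⟨rfl, u3⟩ := k a₃ h₂ w₃ (q₃ - 1 + m₃) c2 (by omega) (by linarith)
  refine ⟨rfl, rfl, ?_⟩
  have hδ' : δ * δ = 1 := by linarith
  rcases u2 with rfl | rfl <;> rcases u3 with rfl | rfl <;>
    simp only [zero_add, neg_add_cancel, hδ, hδ', neg_mul_neg, even_two, Even.neg_pow, mul_zero,
      zero_mul, ne_eq, OfNat.ofNat_ne_zero, not_false_eq_true, zero_pow] at n2 n3 e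
  · exfalso
    have : m₂ * m₃ ≤ 1 := by nlinarith
    nlinarith
  · obtain rfl : m = -1 := by omega
    have : m₂ ≠ 0 := by rintro rfl; simp at cs
    omega
  · obtain rfl : m = -1 := by omega
    have : m₃ ≠ 0 := by rintro rfl; simp at cs
    omega
  · omega

theorem numA {h₁ h₂ h₃ p t y z E : ℤ} (c1 : 2 ≤ h₁) (c2 : 3 ≤ h₂) (c3 : 3 ≤ h₃) (c : 7 ≤ h₂ + h₃)
    (ht : t ^ 2 = (p + 1) ^ 2) (hy : y ^ 2 = (1 - p + E) ^ 2) (hz : z ^ 2 = (1 - p - E) ^ 2) :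
    10 ≤ 1 + h₁ * t ^ 2 + h₂ * y ^ 2 + h₃ * z ^ 2 + p ^ 2 := by
  rw [ht, hy, hz]
  have t1 := mul_le_mul_of_nonneg_right c1 (sq_nonneg (p + 1))
  have t2 := mul_le_mul_of_nonneg_right c2 (sq_nonneg (1 - p + E))
  have t3 := mul_le_mul_of_nonneg_right c3 (sq_nonneg (1 - p - E))
  rcases lt_trichotomy p 0 with h | rfl | h
  · nlinarith [sq_nonneg E, sq_nonneg (p + 1)]
  · by_cases h : E = 0
    · subst h; simp; omega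
    · have := sq_pos_of_ne_zero h
      nlinarith
  · nlinarith [sq_nonneg (1 - p + E), sq_nonneg (1 - p - E)]

theorem numA' {h₂ h₃ p t y z s q E r : ℤ} (c2 : 3 ≤ h₂) (c3 : 3 ≤ h₃) (hs : s ^ 2 ≤ 4)
    (ht : t ^ 2 = (p + 1) ^ 2) (hy : y ^ 2 = (3 + 2 * p + q) ^ 2) (hz : 1 - p - q + E + s * z = 0)
    (hr : q ^ 2 + E ^ 2 ≤ r) : 7 ≤ 1 + 2 * t ^ 2 + h₂ * y ^ 2 + h₃ * z ^ 2 + p ^ 2 + r := by
  rw [ht, hy]
  have t2 := mul_le_mul_of_nonneg_right c2 (sq_nonneg (3 + 2 * p + q))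
  have t3 := mul_le_mul_of_nonneg_right c3 (sq_nonneg z)
  by_contra! hn
  have b : 2 * (p + 1) ^ 2 + 3 * (3 + 2 * p + q) ^ 2 + 3 * z ^ 2 + p ^ 2 + q ^ 2 + E ^ 2 ≤ 5 := by
    linarith
  clear hn t2 t3 hr ht hy
  have := sq_nonneg (3 + 2 * p + q)
  have := sq_nonneg z
  have := sq_nonneg q
  have := sq_nonneg E
  have : -2 < p := by nlinarith
  have : p < 1 := by nlinarith
  have : -3 < q := by nlinarith [sq_nonneg p, sq_nonneg (p + 1)]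
  have : q < 3 := by nlinarith [sq_nonneg p, sq_nonneg (p + 1)]
  have : -2 < z := by nlinarith [sq_nonneg p, sq_nonneg (p + 1)]
  have : z < 2 := by nlinarith [sq_nonneg p, sq_nonneg (p + 1)]
  have : -3 < s := by nlinarith
  have : s < 3 := by nlinarith
  obtain rfl : E = p + q - 1 - s * z := by linarith
  interval_cases p <;> interval_cases q <;> interval_cases z <;> interval_cases s <;> omega

variable [Fintype I] {o χ : I} {F₁ F₂ F₃ : Finset I} {P₁ P₂ P₃ : I → ℤ} {δ : ℤ}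

structure CB (o : I) (F₁ F₂ F₃ : Finset I) (P₁ P₂ P₃ : I → ℤ) : Prop where
  o1 : o ∉ F₁
  o2 : o ∉ F₂
  o3 : o ∉ F₃
  d12 : Disjoint F₁ F₂
  d13 : Disjoint F₁ F₃
  d23 : Disjoint F₂ F₃
  c1 : 2 ≤ #F₁
  c2 : 3 ≤ #F₂
  c3 : 3 ≤ #F₃
  c23 : 7 ≤ #F₂ + #F₃
  f1 : Fam F₁ P₁
  f2 : Fam F₂ P₂
  f3 : Fam F₃ P₃
  p1 : P₁ o = 1
  p2 : P₂ o = 1
  p3 : P₃ o = 1
  n1 : ∑ i, P₁ i ^ 2 = 3
  n2 : ∑ i, P₂ i ^ 2 = 5
  n3 : ∑ i, P₃ i ^ 2 = 5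
  e12 : ∑ i, P₁ i * P₂ i = 0
  e13 : ∑ i, P₁ i * P₃ i = 0
  e23 : ∑ i, P₂ i * P₃ i = 0
  k12 : Cst F₁ P₂
  k13 : Cst F₁ P₃
  k21 : Cst F₂ P₁
  k23 : Cst F₂ P₃
  k31 : Cst F₃ P₁
  k32 : Cst F₃ P₂
  deg : ∃ d : I → ℤ, (∀ i, 0 < d i) ∧ d o = 1 ∧ Cst F₁ d ∧ ∑ i, P₁ i * d i = 0

/-- vectors constant on the families and orthogonal to the three vectors -/
structure W {R : Type*} [CommRing R] (F₁ F₂ F₃ : Finset I) (P₁ P₂ P₃ : I → ℤ) (L : I → R) :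
    Prop where
  k1 : Cst F₁ L
  k2 : Cst F₂ L
  k3 : Cst F₃ L
  e1 : ∑ i, (P₁ i : R) * L i = 0
  e2 : ∑ i, (P₂ i : R) * L i = 0
  e3 : ∑ i, (P₃ i : R) * L i = 0

/-- the rest -/
def X (o : I) (F₁ F₂ F₃ : Finset I) : Finset I := (insert o (F₁ ∪ F₂ ∪ F₃))ᶜ

/-- where all three vectors vanish -/
def B (o : I) (F₁ F₂ F₃ : Finset I) (P₁ P₂ P₃ : I → ℤ) : Finset I :=
  {i ∈ X o F₁ F₂ F₃ | P₁ i = 0 ∧ P₂ i = 0 ∧ P₃ i = 0}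

theorem mem_X {i : I} : i ∈ X o F₁ F₂ F₃ ↔ i ≠ o ∧ i ∉ F₁ ∧ i ∉ F₂ ∧ i ∉ F₃ := by
  simp [X, and_assoc]

theorem X_swap : X o F₁ F₃ F₂ = X o F₁ F₂ F₃ := by
  ext; simp only [mem_X]; tauto

theorem B_swap : B o F₁ F₃ F₂ P₁ P₃ P₂ = B o F₁ F₂ F₃ P₁ P₂ P₃ := by
  ext; simp only [B, X_swap, mem_filter]; tauto

theorem W.swap {R : Type*} [CommRing R] {L : I → R} (h : W F₁ F₂ F₃ P₁ P₂ P₃ L) :
    W F₁ F₃ F₂ P₁ P₃ P₂ L := ⟨h.1, h.3, h.2, h.4, h.6, h.5⟩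

namespace CB
variable (h : CB o F₁ F₂ F₃ P₁ P₂ P₃)
include h

theorem swap : CB o F₁ F₃ F₂ P₁ P₃ P₂ :=
  ⟨h.o1, h.o3, h.o2, h.d13, h.d12, h.d23.symm, h.c1, h.c3, h.c2, by have := h.c23; omega, h.f1, h.f3,
    h.f2, h.p1, h.p3, h.p2, h.n1, h.n3, h.n2, h.e13, h.e12, by simpa only [mul_comm] using h.e23,
    h.k13, h.k12, h.k31, h.k32, h.k21, h.k23, h.deg⟩

theorem split {R : Type*} [AddCommMonoid R] (f : I → R) : ∑ i, f i =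
    f o + ∑ i ∈ F₁, f i + ∑ i ∈ F₂, f i + ∑ i ∈ F₃, f i + ∑ i ∈ X o F₁ F₂ F₃, f i := by
  rw [← sum_add_sum_compl (insert o (F₁ ∪ F₂ ∪ F₃)), sum_insert (by simp [h.o1, h.o2, h.o3]),
    sum_union (disjoint_union_left.2 ⟨h.d13, h.d23⟩), sum_union h.d12, X]
  abel

theorem split' {R : Type*} [AddCommMonoid R] (hχ : χ ∈ X o F₁ F₂ F₃) (f : I → R) : ∑ i, f i =
    f o + ∑ i ∈ F₁, f i + ∑ i ∈ F₂, f i + ∑ i ∈ F₃, f i + f χ +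
      ∑ i ∈ (X o F₁ F₂ F₃).erase χ, f i := by
  rw [h.split, ← add_sum_erase _ _ hχ, add_assoc _ (f χ)]

theorem ex : (∃ a, a ∈ F₁) ∧ (∃ a, a ∈ F₂) ∧ ∃ a, a ∈ F₃ :=
  ⟨card_pos.1 (by have := h.c1; omega), card_pos.1 (by have := h.c2; omega),
    card_pos.1 (by have := h.c3; omega)⟩

theorem z2 {i : I} (hi : i ∈ F₂) : P₁ i = 0 := by
  have n := h.n1
  rw [h.split, h.p1, Cst.sum' (L := fun i => P₁ i ^ 2) (fun a ha b hb => by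
    simp only [h.k21 a ha b hb]) hi, nsmul_eq_mul] at n
  have := (h.f1.pos h.c1).1
  have : 0 ≤ ∑ i ∈ F₃, P₁ i ^ 2 := sum_nonneg fun _ _ => sq_nonneg _
  have : 0 ≤ ∑ i ∈ X o F₁ F₂ F₃, P₁ i ^ 2 := sum_nonneg fun _ _ => sq_nonneg _
  have : (3 : ℤ) ≤ #F₂ := by exact_mod_cast h.c2
  by_contra h0
  have := sq_pos_of_ne_zero h0
  nlinarith

theorem z3 {i : I} (hi : i ∈ F₃) : P₁ i = 0 := h.swap.z2 hi

theorem first : ∃ χ ∈ X o F₁ F₂ F₃, ∃ θ ∈ F₁, ∃ δ : ℤ, δ ^ 2 = 1 ∧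
    ∀ {R : Type} [CommRing R] (f : I → R), ∑ i, (P₁ i : R) * f i = f o + δ * f χ - δ * f θ := by
  obtain ⟨d, d0, d1, d2, d3⟩ := h.deg
  obtain ⟨⟨a, ha⟩, -⟩ := h.ex
  obtain ⟨q1, -, q3, q4⟩ := h.f1.pos h.c1
  have n := h.n1
  have s2 : ∀ {R : Type} [AddCommMonoid R] (u : I → ℤ → R), (∀ i, u i 0 = 0) →
      ∑ i, u i (P₁ i) = u o 1 + ∑ i ∈ F₁, u i (P₁ i) + ∑ i ∈ X o F₁ F₂ F₃, u i (P₁ i) := by
    intro R _ u hu
    rw [h.split, h.p1, sum_eq_zero (s := F₂) fun i hi => by rw [h.z2 hi, hu],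
      sum_eq_zero (s := F₃) fun i hi => by rw [h.z3 hi, hu], add_zero, add_zero]
  rw [s2 (fun _ z => z ^ 2) (by simp)] at n
  rw [s2 (fun i z => z * d i) (by simp), d1] at d3
  have x0 : 0 ≤ ∑ i ∈ X o F₁ F₂ F₃, P₁ i ^ 2 := sum_nonneg fun _ _ => sq_nonneg _
  have q : ∑ i ∈ F₁, P₁ i ^ 2 = 1 := by
    by_contra q
    have e := d2.sum ha P₁
    simp only [Int.cast_id] at e
    rw [e, sum_eq_zero (s := X o F₁ F₂ F₃) fun i hi => by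
      rw [zero_of (S := X o F₁ F₂ F₃) (f := P₁) (by omega) hi, zero_mul]] at d3
    rcases sq_eq_sq_iff_eq_or_eq_neg.1 ((q4 (by omega)).trans (by norm_num : (4 : ℤ) = 2 ^ 2))
      with e | e <;> rw [e] at d3 <;> omega
  obtain ⟨θ, hθ, t1, t2⟩ := one q
  obtain ⟨χ, hχ, u1, u2⟩ := one (S := X o F₁ F₂ F₃) (f := P₁) (by omega)
  have k : ∀ {R : Type} [CommRing R] (f : I → R),
      ∑ i, (P₁ i : R) * f i = f o + P₁ θ * f θ + P₁ χ * f χ := fun f => by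
    rw [s2 (fun i z => (z : _) * f i) (by simp), sum_eq_single_of_mem θ hθ fun j hj n => by
      simp [t2 j hj n], sum_eq_single_of_mem χ hχ fun j hj n => by simp [u2 j hj n]]
    simp
  have e : P₁ θ = -P₁ χ := by
    have e := k d
    simp only [Int.cast_id] at e
    rw [s2 (fun i z => z * d i) (by simp), d1, d3] at e
    have := d0 θ
    have := d0 χ
    rcases sq_eq_one_iff.1 t1 with a | a <;> rcases sq_eq_one_iff.1 u1 with b | b <;>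
      rw [a, b] at e ⊢ <;> omega
  refine ⟨χ, hχ, θ, hθ, P₁ χ, u1, fun f => ?_⟩
  rw [k, e]; push_cast; ring

theorem red {R : Type} [CommRing R] {θ Y Z : I} (hχ : χ ∈ X o F₁ F₂ F₃) (hθ : θ ∈ F₁)
    (hY : Y ∈ F₂) (hZ : Z ∈ F₃) {L : I → R} (k1 : Cst F₁ L) (k2 : Cst F₂ L) :
    ∑ i, (P₂ i : R) * L i = L o + #F₁ * (P₂ θ * L θ) + (∑ i ∈ F₂, P₂ i : ℤ) * L Y +
      P₂ Z * ∑ i ∈ F₃, L i + P₂ χ * L χ + ∑ i ∈ (X o F₁ F₂ F₃).erase χ, P₂ i * L i := by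
  rw [h.split' hχ, h.p2, k2.sum hY, Cst.sum' (L := fun i => (P₂ i : R) * L i) (fun a ha b hb => by
    simp only [h.k12 a ha b hb, k1 a ha b hb]) hθ, mul_sum, sum_congr rfl (s₁ := F₃) fun i hi => by
    rw [h.k32 i hi Z hZ]]
  simp

theorem nrm {θ Y Z : I} (hχ : χ ∈ X o F₁ F₂ F₃) (hθ : θ ∈ F₁) (hY : Y ∈ F₂) (hZ : Z ∈ F₃)
    {L : I → ℤ} (w : W F₁ F₂ F₃ P₁ P₂ P₃ L) : ∑ i, L i ^ 2 = L o ^ 2 + #F₁ * L θ ^ 2 +
      #F₂ * L Y ^ 2 + #F₃ * L Z ^ 2 + L χ ^ 2 + ∑ i ∈ (X o F₁ F₂ F₃).erase χ, L i ^ 2 := by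
  have k : ∀ {F : Finset I} {a : I}, Cst F L → a ∈ F → ∑ i ∈ F, L i ^ 2 = #F * L a ^ 2 :=
    fun c ha => by
      rw [Cst.sum' (L := fun i => L i ^ 2) (fun a ha b hb => by simp only [c a ha b hb]) ha,
        nsmul_eq_mul]
  rw [h.split' hχ, k w.k1 hθ, k w.k2 hY, k w.k3 hZ]

theorem nrm2 {θ Z : I} (hχ : χ ∈ X o F₁ F₂ F₃) (hθ : θ ∈ F₁) (hZ : Z ∈ F₃) :
    1 + #F₁ * P₂ θ ^ 2 + ∑ i ∈ F₂, P₂ i ^ 2 + #F₃ * P₂ Z ^ 2 + P₂ χ ^ 2 +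
      ∑ i ∈ (X o F₁ F₂ F₃).erase χ, P₂ i ^ 2 = 5 := by
  have k : ∀ {F : Finset I} {a : I}, Cst F P₂ → a ∈ F → ∑ i ∈ F, P₂ i ^ 2 = #F * P₂ a ^ 2 :=
    fun c ha => by
      rw [Cst.sum' (L := fun i => P₂ i ^ 2) (fun a ha b hb => by simp only [c a ha b hb]) ha,
        nsmul_eq_mul]
  rw [← h.n2, h.split' hχ, k h.k12 hθ, k h.k32 hZ, h.p2, one_pow]

end CB

/-- the data of the normal form -/
structure NF (o χ θ Y Z : I) (F₁ F₂ F₃ : Finset I) (P₁ P₂ P₃ : I → ℤ) (δ : ℤ) : Prop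
    extends CB o F₁ F₂ F₃ P₁ P₂ P₃ where
  hχ : χ ∈ X o F₁ F₂ F₃
  hθ : θ ∈ F₁
  hY : Y ∈ F₂
  hZ : Z ∈ F₃
  hδ : δ ^ 2 = 1
  s1 : ∀ {R : Type} [CommRing R] (f : I → R), ∑ i, (P₁ i : R) * f i = f o + δ * f χ - δ * f θ

/-- main case -/
def Mn (o χ : I) (F₁ F₂ F₃ : Finset I) (P₂ P₃ : I → ℤ) (δ : ℤ) : Prop :=
  P₂ χ = -δ ∧ P₃ χ = -δ ∧ ∑ i ∈ (X o F₁ F₂ F₃).erase χ, P₂ i ^ 2 = 2 ∧
    (∀ i ∈ (X o F₁ F₂ F₃).erase χ, P₃ i = -P₂ i) ∧ (∑ i ∈ F₂, P₂ i) ^ 2 = 1 ∧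
    (∑ i ∈ F₃, P₃ i) ^ 2 = 1

/-- the other case -/
def Al (o χ : I) (F₁ F₂ F₃ : Finset I) (P₂ P₃ : I → ℤ) (δ : ℤ) : Prop :=
  (#F₁ : ℤ) = 2 ∧ P₂ χ = 0 ∧ P₃ χ = -δ ∧ ∑ i ∈ (X o F₁ F₂ F₃).erase χ, P₂ i ^ 2 = 1 ∧
    ∑ i ∈ (X o F₁ F₂ F₃).erase χ, (P₂ i + P₃ i) ^ 2 ≤ 1 ∧
    ∑ i ∈ (X o F₁ F₂ F₃).erase χ, P₂ i * (P₂ i + P₃ i) = 0 ∧ (∑ i ∈ F₂, P₂ i) ^ 2 = 1 ∧
    (∑ i ∈ F₃, P₃ i) ^ 2 ≤ 4

theorem CB.nf (h : CB o F₁ F₂ F₃ P₁ P₂ P₃) : ∃ χ θ Y Z δ, NF o χ θ Y Z F₁ F₂ F₃ P₁ P₂ P₃ δ :=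
  let ⟨χ, a, θ, b, δ, c, d⟩ := h.first
  let ⟨_, ⟨Y, e⟩, Z, f⟩ := h.ex
  ⟨χ, θ, Y, Z, δ, h, a, b, e, f, c, d⟩

namespace NF
variable {θ Y Z : I} (h : NF o χ θ Y Z F₁ F₂ F₃ P₁ P₂ P₃ δ)
include h

theorem swap : NF o χ θ Z Y F₁ F₃ F₂ P₁ P₃ P₂ δ :=
  ⟨h.toCB.swap, by rw [X_swap]; exact h.hχ, h.hθ, h.hZ, h.hY, h.hδ, h.s1⟩

theorem th {L : I → ℤ} (e : ∑ i, P₁ i * L i = 0) : L θ = L χ + δ * L o := by
  have := h.s1 L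
  simp only [Int.cast_id] at this
  linear_combination δ * (this.symm.trans e) * -1 + (L χ - L θ) * h.hδ

theorem cases : P₂ Z = 0 ∧ P₃ Y = 0 ∧ (Mn o χ F₁ F₂ F₃ P₂ P₃ δ ∨ Al o χ F₁ F₂ F₃ P₂ P₃ δ ∨
    Al o χ F₁ F₃ F₂ P₃ P₂ δ) := by
  have t2 := h.th h.e12
  have t3 := h.th h.e13
  have n2 := h.nrm2 h.hχ h.hθ h.hZ
  have n3 := h.swap.nrm2 h.swap.hχ h.hθ h.hY
  have e := h.red h.hχ h.hθ h.hY h.hZ h.k13 h.k23
  simp only [Int.cast_id] at e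
  rw [h.e23, h.p3] at e
  rw [h.p2, mul_one] at t2
  rw [h.p3, mul_one] at t3
  rw [X_swap] at n3
  rw [t2] at n2 e
  rw [t3] at n3 e
  obtain ⟨a1, -, a2, a3⟩ := h.f2.pos (by have := h.c2; omega)
  obtain ⟨b1, -, b2, b3⟩ := h.f3.pos (by have := h.c3; omega)
  unfold Mn Al
  rw [X_swap (F₂ := F₂)]
  generalize (X o F₁ F₂ F₃).erase χ = S at n2 n3 e ⊢
  have q : ∑ i ∈ S, (P₂ i + P₃ i) ^ 2 =
      ∑ i ∈ S, P₂ i ^ 2 + 2 * ∑ i ∈ S, P₂ i * P₃ i + ∑ i ∈ S, P₃ i ^ 2 := by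
    simp only [mul_sum, ← sum_add_distrib]; exact sum_congr rfl fun _ _ => by ring
  have q' : ∑ i ∈ S, (P₃ i + P₂ i) ^ 2 = ∑ i ∈ S, (P₂ i + P₃ i) ^ 2 := by simp only [add_comm]
  have r : ∑ i ∈ S, P₂ i * (P₂ i + P₃ i) = ∑ i ∈ S, P₂ i ^ 2 + ∑ i ∈ S, P₂ i * P₃ i := by
    simp only [← sum_add_distrib]; exact sum_congr rfl fun _ _ => by ring
  have r' : ∑ i ∈ S, P₃ i * (P₃ i + P₂ i) = ∑ i ∈ S, P₃ i ^ 2 + ∑ i ∈ S, P₂ i * P₃ i := by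
    simp only [← sum_add_distrib]; exact sum_congr rfl fun _ _ => by ring
  have l : 0 ≤ ∑ i ∈ S, (P₂ i + P₃ i) ^ 2 := sum_nonneg fun _ _ => sq_nonneg _
  obtain ⟨u, v, w⟩ := num (s₂ := ∑ i ∈ F₂, P₂ i) (s₃ := ∑ i ∈ F₃, P₃ i) (h₂ := #F₂)
    (w₃ := P₃ Y) (a₃ := P₃ χ) (by exact_mod_cast h.c1)
    (by exact_mod_cast h.c2) (by exact_mod_cast h.c3) h.hδ a1 b1
    (sum_nonneg fun _ _ => sq_nonneg _) (sum_nonneg fun _ _ => sq_nonneg _) (q ▸ l)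
    (sum_mul_sq_le_sq_mul_sq S P₂ P₃) n2 (by linarith) (by linarith)
  refine ⟨u, v, w.imp (fun w => ⟨w.1, w.2.1, w.2.2.1, fun i hi => ?_, a2 (by omega),
    b2 (by omega)⟩) (Or.imp (fun w => ⟨w.1, w.2.1, w.2.2.1, w.2.2.2.1, by omega, by omega,
      a2 (by omega), ?_⟩) fun w => ?_)⟩
  · have := zero_of (S := S) (f := fun i => P₂ i + P₃ i) (by omega) hi
    omega
  · by_cases k : ∑ i ∈ F₃, P₃ i ^ 2 = 1
    · rw [b2 k]; norm_num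
    · rw [b3 (by omega)]
  · refine ⟨w.1, w.2.1, w.2.2.1, w.2.2.2.1, by omega, by omega, b2 (by omega), ?_⟩
    by_cases k : ∑ i ∈ F₂, P₂ i ^ 2 = 1
    · rw [a2 k]; norm_num
    · rw [a3 (by omega)]

theorem r2 {R : Type} [CommRing R] {L : I → R} (w : W F₁ F₂ F₃ P₁ P₂ P₃ L) :
    L o + #F₁ * (P₂ θ * L θ) + (∑ i ∈ F₂, P₂ i : ℤ) * L Y + P₂ χ * L χ +
      ∑ i ∈ (X o F₁ F₂ F₃).erase χ, P₂ i * L i = 0 := by
  rw [← w.e2, h.red h.hχ h.hθ h.hY h.hZ w.k1 w.k2, h.cases.1]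
  simp

theorem r3 {R : Type} [CommRing R] {L : I → R} (w : W F₁ F₂ F₃ P₁ P₂ P₃ L) :
    L o + #F₁ * (P₃ θ * L θ) + (∑ i ∈ F₃, P₃ i : ℤ) * L Z + P₃ χ * L χ +
      ∑ i ∈ (X o F₁ F₂ F₃).erase χ, P₃ i * L i = 0 := by
  have := h.swap.r2 w.swap
  rwa [X_swap] at this

theorem van {L : I → ℂ} (w : W F₁ F₂ F₃ P₁ P₂ P₃ L) (e : ∀ i ∈ insert o (X o F₁ F₂ F₃), L i = 0)
    (i : I) : L i = 0 := by
  have e0 := e o (mem_insert_self _ _)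
  have e1 := fun i hi => e i (mem_insert_of_mem hi)
  have d : (δ : ℂ) ≠ 0 := by
    have := h.hδ
    rintro k; rw [Int.cast_eq_zero.1 k] at this; simp at this
  have a : L θ = 0 := by simpa [h.s1, e0, e1 _ h.hχ, d] using w.e1
  have b := h.r2 w
  have c := h.r3 w
  rw [sum_eq_zero (s := Finset.erase _ χ) fun i hi => by
    rw [e1 i (mem_of_mem_erase hi), mul_zero], e0, a, e1 _ h.hχ] at b c
  simp only [mul_zero, zero_add, add_zero, mul_eq_zero, Int.cast_eq_zero,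
    (h.f2.pos (by have := h.c2; omega)).2.1, (h.f3.pos (by have := h.c3; omega)).2.1,
    false_or] at b c
  by_cases k : i = o
  · rw [k, e0]
  by_cases k1 : i ∈ F₁
  · rw [w.k1 i k1 θ h.hθ, a]
  by_cases k2 : i ∈ F₂
  · rw [w.k2 i k2 Y h.hY, b]
  by_cases k3 : i ∈ F₃
  · rw [w.k3 i k3 Z h.hZ, c]
  exact e1 i (mem_X.2 ⟨k, k1, k2, k3⟩)

theorem z1 {i : I} (hi : i ∈ (X o F₁ F₂ F₃).erase χ) : P₁ i = 0 := by
  obtain ⟨a, hi⟩ := mem_erase.1 hi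
  obtain ⟨b, c, -⟩ := mem_X.1 hi
  have d : θ ≠ i := fun e => c (e ▸ h.hθ)
  simpa [Pi.single_apply, a.symm, b.symm, d] using h.s1 (R := ℤ) (Pi.single i 1)

theorem cnt' (e : ∑ i ∈ (X o F₁ F₂ F₃).erase χ, P₂ i ^ 2 +
    ∑ i ∈ (X o F₁ F₂ F₃).erase χ, (P₂ i + P₃ i) ^ 2 ≤ 2) :
    #(insert o (X o F₁ F₂ F₃)) ≤ 4 + #(B o F₁ F₂ F₃ P₁ P₂ P₃) := by
  have a := supp_le ((X o F₁ F₂ F₃).erase χ) P₂
  have b := supp_le ((X o F₁ F₂ F₃).erase χ) fun i => P₂ i + P₃ i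
  have c : X o F₁ F₂ F₃ ⊆ insert χ ({i ∈ (X o F₁ F₂ F₃).erase χ | P₂ i ≠ 0} ∪
      {i ∈ (X o F₁ F₂ F₃).erase χ | P₂ i + P₃ i ≠ 0} ∪ B o F₁ F₂ F₃ P₁ P₂ P₃) := fun i hi => by
    by_cases k : i = χ
    · simp [k]
    have := h.z1 (mem_erase.2 ⟨k, hi⟩)
    simp only [mem_insert, mem_union, mem_filter, mem_erase, B, k, hi]
    simp only [ne_eq, k, this, not_false_eq_true, and_self, true_and, false_or]
    omega
  have := (card_le_card c).trans ((card_insert_le _ _).trans (Nat.add_le_add_right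
    ((card_union_le _ _).trans (Nat.add_le_add_right (card_union_le _ _) _)) _))
  have := card_insert_le o (X o F₁ F₂ F₃)
  omega

theorem cnt : #(insert o (X o F₁ F₂ F₃)) ≤ 4 + #(B o F₁ F₂ F₃ P₁ P₂ P₃) := by
  obtain ⟨-, -, m | m | m⟩ := h.cases
  · refine h.cnt' ?_
    rw [m.2.2.1, sum_eq_zero fun i hi => by simp [m.2.2.2.1 i hi]]
    rfl
  · exact h.cnt' (by have := m.2.2.2.1; have := m.2.2.2.2.1; omega)
  · have := h.swap.cnt' (by have := m.2.2.2.1; have := m.2.2.2.2.1; omega)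
    rwa [X_swap, B_swap] at this

theorem mnA (m : Mn o χ F₁ F₂ F₃ P₂ P₃ δ) {L : I → ℤ} (w : W F₁ F₂ F₃ P₁ P₂ P₃ L) (e : L o = 1) :
    10 ≤ ∑ i, L i ^ 2 := by
  obtain ⟨m1, m2, -, m4, m5, m6⟩ := m
  have a := h.th (by simpa using w.e1)
  have b := h.r2 w
  have c := h.r3 w
  rw [sum_congr (s₁ := Finset.erase _ χ) rfl fun i hi => by rw [m4 i hi]] at c
  rw [h.th h.e12, m1, h.p2] at b
  rw [h.th h.e13, m2, h.p3] at c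
  simp only [Int.cast_id, neg_mul, sum_neg_distrib, e, mul_one, neg_add_cancel, zero_mul,
    mul_zero] at a b c
  have := numA (h₁ := #F₁) (h₂ := #F₂) (h₃ := #F₃) (p := δ * L χ) (t := L θ) (y := L Y) (z := L Z)
    (E := ∑ i ∈ (X o F₁ F₂ F₃).erase χ, P₂ i * L i) (by exact_mod_cast h.c1)
    (by exact_mod_cast h.c2) (by exact_mod_cast h.c3) (by exact_mod_cast h.c23)
    (by rw [a]; linear_combination (1 - L χ ^ 2) * h.hδ)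
    (by rw [← one_mul (L Y ^ 2), ← m5, ← mul_pow, sq_eq_sq_iff_eq_or_eq_neg]; right; linarith)
    (by rw [← one_mul (L Z ^ 2), ← m6, ← mul_pow, sq_eq_sq_iff_eq_or_eq_neg]; right; linarith)
  rw [h.nrm h.hχ h.hθ h.hY h.hZ w, e]
  have : 0 ≤ ∑ i ∈ (X o F₁ F₂ F₃).erase χ, L i ^ 2 := sum_nonneg fun _ _ => sq_nonneg _
  have : (δ * L χ) ^ 2 = L χ ^ 2 := by rw [mul_pow, h.hδ, one_mul]
  linarith

theorem alR (m : Al o χ F₁ F₂ F₃ P₂ P₃ δ) {L : I → ℤ} (w : W F₁ F₂ F₃ P₁ P₂ P₃ L) :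
    3 * L o + 2 * (δ * L χ) + ∑ i ∈ (X o F₁ F₂ F₃).erase χ, P₂ i * L i +
      (∑ i ∈ F₂, P₂ i) * L Y = 0 ∧
    L o - δ * L χ - ∑ i ∈ (X o F₁ F₂ F₃).erase χ, P₂ i * L i +
      ∑ i ∈ (X o F₁ F₂ F₃).erase χ, (P₂ i + P₃ i) * L i + (∑ i ∈ F₃, P₃ i) * L Z = 0 := by
  obtain ⟨m0, m1, m2, -⟩ := m
  have a := h.th (by simpa using w.e1)
  have b := h.r2 w
  have c := h.r3 w
  rw [h.th h.e12, m1, h.p2, m0, a] at b
  rw [h.th h.e13, m2, h.p3] at c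
  simp only [Int.cast_id, add_mul, sum_add_distrib] at b c ⊢
  exact ⟨by linear_combination b - 2 * L o * h.hδ, by linear_combination c⟩

theorem alA (m : Al o χ F₁ F₂ F₃ P₂ P₃ δ) {L : I → ℤ} (w : W F₁ F₂ F₃ P₁ P₂ P₃ L) (e : L o = 1) :
    7 ≤ ∑ i, L i ^ 2 := by
  obtain ⟨b, c⟩ := h.alR m w
  obtain ⟨m0, -, -, m3, m4, m5, m6, m7⟩ := m
  have a := h.th (by simpa using w.e1)
  rw [e] at a b c
  have := numA' (h₂ := #F₂) (h₃ := #F₃) (p := δ * L χ) (t := L θ) (y := L Y)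
    (by exact_mod_cast h.c2) (by exact_mod_cast h.c3) m7
    (by rw [a]; linear_combination (1 - L χ ^ 2) * h.hδ)
    (by rw [← one_mul (L Y ^ 2), ← m6, ← mul_pow, sq_eq_sq_iff_eq_or_eq_neg]; right; linarith) c
    (bessel m3 m4 m5)
  rw [h.nrm h.hχ h.hθ h.hY h.hZ w, e, m0]
  have : (δ * L χ) ^ 2 = L χ ^ 2 := by rw [mul_pow, h.hδ, one_mul]
  linarith

theorem alB (m : Al o χ F₁ F₂ F₃ P₂ P₃ δ) (hB : #(B o F₁ F₂ F₃ P₁ P₂ P₃) ≤ 2) {L : I → ℤ}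
    (w : W F₁ F₂ F₃ P₁ P₂ P₃ L) (e : L o = 0) : ∑ i, L i ^ 2 ≠ 3 := fun n => by
  obtain ⟨b, c⟩ := h.alR m w
  obtain ⟨m0, -, -, m3, m4, m5, m6, -⟩ := m
  have a := h.th (by simpa using w.e1)
  have d := bessel (L := L) m3 m4 m5
  rw [h.nrm h.hχ h.hθ h.hY h.hZ w, a, m0] at n
  rw [e] at n b c
  have c2 : (3 : ℤ) ≤ #F₂ := by exact_mod_cast h.c2
  have c3 : (3 : ℤ) ≤ #F₃ := by exact_mod_cast h.c3
  have t2 := mul_le_mul_of_nonneg_right c2 (sq_nonneg (L Y))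
  have t3 := mul_le_mul_of_nonneg_right c3 (sq_nonneg (L Z))
  have s3 := (h.f3.pos (by omega)).2.1
  have hδ := h.hδ
  set q := ∑ i ∈ (X o F₁ F₂ F₃).erase χ, P₂ i * L i with hq
  set E := ∑ i ∈ (X o F₁ F₂ F₃).erase χ, (P₂ i + P₃ i) * L i with hE
  have k : ∀ a : ℤ, a ^ 2 < 1 → a = 0 := fun a h => by nlinarith
  have := sq_nonneg q
  have := sq_nonneg E
  have := sq_nonneg (L Y)
  have := sq_nonneg (L Z)
  have x0 : L χ = 0 := by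
    by_contra x0
    have := sq_pos_of_ne_zero x0
    rw [k q (by nlinarith), k (L Y) (by nlinarith)] at b
    have : δ * L χ = 0 := by linarith
    exact x0 (by linear_combination δ * this - L χ * hδ)
  rw [x0] at n b c
  have y0 : q ^ 2 = L Y ^ 2 := by
    rw [← one_mul (L Y ^ 2), ← m6, ← mul_pow, sq_eq_sq_iff_eq_or_eq_neg]; right; linarith
  have y1 : L Y = 0 := k _ (by nlinarith)
  have q0 : q = 0 := k _ (by rw [y0, y1]; norm_num)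
  have z0 : L Z = 0 := by
    by_contra z0
    have := sq_pos_of_ne_zero z0
    rw [q0, k E (by nlinarith)] at c
    exact z0 ((mul_eq_zero.1 (by linarith)).resolve_left s3)
  have E0 : E = 0 := by rw [q0, z0] at c; linarith
  refine ne_three (f := L) hB ?_
  rw [y1, z0] at n
  rw [← n]
  simp only [ne_eq, OfNat.ofNat_ne_zero, not_false_eq_true, zero_pow, mul_zero, add_zero, zero_add]
  symm
  rw [← sum_filter_add_sum_filter_not _ (fun i => P₂ i = 0 ∧ P₃ i = 0),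
    sum_eq_zero (s := filter (fun i => ¬ _) _) fun i hi => by
      obtain ⟨h1, h2⟩ := mem_filter.1 hi
      by_cases u : P₂ i = 0
      · rw [kill m4 E0 h1 (by omega)]; rfl
      · rw [kill m3.le q0 h1 u]; rfl, add_zero]
  refine sum_subset (fun i hi => ?_) fun i hi hn => ?_
  · obtain ⟨h1, h2⟩ := mem_filter.1 hi
    exact mem_filter.2 ⟨mem_of_mem_erase h1, h.z1 h1, h2⟩
  · obtain ⟨h1, -, h2⟩ := mem_filter.1 hi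
    by_cases u : i = χ
    · rw [u, x0]; rfl
    · exact (hn (mem_filter.2 ⟨mem_erase.2 ⟨u, h1⟩, h2⟩)).elim

theorem seven {L : I → ℤ} (w : W F₁ F₂ F₃ P₁ P₂ P₃ L) (e : L o = 1) : 7 ≤ ∑ i, L i ^ 2 := by
  obtain ⟨-, -, m | m | m⟩ := h.cases
  · have := h.mnA m w e; omega
  · exact h.alA m w e
  · exact h.swap.alA m w.swap e

theorem AB (hB : #(B o F₁ F₂ F₃ P₁ P₂ P₃) ≤ 2) {L M : I → ℤ} (w : W F₁ F₂ F₃ P₁ P₂ P₃ L)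
    (e : L o = 1) (n : ∑ i, L i ^ 2 = 9) (w' : W F₁ F₂ F₃ P₁ P₂ P₃ M) (e' : M o = 0) :
    ∑ i, M i ^ 2 ≠ 3 := by
  obtain ⟨-, -, m | m | m⟩ := h.cases
  · have := h.mnA m w e; omega
  · exact h.alB m hB w' e'
  · exact h.swap.alB m (by rwa [B_swap]) w'.swap e'

end NF

end H5.SC
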