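import Cfsg.Agent.H5.SC1
import Cfsg.Agent.H5.FrobChar
import Cfsg.Agent.H19.Amb5

/-! Characters attached to a subgroup that is the centralizer of each of its non-identity elements. -/

set_option autoImplicit false
set_option linter.unusedSectionVars false

open Cfsg
namespace H5.SC

open H19 Subgroup H5
open scoped ComplexConjugate

variable {G : Type*} [Group G] {A : Subgroup G} {a g k : G} {e : ℕ}

/-- the centralizer of each of its non-identity elements -/
def SSC (A : Subgroup G) : Prop := ∀ a ∈ A, a ≠ 1 → C[a] = A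

/-- not conjugate to a non-identity element of `A` -/
def Off (A : Subgroup G) (g : G) : Prop := ∀ x : G, x * g * x⁻¹ ∈ A → g = 1

theorem off_one : Off A 1 := fun _ _ => rfl

theorem SSC.norm (h : SSC A) (hk : k ∈ A) (h1 : k ≠ 1) (e : g * k * g⁻¹ ∈ A) : g ∈ N(A) := by
  rw [mem_norm_iff_cj]
  conv_lhs => rw [← h k hk h1]
  rw [cj_cent1, h _ e (by simpa using h1)]

theorem SSC.ti (h : SSC A) (g : G) (hg : g ∉ N(A)) (k : G) (hk : k ∈ A) (e : g * k * g⁻¹ ∈ A) :
    k = 1 := by
  by_contra h1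
  exact hg (h.norm hk h1 e)

theorem SSC.comm (h : SSC A) (a : G) (ha : a ∈ A) (b : G) (hb : b ∈ A) : a * b = b * a := by
  by_cases h1 : b = 1
  · simp [h1]
  · exact mem_cent1.1 ((h b hb h1).ge ha)

theorem SSC.off (h : SSC A) (o : Off A g) (h1 : g ≠ 1) (e : k * g = g * k) : Off A k := fun x hx => by
  by_contra h2
  refine h1 (o x ((h _ hx (by simpa using h2)).le (mem_cent1.2 ?_)))
  simp only [mul_assoc, inv_mul_cancel_left]
  rw [← mul_assoc k, e, mul_assoc]

variable [Fintype G]

/-- the family `F` of `A` and the coefficients `P` of a virtual character living on `A` -/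
structure Ex (A : Subgroup G) (e : ℕ) (F : Finset (IrrCharacter G)) (P : IrrCharacter G → ℤ) :
    Prop where
  card : e * F.card + 1 = #A
  o : irrOne G ∉ F
  fam : Fam F P
  p : P (irrOne G) = 1
  n : ∑ φ, P φ ^ 2 = e + 1
  off : ∀ g, Off A g → ∑ φ, (P φ : ℂ) * φ.1 g = 0
  cst : ∀ g, Off A g → Cst F fun φ => φ.1 g
  val : ∀ φ ∉ F, ∀ a ∈ A, a ≠ 1 → φ.1 a = P φ

theorem SSC.ex (h : SSC A) (he : A.relIndex N(A) = e) (hn : e + 1 < #A) : ∃ F P, Ex A e F P := by
  classical
  set L := N(A) with hL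
  set K := A.subgroupOf L with hK
  have hC : ∀ k ∈ A, k ≠ 1 → C[k] ≤ A := fun k a b => (h k a b).le
  have hf := frob_subgroupOf hC L
  have hi : K.index = e := he
  have cK : Nat.card K = #A := card_subgroupOf' le_normalizer
  have cL : Nat.card L = #A * e := by rw [← cK, ← hi, K.card_mul_index]
  have e0 : (e : ℂ) ≠ 0 := Nat.cast_ne_zero.2 (hi ▸ index_ne_zero_of_finite)
  have n0 : (#A : ℂ) ≠ 0 := Nat.cast_ne_zero.2 (card_ne_zero A)
  let ι := {χ : IrrCharacter L // ¬ K ≤ charKer χ.1}
  have hdeg : ∀ χ : ι, χ.1.1 1 = e := fun χ => hi ▸ χ.1.2.apply_one_of_frob_of_comm hf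
    (fun a ha b hb => Subtype.ext (h.comm _ ha _ hb)) χ.2
  have hvan : ∀ (χ : ι) (x : L), (x : G) ∉ A → χ.1.1 x = 0 := fun χ x hx =>
    χ.1.2.apply_eq_zero_of_frob hf χ.2 hx
  have hc : e * Fintype.card ι + 1 = #A := by
    have := sum_irr_not_le_charKer (K := K) (one_mem _)
    rw [Finset.sum_subtype (p := fun χ : IrrCharacter L => ¬ K ≤ charKer χ.1) _ (by simp),
      regChar_one, cL, hi] at this
    simp only [hdeg, Finset.sum_const, Finset.card_univ, nsmul_eq_mul] at this
    push_cast at this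
    exact_mod_cast (mul_left_cancel₀ e0 (by linear_combination this) :
      (e : ℂ) * Fintype.card ι + 1 = #A)
  have h2 : 1 < Fintype.card ι := by
    by_contra! h2
    have := Nat.mul_le_mul_left e h2
    omega
  haveI := Fintype.one_lt_card_iff_nontrivial.1 h2
  obtain ⟨χ₀⟩ : Nonempty ι := inferInstance
  have cf : ∀ χ : ι, IsClassFunction L χ.1.1 := fun χ => χ.1.2.isClassFunction
  have inn : ∀ χ ξ : ι, classInner χ.1.1 ξ.1.1 = if χ = ξ then 1 else 0 := fun χ ξ => by
    rw [classInner_irr]; simp only [Subtype.ext_iff, ι]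
  have one : ∀ χ : ι, classInner χ.1.1 (fun _ => 1) = 0 := fun χ =>
    χ.1.2.classInner_one fun e => χ.2 (by rw [e]; exact fun _ _ _ => rfl)
  obtain ⟨ε, hε, μ, h1, h3, h4⟩ := H6.exceptional_of_isometry χ₀
    (fun χ => indFun L (χ.1.1 - χ₀.1.1)) (by simp [indFun_zero])
    (fun χ => (χ.1.2.isGeneralizedCharacter.sub χ₀.1.2.isGeneralizedCharacter).ind)
    (fun χ => by simp [indFun_apply_one, hdeg]) (fun χ ξ hχ hξ => by
      rw [classInner_indFun_of_TIset _ (A := A) h.ti ((cf ξ).sub (cf χ₀))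
        (fun x hx => by simp [hvan _ x hx]) (fun x hx => by simp [hvan _ x hx]) (by simp [hdeg])]
      simp only [classInner_sub_left, classInner_sub_right, inn, hχ, hξ.symm, if_true, if_false]
      split_ifs <;> norm_num)
  obtain ⟨ε', hε', rfl⟩ : ∃ ε' : ℤ, ε' ^ 2 = 1 ∧ (ε' : ℂ) = ε := by
    rcases hε with rfl | rfl
    exacts [⟨1, rfl, by simp⟩, ⟨-1, rfl, by simp⟩]
  have ε2 : (ε' : ℂ) ^ 2 = 1 := by exact_mod_cast hε'
  let ν : ι → IrrCharacter G := fun χ => ⟨μ χ, h1 χ⟩
  have hν : Function.Injective ν := fun a b e => h3 (congrArg Subtype.val e)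
  let ρ : L → ℂ := indFun K fun _ => 1
  have gρ : IsGeneralizedCharacter L ρ := isCharacter_one.ind.isGeneralizedCharacter
  have vρ : ∀ x : L, (x : G) ∉ A → ρ x = 0 := fun x hx => indFun_eq_zero_of_normal _ _ hx
  have ρ1 : ρ 1 = e := by simp [ρ, indFun_apply_one, hi]
  have ρχ : ∀ χ : ι, classInner χ.1.1 ρ = 0 := fun χ => by
    rw [classInner_indFun_right _ _ (cf χ)]
    by_contra h0
    exact χ.2 (χ.1.2.le_charKer_of_classInner_one h0)
  have ρχ' : ∀ χ : ι, classInner ρ χ.1.1 = 0 := fun χ => (classInner_eq_zero_comm _ _).1 (ρχ χ)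
  have ρρ : classInner ρ ρ = e := by
    rw [classInner_indFun_right _ _ gρ.isClassFunction, classInner_one_right, Finset.sum_congr rfl
      (g := fun _ => (e : ℂ)) fun k _ => by
        simp only [ρ, indFun_apply_of_normal, Finset.sum_const, Finset.card_univ,
          ← Nat.card_eq_fintype_card, cL, cK, nsmul_eq_mul]
        push_cast; field_simp]
    simp only [Finset.sum_const, Finset.card_univ, ← Nat.card_eq_fintype_card, cK, nsmul_eq_mul]
    field_simp
  have gθ := gρ.sub χ₀.1.2.isGeneralizedCharacter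
  have vθ : ∀ x : L, (x : G) ∉ A → (ρ - χ₀.1.1) x = 0 := fun x hx => by simp [vρ x hx, hvan _ x hx]
  have θ1 : (ρ - χ₀.1.1) 1 = 0 := by simp [ρ1, hdeg]
  obtain ⟨P, p1, p2, p3⟩ := gθ.ind.exists_coeff
  have zero : ∀ θ : L → ℂ, (∀ x : L, (x : G) ∉ A → θ x = 0) → θ 1 = 0 → ∀ g, Off A g →
      indFun L θ g = 0 := fun θ a b g o => indFun_eq_zero _ _ fun x hx => by
    by_cases k : x * g * x⁻¹ ∈ A
    · rw [← b]; congr 1; simp [o x k]
    · exact a _ k
  refine ⟨Finset.univ.map ⟨ν, hν⟩, P, by simpa using hc, fun ho => ?_,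
    ⟨ν χ₀, by simp, ε', P (ν χ₀) + ε', hε', by ring, fun i hi hne => ?_⟩, ?_, ?_, fun g o => ?_,
    fun g o i hi j hj => ?_, fun φ hφ a ha a1 => ?_⟩
  · obtain ⟨χ, -, e⟩ := Finset.mem_map.1 ho
    obtain ⟨ξ, hξ⟩ := exists_ne χ
    have k : ∀ χ : ι, (ε' : ℂ) * (classInner (μ χ) (fun _ => 1) - classInner (μ χ₀) fun _ => 1) = 0 :=
      fun χ => by
        rw [← classInner_sub_left, ← classInner_smul_left, ← h4,
          classInner_indFun_left _ _ (isClassFunction_const 1), classInner_sub_left, one, one,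
          sub_self]
    have a := k χ
    have b := k ξ
    have e' : μ χ = fun _ => 1 := congrArg Subtype.val e
    rw [e', classInner_one_one] at a
    rw [(h1 ξ).classInner_one fun k => hξ (h3 (k.trans e'.symm))] at b
    exact one_ne_zero (by linear_combination ε' * (a - b) - ε2 : (1 : ℂ) = 0)
  · obtain ⟨χ, -, rfl⟩ := Finset.mem_map.1 hi
    have hχ : χ ≠ χ₀ := fun e => hne (by rw [e]; rfl)
    have k := classInner_indFun_of_TIset _ (A := A) h.ti ((cf χ).sub (cf χ₀)) vθ
      (fun x hx => by simp [hvan _ x hx]) θ1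
    rw [h4, classInner_smul_right, classInner_sub_right, p1 (ν χ), p1 (ν χ₀)] at k
    simp only [classInner_sub_left, classInner_sub_right, inn, ρχ', hχ.symm, map_intCast] at k
    have : (P (ν χ) : ℂ) = P (ν χ₀) + ε' := by
      norm_num at k
      linear_combination ε' * k - (P (ν χ) - P (ν χ₀) : ℂ) * ε2
    exact_mod_cast this
  · have := p1 (irrOne G)
    rw [show ((irrOne G).1 : G → ℂ) = fun _ => 1 from rfl,
      classInner_indFun_left _ _ (isClassFunction_const 1), classInner_sub_left, one,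
      classInner_indFun_one_one] at this
    exact_mod_cast this.symm.trans (sub_zero _)
  · rw [classInner_indFun_of_TIset _ (A := A) h.ti gθ.isClassFunction vθ vθ θ1] at p3
    simp only [classInner_sub_left, classInner_sub_right, inn, ρχ', ρχ, ρρ] at p3
    have : ((∑ φ, P φ ^ 2 : ℤ) : ℂ) = e + 1 := by rw [← p3]; simp
    exact_mod_cast this
  · simpa using (congrFun p2 g).symm.trans (zero _ vθ θ1 g o)
  · have k : ∀ χ : ι, μ χ g = μ χ₀ g := fun χ => by
      have := (congrFun (h4 χ) g).symm.trans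
        (zero _ (fun x hx => by simp [hvan _ x hx]) (by simp [hdeg]) g o)
      simp only [Pi.smul_apply, Pi.sub_apply, smul_eq_mul] at this
      linear_combination ε' * this - (μ χ g - μ χ₀ g) * ε2
    obtain ⟨χ, -, rfl⟩ := Finset.mem_map.1 hi
    obtain ⟨ξ, -, rfl⟩ := Finset.mem_map.1 hj
    exact (k χ).trans (k ξ).symm
  · have c := φ.2.isClassFunction
    have ne : ∀ χ, classInner φ.1 (μ χ) = 0 := fun χ => φ.2.classInner_of_ne (h1 χ) fun e =>
      hφ (Finset.mem_map.2 ⟨χ, Finset.mem_univ _, Subtype.ext e.symm⟩)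
    set m := classInner (fun x : L => φ.1 x) χ₀.1.1 with hm
    have k : ∀ b : L, b ∈ K → b ≠ 1 → φ.1 b = φ.1 1 - m * #A := fun b hb b1 => by
      rw [(c.restrict L).apply_eq_of_proportional (K := K) (m / e) (fun χ h5 h6 => ?_) hb b1, cL]
      · simp only [OneMemClass.coe_one]; push_cast; field_simp
      · have := classInner_indFun_right L (χ - χ₀.1.1) c
        rw [h4 ⟨⟨χ, h5⟩, h6⟩, classInner_smul_right, classInner_sub_right, ne, ne,
          classInner_sub_right] at this
        rw [show χ 1 = e from hdeg ⟨⟨χ, h5⟩, h6⟩]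
        field_simp
        linear_combination -this
    have := p1 φ
    rw [gθ.ind.classInner_comm φ.2.isGeneralizedCharacter, classInner_indFun_right _ _ c,
      classInner_sub_right, classInner_indFun_right _ _ (c.restrict L), classInner_one_right,
      ← hm, ← Finset.add_sum_erase _ _ (Finset.mem_univ 1), Finset.sum_congr rfl
      (g := fun _ => φ.1 1 - m * #A) fun (b : K) hb => k b b.2 fun e =>
        Finset.ne_of_mem_erase hb (Subtype.ext e), Finset.sum_const,
      Finset.card_erase_of_mem (Finset.mem_univ _), Finset.card_univ, ← Nat.card_eq_fintype_card,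
      cK, nsmul_eq_mul, Nat.cast_sub (card_pos A)] at this
    rw [← this, k ⟨a, le_normalizer ha⟩ ha fun e => a1 (congrArg Subtype.val e)]
    simp only [OneMemClass.coe_one]
    field_simp
    ring

end H5.SC
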