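import Cfsg.Agent.H5.TP1

/-! Class numbers of some small groups. -/

set_option autoImplicit false

namespace H5.TP

set_option maxRecDepth 100000 in
theorem kc_s4 : kc (Equiv.Perm (Fin 4)) = 5 := kc_of (by decide +kernel)
set_option maxRecDepth 100000 in
theorem kc_a4 : kc (alternatingGroup (Fin 4)) = 4 := kc_of (by decide +kernel)
set_option maxRecDepth 100000 in
theorem kc_a5 : kc (alternatingGroup (Fin 5)) = 5 := kc_of (by decide +kernel)
set_option maxRecDepth 100000 in
theorem kc_sl : kc H24.SL25 = 9 := kc_of (by decide +kernel)

end H5.TP
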