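import Cfsg.Agent.H24.BinIco

/-! Counting conjugacy classes. -/

set_option autoImplicit false

namespace H5.TP
open Subgroup
open scoped Classical

/-- class number -/
noncomputable abbrev kc (G : Type*) [Group G] : ℕ := Nat.card (ConjClasses G)

variable {G : Type*} [Group G]

theorem card_cent_eq [Fintype G] (B : Subgroup G) (x : G) : Nat.card (B ⊓ centralizer {x} :) =
    ∑ y, if y ∈ B ∧ x * y = y * x then 1 else 0 := by
  rw [Finset.sum_boole, Nat.cast_id, ← Fintype.card_subtype, ← Nat.card_eq_fintype_card]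
  exact Nat.card_congr (Equiv.subtypeEquivRight fun y => by
    simp [mem_centralizer_singleton_iff, eq_comm])

theorem kc_mul [Fintype G] : kc G * Nat.card G = ∑ x : G, Nat.card (centralizer ({x} : Set G)) := by
  rw [← card_comm_eq_card_conjClasses_mul_card, Nat.card_eq_fintype_card, Fintype.card_subtype,
    Finset.card_filter, Fintype.sum_prod_type]
  refine Finset.sum_congr rfl fun x _ => ?_
  rw [← top_inf_eq (centralizer _), card_cent_eq]
  exact Finset.sum_congr rfl fun y _ => by simp [commute_iff_eq]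

theorem kc_of [Fintype G] [DecidableEq G] {k : ℕ}
    (h : ∑ x : G, (Finset.univ.filter fun y : G => x * y = y * x).card = k * Fintype.card G) :
    kc G = k := by
  refine Nat.eq_of_mul_eq_mul_right Fintype.card_pos (.trans ?_ h)
  rw [← Nat.card_eq_fintype_card, kc_mul]
  refine Finset.sum_congr rfl fun x _ => ?_
  rw [← top_inf_eq (centralizer _), card_cent_eq, Finset.card_filter]
  exact Finset.sum_congr rfl fun y _ => by simp

theorem kc_le_of_surj [Finite G] {H : Type*} [Group H] (f : G →* H) (h : Function.Surjective f) :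
    kc H ≤ kc G := Nat.card_le_card_of_surjective _ (ConjClasses.map_surjective h)

theorem kc_congr [Finite G] {H : Type*} [Group H] (e : G ≃* H) : kc G = kc H :=
  haveI := Finite.of_equiv _ e.toEquiv
  le_antisymm (kc_le_of_surj e.symm.toMonoidHom e.symm.surjective)
    (kc_le_of_surj e.toMonoidHom e.surjective)

variable [Finite G]

theorem kc_le : kc G ≤ Nat.card G := Nat.card_le_card_of_surjective _ ConjClasses.mk_surjective

theorem kc_central {Z : Subgroup G} [Z.Normal] (h : Z ≤ center G) :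
    kc G ≤ Nat.card Z * kc (G ⧸ Z) := by
  rw [← Nat.card_prod]
  refine Nat.card_le_card_of_surjective
    (fun x : Z × ConjClasses (G ⧸ Z) => ConjClasses.mk (x.1 * x.2.out.out)) fun c => ?_
  obtain ⟨g, rfl⟩ := ConjClasses.mk_surjective c
  obtain ⟨a, ha⟩ := isConj_iff.1 (ConjClasses.mk_eq_mk_iff_isConj.1
    (Quotient.out_eq (ConjClasses.mk (g : G ⧸ Z))))
  obtain ⟨a, rfl⟩ := QuotientGroup.mk_surjective a
  set b := (Quotient.out (ConjClasses.mk (g : G ⧸ Z))).out
  have e : (a * b * a⁻¹)⁻¹ * g ∈ Z := QuotientGroup.eq.1 (by simpa [b] using ha)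
  refine ⟨(⟨_, e⟩, ConjClasses.mk (g : G ⧸ Z)), ConjClasses.mk_eq_mk_iff_isConj.2
    (isConj_iff.2 ⟨a, ?_⟩)⟩
  change a * ((a * b * a⁻¹)⁻¹ * g * b) * a⁻¹ = g
  rw [← mul_assoc a, mem_center_iff.1 (h e) a, mul_assoc, mul_assoc, ← mul_assoc a,
    ← mem_center_iff.1 (h e), mul_inv_cancel_left]

theorem sum_mem [Fintype G] (B : Subgroup G) (a b : ℕ) :
    (∑ x, if x ∈ B then a else b) + Nat.card B * b = Nat.card B * a + Nat.card G * b := by
  have : ∀ c : ℕ, Nat.card B * c = ∑ x, if x ∈ B then c else 0 := fun c => by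
    rw [← Finset.sum_filter, Finset.sum_const, smul_eq_mul, ← Fintype.card_subtype,
      Nat.card_eq_fintype_card]
  rw [this, this, ← Finset.sum_add_distrib, Nat.card_eq_fintype_card, ← smul_eq_mul, ← Finset.card_univ,
    ← Finset.sum_const, ← Finset.sum_add_distrib]
  exact Finset.sum_congr rfl fun x _ => by split_ifs <;> simp

theorem kc_ge_ab {B : Subgroup G} (h : IsMulCommutative B) : Nat.card B ≤ B.index * kc G := by
  haveI := Fintype.ofFinite G
  have h1 := sum_mem B (Nat.card B) 0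
  have h2 : (∑ x, if x ∈ B then Nat.card B else 0) ≤ kc G * Nat.card G := by
    rw [kc_mul]
    refine Finset.sum_le_sum fun x _ => ?_
    split_ifs with e
    · exact card_le_of_le fun y hy => mem_centralizer_singleton_iff.2
        (congrArg Subtype.val (h.is_comm.comm ⟨y, hy⟩ ⟨x, e⟩))
    · exact Nat.zero_le _
  rw [← B.card_mul_index] at h2
  exact Nat.le_of_mul_le_mul_left (by nlinarith) (Nat.card_pos (α := B))

theorem kc_of_comm (h : IsMulCommutative (⊤ : Subgroup G)) : kc G = Nat.card G :=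
  le_antisymm kc_le (by simpa using kc_ge_ab h)

theorem three_le_kc (h : 3 ≤ Nat.card G) : 3 ≤ kc G := by
  haveI := Fintype.ofFinite G
  have h1 := sum_mem (⊥ : Subgroup G) (Nat.card G) 2
  have h2 : (∑ x, if x ∈ (⊥ : Subgroup G) then Nat.card G else 2) ≤ kc G * Nat.card G := by
    rw [kc_mul]
    refine Finset.sum_le_sum fun x _ => ?_
    split_ifs with e
    · rw [mem_bot.1 e, centralizer_eq_top_iff_subset.2 (by simp), card_top]
    · exact (one_lt_card_iff_ne_bot _).2 fun e' => e (e' ▸ mem_centralizer_singleton_iff.2 rfl)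
  rw [card_bot] at h1
  nlinarith

theorem two_le_kc (h : 2 ≤ Nat.card G) : 2 ≤ kc G := by
  obtain ⟨x, hx⟩ := @exists_ne _ (Finite.one_lt_card_iff_nontrivial.1 h) (1 : G)
  exact Finite.one_lt_card_iff_nontrivial.2 ⟨⟨.mk x, .mk 1, fun e =>
    hx (isConj_one_left.1 (ConjClasses.mk_eq_mk_iff_isConj.1 e))⟩⟩

theorem kc_le_add {Z : Subgroup G} {c : ℕ} (h : ∀ g ∉ Z, Nat.card (centralizer ({g} : Set G)) ≤ c) :
    kc G ≤ Nat.card Z + c := by
  haveI := Fintype.ofFinite G
  have h1 := sum_mem Z (Nat.card G) c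
  have h2 : kc G * Nat.card G ≤ ∑ x, if x ∈ Z then Nat.card G else c := by
    rw [kc_mul]
    refine Finset.sum_le_sum fun x _ => ?_
    split_ifs with e
    exacts [card_le_card_group _, h x e]
  refine Nat.le_of_mul_le_mul_right ?_ (Nat.card_pos (α := G))
  rw [add_mul, mul_comm c]
  omega

theorem kc_le_index {B : Subgroup G} {c : ℕ}
    (h : ∀ g ∉ B, Nat.card (B ⊓ centralizer ({g} : Set G) :) ≤ c) :
    B.index * kc G + c ≤ Nat.card B + B.index ^ 2 * c := by
  haveI := Fintype.ofFinite G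
  have h1 := sum_mem B (Nat.card B) c
  have h2 := sum_mem B 0 (B.index * c)
  have h3 : (∑ x, if x ∈ B then Nat.card (centralizer ({x} : Set G)) else 0) ≤
      ∑ x, if x ∈ B then Nat.card B else c := calc
    _ = ∑ x, ∑ y, if x ∈ B ∧ y * x = x * y then 1 else 0 := Finset.sum_congr rfl fun x _ => by
      rw [← top_inf_eq (centralizer _), card_cent_eq]
      split_ifs with e
      · exact Finset.sum_congr rfl fun y _ => by simp [e, eq_comm]
      · simp [e]
    _ ≤ _ := by
      rw [Finset.sum_comm]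
      refine Finset.sum_le_sum fun y _ => (card_cent_eq B y).ge.trans ?_
      split_ifs with e
      exacts [card_le_of_le inf_le_left, h y e]
  have h4 : kc G * Nat.card G ≤ (∑ x, if x ∈ B then Nat.card (centralizer ({x} : Set G)) else 0) +
      ∑ x, if x ∈ B then 0 else B.index * c := by
    rw [kc_mul, ← Finset.sum_add_distrib]
    refine Finset.sum_le_sum fun x _ => ?_
    split_ifs with e
    · rfl
    rw [zero_add, ← card_mul_index (B.subgroupOf (centralizer {x})), mul_comm]
    refine Nat.mul_le_mul (relIndex_le_of_le_right le_top (by simpa using B.index_ne_zero_of_finite)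
      |>.trans (by simp)) (le_of_eq_of_le ?_ (h x e))
    rw [← inf_subgroupOf_right]
    exact Nat.card_congr (subgroupOfEquivOfLe inf_le_right).toEquiv
  rw [← B.card_mul_index] at h1 h2 h4
  exact Nat.le_of_mul_le_mul_left (by nlinarith) (Nat.card_pos (α := B))

theorem kc_lower {Z : Subgroup G} [Z.Normal] (hZ : Z ≤ center G)
    (htr : ∀ g, ∀ z ∈ Z, IsConj g (z * g) → g ^ 2 ∈ Z ∨ z = 1) (s : Finset ℕ) (h2 : 2 ∉ s)
    (hs : ∀ k ∈ insert 2 s, ∃ x : G ⧸ Z, orderOf x = k) : s.card * Nat.card Z + 1 ≤ kc G := by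
  choose! x hx using hs
  have o : ∀ {k l} {z w : Z}, k ∈ insert 2 s → l ∈ insert 2 s →
      IsConj (z * (x k).out) (w * (x l).out) → k = l := fun {k l z w} a b e => by
    obtain ⟨c, hc⟩ := (QuotientGroup.mk' Z).map_isConj e
    have := hc.orderOf_eq
    simpa [(QuotientGroup.eq_one_iff _).2 z.2, (QuotientGroup.eq_one_iff _).2 w.2, hx k a, hx l b]
      using this
  rw [← Nat.card_eq_finsetCard, ← Nat.card_prod, ← Finite.card_option]
  refine Nat.card_le_card_of_injective (fun a : Option (s × Z) => ConjClasses.mk (a.elim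
    (((1 : Z) : G) * (x 2).out) fun a => a.2 * (x a.1).out)) ?_
  have m := fun k : s => Finset.mem_insert_of_mem (b := 2) k.2
  rintro (_ | ⟨k, z⟩) (_ | ⟨l, w⟩) e <;> replace e := ConjClasses.mk_eq_mk_iff_isConj.1 e
  · rfl
  · exact absurd (o (Finset.mem_insert_self _ _) (m l) e ▸ l.2) h2
  · exact absurd (o (m k) (Finset.mem_insert_self _ _) e ▸ k.2) h2
  obtain rfl : k = l := Subtype.ext (o (m k) (m l) e)
  obtain ⟨a, ha⟩ := isConj_iff.1 e
  simp only [Option.elim] at ha
  have e1 : IsConj (x k).out ((z⁻¹ * w : Z) * (x k).out) := isConj_iff.2 ⟨a, by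
    rw [coe_mul, mul_assoc _ (w : G), ← ha, ← mul_assoc a, mem_center_iff.1 (hZ z.2) a]
    simp [mul_assoc]⟩
  suffices (z⁻¹ * w : Z) = (1 : G) by rw [inv_mul_eq_one.1 (Subtype.ext this)]
  refine (htr _ _ (z⁻¹ * w).2 e1).elim (fun e2 => ?_) id
  have e3 : x k = 1 := orderOf_eq_one_iff.1 (((Nat.dvd_prime Nat.prime_two).1
    (orderOf_dvd_of_pow_eq_one (by simpa using (QuotientGroup.eq_one_iff _).2 e2))).resolve_right
      fun e => h2 ((hx k (m k)).symm.trans e ▸ k.2))
  have e4 := hZ ((QuotientGroup.eq_one_iff (x k).out).1 (by simp [e3]))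
  obtain ⟨b, hb⟩ := isConj_iff.1 e1
  rwa [mem_center_iff.1 e4, mul_inv_cancel_right, eq_comm, mul_eq_right] at hb

end H5.TP
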