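import Cfsg.Agent.H5.TP1
import Cfsg.Agent.H24.NearF3

/-! Class numbers of transitive one-dimensional semilinear groups. -/

set_option autoImplicit false
set_option linter.unusedSectionVars false

namespace H5.TP
open Subgroup H24.NF

variable {G V : Type*} [Group G] {p n : ℕ} [Fact p.Prime] [AddCommGroup V] [Module (ZMod p) V]

/-- there is an irreducible abelian normal subgroup -/
def IA (ρ : G →* (V ≃ₗ[ZMod p] V)) : Prop :=
  ∃ A : Subgroup G, A.Normal ∧ IsMulCommutative A ∧ Irr ρ A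

variable {ρ : G →* (V ≃ₗ[ZMod p] V)} [Finite V] [Nontrivial V] [Finite G]

omit [Finite G] in
theorem card_line {K : Subalgebra (ZMod p) (Module.End (ZMod p) V)} (h : Dom K) (hl : Line K) :
    Nat.card K = Nat.card V := by
  obtain ⟨v, hv⟩ := exists_ne (0 : V)
  refine Nat.card_eq_of_bijective (fun x => x.1 v) ⟨fun x y e => Subtype.ext (sub_eq_zero.1
    (h _ (sub_mem x.2 y.2) v hv (sub_eq_zero.2 e))), fun w => ?_⟩
  obtain ⟨x, hx, e⟩ := hl v hv w
  exact ⟨⟨x, hx⟩, e⟩

theorem IA.gam (h : IA ρ) (ht : Tr ρ) (hρ : Function.Injective ρ) (hn : Nat.card V = p ^ n) :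
    ∃ B : Subgroup G, IsCyclic B ∧ Nat.card B ∣ p ^ n - 1 ∧ B.index ≤ n ∧ ∀ g ∉ B, ∃ l, 2 ≤ l ∧
      l ∣ Nat.card G ∧ (Nat.card (B ⊓ centralizer ({g} : Set G) :) + 1) ^ l ≤ p ^ n := by
  obtain ⟨A, _, h1, h2⟩ := h
  have hd := ht.dom h1
  have h3 := (card_line hd h2.line).trans hn
  have h4 : ∀ b ∈ (nm_Alg (ρ := ρ) (A := A)).aut.ker, R ρ b ∈ Alg ρ A := fun b hb =>
    hd.mem_of_line h2.line (nm_Alg.mem_ker.1 hb)
  obtain ⟨h5, h6⟩ := hd.cyc hρ h4
  refine ⟨_, h5, h3 ▸ h6, hd.index_le nm_Alg h3, fun g hg => ?_⟩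
  letI := hd.isField.toField
  set σ := (nm_Alg (ρ := ρ) (A := A)).aut g
  refine ⟨orderOf σ, ?_, (orderOf_map_dvd _ g).trans (orderOf_dvd_natCard g), ?_⟩
  · have := orderOf_pos σ
    have : orderOf σ ≠ 1 := mt orderOf_eq_one_iff.1 hg
    omega
  let K := Alg ρ A ⊓ Cen ρ (zpowers g)
  have h7 : Dom K := hd.mono inf_le_left
  have h8 := (h7.cyc (A := (nm_Alg (ρ := ρ) (A := A)).aut.ker ⊓ centralizer {g}) hρ fun b hb =>
    ⟨h4 b hb.1, R_mem_Cen (by rw [H4.centralizer_zpowers]; exact hb.2)⟩).2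
  have h9 := h7.two_le
  rw [← h3, Module.natCard_eq_pow_finrank (K := IntermediateField.fixedField (zpowers σ))
    (V := Alg ρ A), IntermediateField.finrank_fixedField_eq_card, Nat.card_zpowers]
  refine Nat.pow_le_pow_left (le_trans (by have := Nat.le_of_dvd (by omega) h8; omega)
    (Nat.card_le_card_of_injective (fun x : K => (⟨⟨x, x.2.1⟩, ?_⟩ :
      IntermediateField.fixedField (zpowers σ))) fun x y e => Subtype.ext ?_)) _
  · rintro ⟨_, k, rfl⟩
    refine (MulAction.stabilizer _ (⟨x, x.2.1⟩ : Alg ρ A)).zpow_mem (x := σ) (Subtype.ext ?_) k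
    change R ρ g * x * R ρ g⁻¹ = x
    rw [mem_Cen.1 x.2.2 g (mem_zpowers g), mul_assoc, R_mul_inv, mul_one]
  · exact congrArg (fun z => z.1.1) e

theorem three_pow (h : 3 ≤ n) : (n + 1) ^ 2 < 3 ^ n := by
  induction n, h using Nat.le_induction with
  | base => norm_num
  | succ n h ih => rw [pow_succ 3]; nlinarith

theorem four_pow (h : 4 ≤ n) : (n + 1) ^ 3 < 4 ^ n := by
  induction n, h using Nat.le_induction with
  | base => norm_num
  | succ n h ih => rw [pow_succ 4]; nlinarith [Nat.mul_le_mul h h, Nat.mul_le_mul (Nat.mul_le_mul h h) (le_refl n)]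

theorem five_pow (h : 1 ≤ n) : (n + 1) ^ 2 < 5 ^ n := by
  induction n, h using Nat.le_induction with
  | base => norm_num
  | succ n h ih => rw [pow_succ 5]; nlinarith

theorem IA.upper (h : IA ρ) (ht : Tr ρ) (hρ : Function.Injective ρ) (hp : ¬ p ∣ Nat.card G)
    {v : V} (hv : v ≠ 0) (hq : Nat.card V ≤ kc G + kc (St ρ v)) :
    kc G + kc (St ρ v) = Nat.card V ∧ (IsCyclic G ∨ Nat.card V = 8 ∧ Nat.card G = 21 ∨
      Nat.card V = 9 ∧ Nat.card G = 16) := by
  have hp' : p.Prime := Fact.out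
  have hn : Nat.card V = p ^ Module.finrank (ZMod p) V := by
    rw [Module.natCard_eq_pow_finrank (K := ZMod p), Nat.card_zmod]
  generalize Module.finrank (ZMod p) V = n at hn
  obtain ⟨B, h1, h2, h3, h4⟩ := h.gam ht hρ hn
  have h5 := (St ρ v).card_mul_index
  have h6 := kc_le (G := St ρ v)
  have h7 := B.card_mul_index
  have h8 : 2 ≤ p ^ n := hn ▸ Finite.one_lt_card
  have h9 := Nat.le_of_dvd (by omega) h2
  rw [ht.index hv, ← h7] at h5
  rw [hn] at hq h5 ⊢
  have h10 : Nat.card (St ρ v) ≤ B.index := Nat.le_of_mul_le_mul_right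
    (h5.le.trans (by nlinarith)) (show 0 < p ^ n - 1 by omega)
  by_cases e : B = ⊤
  · subst e
    have := kc_le (G := G)
    rw [index_top] at h10
    rw [card_top] at h9
    exact ⟨by omega, .inl (isCyclic_of_surjective _ topEquiv.surjective)⟩
  obtain ⟨g, hg, h11⟩ := Set.exists_max_image {g | g ∉ B}
    (fun g => Nat.card (B ⊓ centralizer ({g} : Set G) :)) (Set.toFinite _)
    (not_forall.1 (mt (eq_top_iff' B).2 e))
  obtain ⟨l, l1, l2, l3⟩ := h4 g hg
  have h12 := kc_le_index h11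
  have h13 : 2 ≤ B.index := by
    have := B.index_ne_zero_of_finite
    have := mt index_eq_one.1 e
    omega
  have h14 : ¬ p ∣ B.index := fun e => hp (e.trans B.index_dvd_card)
  generalize Nat.card (B ⊓ centralizer ({g} : Set G) :) = c at l3 h12
  generalize B.index = s at *
  generalize Nat.card B = m at *
  generalize kc G = k at *
  generalize kc (St ρ v) = k' at *
  generalize Nat.card (St ρ v) = h' at *
  have h15 : p ^ n ≤ (s + 1) * (c + 1) := by
    obtain ⟨s, rfl⟩ : ∃ t, s = t + 1 := ⟨s - 1, by omega⟩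
    have := Nat.mul_le_mul_left (s + 1) (hq.trans (Nat.add_le_add_left (h6.trans h10) k))
    refine Nat.le_of_mul_le_mul_left ?_ (show 0 < s by omega)
    nlinarith [Nat.sub_add_cancel (show 1 ≤ p ^ n by omega)]
  have h16 : ∀ j ≤ l, (p ^ n) ^ j ≤ (n + 1) ^ j * p ^ n := fun j a =>
    (Nat.pow_le_pow_left h15 j).trans (by
      rw [mul_pow]
      exact Nat.mul_le_mul (Nat.pow_le_pow_left (by omega) j)
        ((Nat.pow_le_pow_right (by omega) a).trans l3))
  rcases hp'.eq_two_or_odd' with rfl | e2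
  · have l4 : 3 ≤ l := by have := mt (Dvd.dvd.trans · l2) hp; omega
    have := h16 3 l4
    rw [pow_succ, ← pow_mul, mul_comm n, pow_mul] at this
    have := mt four_pow (Nat.le_of_mul_le_mul_right this (by omega)).not_gt
    obtain rfl : n = 3 := by omega
    obtain rfl : s = 3 := by omega
    have : c + 1 < 3 := lt_of_pow_lt_pow_left₀ 3 (by omega)
      (((Nat.pow_le_pow_right (by omega) l4).trans l3).trans_lt (by norm_num))
    omega
  · have e3 : 3 ≤ p := by have := hp'.two_le; obtain ⟨_, rfl⟩ := e2; omega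
    have e4 := h16 2 l1
    rw [pow_two] at e4
    replace e4 := Nat.le_of_mul_le_mul_right e4 (by omega)
    have := mt three_pow ((Nat.pow_le_pow_left e3 n).trans e4).not_gt
    obtain rfl : n = 2 := by omega
    obtain rfl : s = 2 := by omega
    obtain rfl : p = 3 := by nlinarith
    have : c + 1 < 4 := lt_of_pow_lt_pow_left₀ 2 (by omega)
      (((Nat.pow_le_pow_right (by omega) l1).trans l3).trans_lt (by norm_num))
    omega

theorem IA.lower (h : IA ρ) (ht : Tr ρ) (hρ : Function.Injective ρ) (h5 : 5 ≤ p)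
    (hn : Nat.card V = p ^ n) (h2 : 2 ≤ n) : p ≤ kc G := by
  obtain ⟨B, h1, -, h3, -⟩ := h.gam ht hρ hn
  have h4 := kc_ge_ab (B := B) inferInstance
  have h6 := Nat.le_of_dvd Nat.card_pos ht.dvd
  obtain ⟨n, rfl⟩ : ∃ m, n = m + 1 := ⟨n - 1, by omega⟩
  have h7 := Nat.mul_le_mul_right p ((five_pow (n := n) (by omega)).trans_le
    (Nat.pow_le_pow_left h5 n))
  rw [hn, ← B.card_mul_index, pow_succ] at h6
  by_contra! e
  have := Nat.mul_le_mul (h4.trans (Nat.mul_le_mul h3 (Nat.le_sub_one_of_lt e))) h3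
  obtain ⟨q, rfl⟩ : ∃ q, p = q + 1 := ⟨p - 1, by omega⟩
  simp only [add_tsub_cancel_right, Nat.succ_eq_add_one] at *
  have := Nat.sub_le_iff_le_add.1 (h6.trans this)
  nlinarith

end H5.TP
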