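import Cfsg.Agent.H5.TP2
import Cfsg.Agent.H5.FTB2
import Cfsg.Agent.H0.Lift
import Cfsg.Agent.H27.Dickson
import Cfsg.Agent.H21.UC2

/-! Linear `p'`-groups: dimension two, primitive prime divisors, Brauer lift. -/

set_option autoImplicit false
set_option linter.unusedSectionVars false

namespace H5.TP
open Subgroup H24.NF

variable {G V : Type*} [Group G] {p n : ℕ} [Fact p.Prime] [AddCommGroup V] [Module (ZMod p) V]
  {ρ : G →* (V ≃ₗ[ZMod p] V)} [Finite V] [Nontrivial V] [Finite G]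
  {K : Subalgebra (ZMod p) (Module.End (ZMod p) V)}

/-- the exceptional two-dimensional groups -/
def Ex (G : Type*) [Group G] (m : ℕ) : Prop :=
  ∃ (Z : Subgroup G) (_ : Z.Normal), Z ≤ center G ∧ Nat.card Z ∣ m ∧
    (∀ g, ∀ z ∈ Z, IsConj g (z * g) → g ^ 2 ∈ Z ∨ z = 1) ∧
    (Nonempty (G ⧸ Z ≃* alternatingGroup (Fin 4)) ∨ Nonempty (G ⧸ Z ≃* Equiv.Perm (Fin 4)) ∨
      Nonempty (G ⧸ Z ≃* alternatingGroup (Fin 5)))

theorem sq_scalar {F : Type*} [Field F] (M : Matrix (Fin 2) (Fin 2) F) (h : M 0 0 = -M 1 1) :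
    (M * M) 0 1 = 0 ∧ (M * M) 1 0 = 0 ∧ (M * M) 0 0 = (M * M) 1 1 := by
  simp only [Matrix.mul_apply, Fin.sum_univ_two, h]
  exact ⟨by ring, by ring, by ring⟩

theorem dick (hρ : Function.Injective ρ) (hK : Dom K) (h2 : Nat.card V = Nat.card K ^ 2)
    (hc : ∀ g, ∀ x ∈ K, R ρ g * x = x * R ρ g) (hp : ¬ p ∣ Nat.card G) :
    (∃ A : Subgroup G, IsMulCommutative A ∧ A.index ≤ 2) ∨ Ex G (Nat.card K - 1) := by
  letI := hK.isField.toField
  haveI : CharP K p := charP_of_injective_algebraMap (algebraMap (ZMod p) K).injective p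
  have h1 : Module.finrank K V = 2 := Nat.pow_right_injective hK.two_le
    (Module.natCard_eq_pow_finrank.symm.trans h2)
  let b := Module.finBasisOfFinrankEq K V h1
  let τ : G →* Module.End K V :=
    { toFun g := ⟨(R ρ g).toAddHom, fun x v => congrArg (· v) (hc g x x.2)⟩
      map_one' := LinearMap.ext fun v => by simp
      map_mul' g h := LinearMap.ext (mul_app g h) }
  let φ : G →* Matrix (Fin 2) (Fin 2) K := (LinearMap.toMatrixAlgEquiv b).toMonoidHom.comp τ
  have hφ : Function.Injective φ := fun g h e => hρ (LinearEquiv.ext fun v =>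
    congrArg (· v) ((LinearMap.toMatrixAlgEquiv b).injective e))
  let ψ : G →* H27.PG K := Matrix.ProjGenLinGroup.mk.comp φ.toHomUnits
  have h3 : ∀ z, z ∈ ψ.ker ↔ φ z 0 1 = 0 ∧ φ z 1 0 = 0 ∧ φ z 0 0 = φ z 1 1 := fun z =>
    H27.pg_mk_eq_one_iff _
  have h4 : ∀ z ∈ ψ.ker, φ z = algebraMap K _ (φ z 0 0) := fun z hz => by
    obtain ⟨a, b, c⟩ := (h3 z).1 hz
    ext i j; fin_cases i <;> fin_cases j <;> simp [Matrix.algebraMap_matrix_apply, a, b, c]
  have h5 : ψ.ker ≤ center G := fun z hz => mem_center_iff.2 fun g => hφ (by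
    rw [map_mul, map_mul, h4 z hz, Algebra.commutes])
  have h6 : ¬ p ∣ Nat.card (G ⧸ ψ.ker) := fun e => hp (e.trans (card_quotient_dvd_card _))
  have h7 : ∀ A : Subgroup (G ⧸ ψ.ker), IsCyclic A →
      IsMulCommutative (A.comap (QuotientGroup.mk' _)) := fun A _ =>
    ((QuotientGroup.mk' _).subgroupComap A).isMulCommutative_of_isCyclic_of_ker_le_center
      fun z e => mem_center_iff.2 fun g => Subtype.ext (mem_center_iff.1
        (h5 ((QuotientGroup.eq_one_iff _).1 (congrArg Subtype.val e))) g)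
  rcases H27.dickson_hom p _ (QuotientGroup.kerLift_injective ψ) with ⟨h, -⟩ | ⟨h, -⟩ |
    ⟨c, -, h, -⟩ | ⟨-, h⟩ | ⟨rfl, ⟨e⟩⟩ | ⟨-, F, a, h, -⟩
  · exact .inl ⟨_, h7 ⊤ inferInstance, by simp⟩
  · exact absurd h h6
  · exact .inl ⟨_, h7 _ inferInstance,
      (index_comap_of_surjective _ (QuotientGroup.mk'_surjective _)).le.trans h.le⟩
  · refine .inr ⟨_, inferInstance, h5, (hK.cyc hρ fun z hz => ?_).2, fun g z hz e => ?_, h⟩
    · have : τ z = algebraMap K _ (φ z 0 0) := (LinearMap.toMatrixAlgEquiv b).injective (by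
        rw [AlgEquiv.commutes]; exact h4 z hz)
      convert (φ z 0 0).2
      exact LinearMap.ext fun v => congrArg (· v) this
    obtain ⟨c, e⟩ := isConj_iff.1 e
    have e1 := congrArg (fun x => (φ x).trace) e
    simp only [map_mul] at e1
    rw [Matrix.trace_mul_cycle, ← map_mul, inv_mul_cancel, map_one, one_mul, h4 z hz,
      ← Algebra.smul_def, Matrix.trace_smul, smul_eq_mul, ← sub_eq_zero, ← one_sub_mul, mul_eq_zero,
      sub_eq_zero, Matrix.trace_fin_two, add_eq_zero_iff_eq_neg] at e1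
    refine e1.symm.imp (fun e2 => (h3 _).2 ?_) fun e2 => hφ (by rw [h4 z hz, ← e2, map_one, map_one])
    rw [pow_two, map_mul]
    exact sq_scalar _ e2
  · exact absurd (Nat.card_congr e.toEquiv ▸ by rw [Nat.card_eq_fintype_card]; decide +kernel) h6
  · rw [Nat.factorization_eq_zero_of_not_dvd h6, pow_zero] at h
    omega

theorem card_pow (W : Submodule (ZMod p) V) : Nat.card W = p ^ Module.finrank (ZMod p) W := by
  rw [Module.natCard_eq_pow_finrank (K := ZMod p), Nat.card_zmod]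

theorem ppd_irr (hρ : Function.Injective ρ) (hn : Nat.card V = p ^ n) {r : ℕ} (hr : r.Prime)
    (h1 : r ∣ p ^ n - 1) (h2 : ∀ i, 1 ≤ i → i < n → ¬ r ∣ p ^ i - 1) {x : G} (hx : orderOf x = r) :
    Irr ρ (zpowers x) := by
  classical
  haveI := Fact.mk hr
  have hp : p.Prime := Fact.out
  have h0 : n ≠ 0 := by rintro rfl; exact Finite.one_lt_card.ne' hn
  have h3 : r.Coprime p := (Nat.coprime_primes hr hp).2 (by
    rintro rfl
    exact hr.not_dvd_one ((Nat.dvd_sub_iff_right (Nat.one_le_pow _ _ hp.pos) (dvd_pow_self r h0)).1 h1))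
  let F := LinearMap.ker (R ρ x - 1)
  have key : ∀ W, Inv ρ (zpowers x) W → W ≤ F ∨ W = ⊤ ∧ F = ⊥ := fun W hW => by
    haveI := Fintype.ofFinite W
    have hx' : ∀ w ∈ W, R ρ x w ∈ W := hW x (mem_zpowers x)
    let f : Module.End (ZMod p) W := (R ρ x).restrict hx'
    have e1 := Equiv.Perm.card_fixedPoints_modEq (f := (f : W → W)) (p := r) (n := 1) (funext fun w =>
      Subtype.ext (by
        change (f^[r ^ 1] w : V) = w
        simp only [f]
        rw [← Module.End.pow_apply, Module.End.pow_restrict, LinearMap.restrict_coe_apply, ← map_pow,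
          pow_one, ← hx, pow_orderOf_eq_one, map_one, Module.End.one_apply]))
    have e2 : Nat.card (Function.fixedPoints f) = Nat.card (W ⊓ F :) := Nat.card_congr
      ⟨fun w => ⟨w.1, w.1.2, sub_eq_zero.2 (congrArg Subtype.val w.2)⟩,
        fun w => ⟨⟨w.1, w.2.1⟩, Subtype.ext (sub_eq_zero.1 w.2.2)⟩, fun _ => rfl, fun _ => rfl⟩
    rw [← Nat.card_eq_fintype_card, ← Nat.card_eq_fintype_card, e2, card_pow, card_pow] at e1
    have e3 := Submodule.finrank_mono (inf_le_left : W ⊓ F ≤ W)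
    have e4 : Module.finrank (ZMod p) V = n := Nat.pow_right_injective hp.two_le
      (by simpa using (Module.natCard_eq_pow_finrank (K := ZMod p)).symm.trans hn)
    have e5 := W.finrank_le
    obtain ⟨j, e6⟩ := Nat.exists_eq_add_of_le e3
    have e7 := (Nat.modEq_iff_dvd' (Nat.pow_le_pow_right hp.pos e3)).1 e1.symm
    rw [e6, pow_add, ← Nat.mul_sub_one] at e7
    have e9 := fun a b => h2 j a b ((h3.pow_right _).dvd_of_dvd_mul_left e7)
    rcases j.eq_zero_or_pos with rfl | e8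
    · exact .inl (inf_eq_left.1 (Submodule.eq_of_le_of_finrank_eq inf_le_left e6.symm))
    have e10 : ¬ j < n := e9 e8
    have e11 : W = ⊤ := Submodule.eq_top_of_finrank_eq (by omega)
    exact .inr ⟨e11, by
      rw [← top_inf_eq F, ← e11]; exact Submodule.finrank_eq_zero.1 (by omega)⟩
  have h4 := ((key ⊤ fun _ _ _ _ => trivial).resolve_left fun e => hr.ne_one (by
    rw [← hx, orderOf_eq_one_iff]
    exact R_inj hρ (by rw [map_one]; exact sub_eq_zero.1 (LinearMap.ker_eq_top.1 (top_le_iff.1 e))))).2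
  exact fun W hW => (key W hW).imp (fun e => le_bot_iff.1 (h4 ▸ e)) And.left

theorem irr_mono {A B : Subgroup G} (h : Irr ρ A) (e : A ≤ B) : Irr ρ B :=
  fun W hW => h W fun a ha => hW a (e ha)

open H20 in
theorem lift (hρ : Function.Injective ρ) (hn : Nat.card V = p ^ n) (hp : ¬ p ∣ Nat.card G) :
    ∃ χ ∈ Chr (⊤ : Subgroup G), cker χ = ⊥ ∧ deg χ = n := by
  have hp' : p.Prime := Fact.out
  obtain ⟨χ, h1, h2⟩ := H0.exists_lift_module (hp'.coprime_iff_not_dvd.2 hp).symm (R ρ)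
  have h3 : ∀ H ≤ cker χ, Nat.card {v : V // ∀ h ∈ H, R ρ h v = v} = p ^ deg χ := fun H e => by
    haveI := Fintype.ofFinite H
    obtain ⟨d, a, b⟩ := h2 H
    have := dot_triv_of_le_cker e
    rw [dot_eq_classInner, rs_triv, b] at this
    rw [a, deg, ← this]; simp
  have h4 : p ^ deg χ = Nat.card V := (h3 ⊥ bot_le).symm.trans
    (Nat.card_congr (Equiv.subtypeUnivEquiv fun v h e => by simp [mem_bot.1 e]))
  refine ⟨χ, mem_Chr_top.2 h1, eq_bot_iff.2 fun g hg => hρ (LinearEquiv.ext fun v => ?_),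
    Nat.pow_right_injective hp'.two_le (h4.trans hn)⟩
  obtain ⟨w, rfl⟩ := ((Nat.bijective_iff_injective_and_card _).2
    ⟨Subtype.val_injective, (h3 _ le_rfl).trans h4⟩).2 v
  simpa using w.2 g hg

theorem psl_num {k : ℕ} (h3 : 3 ≤ n) (h5 : 5 ≤ p) (h1 : 1 ≤ k) (hk : k ∣ n) (h2 : k ≠ n) :
    ¬ p ^ n - 1 ∣ (p ^ k - 1) * (2 * n * (n + 1) * (2 * n + 1)) := fun h => by
  obtain ⟨d, hd⟩ := hk
  have h4 : 2 ≤ d := by rcases d with _ | _ | d <;> omega
  have h6 : 1 < p ^ k := Nat.one_lt_pow (by omega) (by omega)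
  have h7 : k ≤ n - k := by have := Nat.mul_le_mul_left k h4; omega
  have h8 : p ^ (n - k) ≤ 2 * n * (n + 1) * (2 * n + 1) := by
    have a := Nat.le_of_dvd (Nat.mul_pos (by omega) (by positivity)) h
    rw [show n = k + (n - k) by omega, pow_add, Nat.add_sub_of_le (by omega)] at a
    have : 1 ≤ p ^ (n - k) := Nat.one_le_pow _ _ (by omega)
    refine Nat.le_of_mul_le_mul_left (le_trans ?_ a) (show 0 < p ^ k - 1 by omega)
    rw [Nat.sub_one_mul]; omega
  have h9 : n < 11 := by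
    by_contra! e
    have a : ∀ m, 11 ≤ m → (2 * m * (m + 1) * (2 * m + 1)) ^ 2 < 5 ^ m := fun m e => by
      induction m, e using Nat.le_induction with
      | base => norm_num
      | succ m e ih =>
        have : 2 * (m + 1) * (m + 1 + 1) * (2 * (m + 1) + 1) ≤ 2 * (2 * m * (m + 1) * (2 * m + 1)) := by
          nlinarith [Nat.mul_le_mul e e, Nat.mul_le_mul (Nat.mul_le_mul e (le_refl m)) (le_refl m)]
        have := Nat.pow_le_pow_left this 2
        rw [mul_pow] at this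
        rw [pow_succ 5]
        linarith [Nat.zero_le (5 ^ m)]
    have b := Nat.pow_le_pow_left ((Nat.pow_le_pow_left h5 _).trans h8) 2
    rw [← pow_mul] at b
    exact (a n e).not_ge ((Nat.pow_le_pow_right (by norm_num) (by omega)).trans b)
  have h10 : p < 70 := lt_of_pow_lt_pow_left₀ 2 (by omega) (((Nat.pow_le_pow_right (by omega)
    (show 2 ≤ n - k by omega)).trans h8).trans_lt (by clear * - h9; interval_cases n <;> norm_num))
  have key : ∀ n : Fin 11, ∀ k : Fin 11, ∀ p : Fin 70, 3 ≤ n.1 ∧ 5 ≤ p.1 ∧ 1 ≤ k.1 ∧ k.1 < n ∧ k.1 ∣ n →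
      ¬ p.1 ^ n.1 - 1 ∣ (p ^ k.1 - 1) * (2 * n * (n + 1) * (2 * n + 1)) := by decide +kernel
  exact key ⟨n, h9⟩ ⟨k, by omega⟩ ⟨p, h10⟩ ⟨h3, h5, h1, show k < n by omega, d, hd⟩ h

theorem of_ppd (ht : Tr ρ) (hρ : Function.Injective ρ) (hn : Nat.card V = p ^ n)
    (hp : ¬ p ∣ Nat.card G) (h3 : 3 ≤ n) {r : ℕ} (hr : r.Prime) (h1 : r ∣ p ^ n - 1)
    (h2 : ∀ i, 1 ≤ i → i < n → ¬ r ∣ p ^ i - 1) (h4 : n + 1 < r ∨ r ^ 2 ∣ p ^ n - 1) : IA ρ := by
  haveI := Fact.mk hr
  have hp' : p.Prime := Fact.out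
  obtain ⟨χ, a, b, c⟩ := lift hρ hn hp
  have hf : ∀ g, χ g = χ 1 → g = 1 := fun g e =>
    mem_bot.1 (b ▸ (H20.chr_mem_cker a (mem_top g)).2 e)
  replace a := H20.mem_Chr_top.1 a
  replace c : Cfsg.charDegree χ = n := c
  have h5 := hn ▸ ht.dvd
  have h6 := (H24.dvd_of_prim hp'.pos (by omega) hr h1 h2).2
  have h7 := Nat.le_of_dvd (by have := hr.two_le; omega) h6
  have irr : ∀ A : Subgroup G, r ∣ Nat.card A → Irr ρ A := fun A e => by
    obtain ⟨x, hx⟩ := exists_prime_orderOf_dvd_card' r e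
    exact irr_mono (ppd_irr hρ hn hr h1 h2 ((orderOf_coe x).trans hx)) (zpowers_le.2 x.2)
  have ab : ∀ x : G, r ∣ orderOf x → IsMulCommutative (centralizer ({x} : Set G)) := fun x e =>
    (irr (zpowers x) (by rwa [Nat.card_zpowers])).dom.isMulCommutative hρ fun _ e =>
      R_mem_Cen (by rwa [H4.centralizer_zpowers])
  by_cases h8 : r ^ 2 ∣ Nat.card G
  · obtain ⟨P⟩ : Nonempty (Sylow r G) := inferInstance
    have e1 : r ^ 2 ∣ Nat.card P := P.pow_dvd_card_of_pow_dvd_card h8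
    have e2 : ∀ x ∈ (P : Subgroup G), x ≠ 1 → r ∣ orderOf x := fun x hx e =>
      (orderOf_coe (⟨x, hx⟩ : P)) ▸ P.isPGroup'.dvd_orderOf (mt Subtype.ext_iff.1 e)
    haveI : Nontrivial P := Finite.one_lt_card_iff_nontrivial.1
      ((Nat.one_lt_pow two_ne_zero hr.one_lt).trans_le (Nat.le_of_dvd Nat.card_pos e1))
    obtain ⟨⟨z, hz⟩, e3⟩ := @exists_ne _ P.isPGroup'.center_nontrivial 1
    have e4 : (P : Subgroup G) ≤ centralizer {(z : G)} := fun g hg => mem_centralizer_singleton_iff.2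
      (congrArg Subtype.val (mem_center_iff.1 hz ⟨g, hg⟩))
    have e5 : IsMulCommutative P := ⟨⟨fun a b => Subtype.ext (congrArg Subtype.val
      ((ab z (e2 z z.2 fun e => e3 (Subtype.ext (Subtype.ext e)))).is_comm.comm
        ⟨a, e4 a.2⟩ ⟨b, e4 b.2⟩) :)⟩⟩
    refine ⟨P, H21.feit_normal P (fun x hx e => le_antisymm (fun g hg => mem_centralizer_iff.2
      fun y hy => congrArg Subtype.val ((ab x (e2 x hx e)).is_comm.comm ⟨y,
        mem_centralizer_singleton_iff.2 (congrArg Subtype.val (e5.is_comm.comm ⟨y, hy⟩ ⟨x, hx⟩))⟩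
          ⟨g, hg⟩)) (centralizer_le (Set.singleton_subset_iff.2 hx))) a hf
      (lt_of_lt_of_le ?_ (Nat.le_of_dvd Nat.card_pos e1)), e5, irr _ ((dvd_pow_self r two_ne_zero).trans e1)⟩
    obtain ⟨s, rfl⟩ : ∃ s, r = s + 1 := ⟨r - 1, by omega⟩
    rw [c]; simp only [add_tsub_cancel_right] at h7; nlinarith
  replace h4 := h4.resolve_right fun e => h8 (e.trans h5)
  by_contra h9
  obtain ⟨e1, ⟨e⟩⟩ := H21.brauer_small hr (h1.trans h5) h8 (fun H _ e => h9 ⟨H, ‹_›,
    haveI := isCyclic_of_prime_card e; inferInstance, irr H e.symm.dvd⟩) a hf (by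
      obtain ⟨t, ht⟩ := h6
      have : n * 2 ≤ n * t := Nat.mul_le_mul_left n (by rcases t with _ | _ | t <;> omega)
      omega)
  rw [c] at e1
  subst e1
  have e2 : (center G).index = 2 * n * (n + 1) * (2 * n + 1) := Nat.eq_of_mul_eq_mul_left two_pos
    ((FTB.card_of_psl (by omega) e).trans (by
      rw [show (2 * n + 1) ^ 2 - 1 = 4 * n * (n + 1) from Nat.sub_eq_of_eq_add (by ring)]; ring))
  obtain ⟨q, d, f1, f2, f3, f4⟩ := ht.red (A := center G) hρ inferInstance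
    fun e => h9 ⟨_, inferInstance, inferInstance, e⟩
  obtain ⟨k, -, rfl⟩ := (Nat.dvd_prime_pow hp').1 ((dvd_pow_self q (by omega)).trans (hn ▸ f3).symm.dvd)
  rw [hn, ← pow_mul, Nat.pow_right_inj hp'.one_lt] at f3
  have f5 : 1 ≤ k := by rcases k with _ | k <;> simp at f1 ⊢
  have f6 : ¬ p ∣ 2 * n * (n + 1) * (2 * n + 1) := fun e => hp (e.trans (e2 ▸ index_dvd_card _))
  refine psl_num (p := p) h3 ?_ f5 ⟨d, f3⟩ (by nlinarith)
    (h5.trans (by rw [← (center G).card_mul_index, e2]; exact Nat.mul_dvd_mul_right f4 _))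
  refine hp'.five_le_of_ne_two_of_ne_three ?_ ?_ <;> rintro rfl <;> refine f6 ?_
  · exact ((dvd_mul_right 2 n).mul_right _).mul_right _
  have : 3 ∣ n ∨ 3 ∣ n + 1 ∨ 3 ∣ 2 * n + 1 := by
    rcases (by omega : n % 3 = 0 ∨ n % 3 = 1 ∨ n % 3 = 2) with e | e | e <;> omega
  rcases this with e | e | e
  exacts [((e.mul_left _).mul_right _).mul_right _, (e.mul_left _).mul_right _, e.mul_left _]

end H5.TP
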