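import Cfsg.Agent.H5.TP3
import Cfsg.Agent.H5.Burnside
import Cfsg.Agent.H20.FT

/-! Linear `p'`-groups transitive on non-zero vectors. -/

set_option autoImplicit false
set_option linter.unusedSectionVars false

namespace H5.TP
open Subgroup H24.NF
open scoped commutatorElement

variable {G V : Type*} [Group G] {p n : ℕ} [Fact p.Prime] [AddCommGroup V] [Module (ZMod p) V]
  {ρ : G →* (V ≃ₗ[ZMod p] V)} [Finite V] [Nontrivial V] [Finite G]

theorem ab_le {A B : Subgroup G} (h : IsMulCommutative B) (e : A ≤ B) : IsMulCommutative A :=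
  ⟨⟨fun a b => Subtype.ext (congrArg Subtype.val (h.is_comm.comm ⟨a, e a.2⟩ ⟨b, e b.2⟩) :)⟩⟩

theorem nsyl (ht : Tr ρ) (hρ : Function.Injective ρ) (hn : Nat.card V = p ^ n)
    (hp : ¬ p ∣ Nat.card G) {r : ℕ} (hr : r.Prime) (h1 : r ∣ Nat.card G) (h2 : n + 1 < r)
    (h3 : 2 * n + 1 < r ∨ 2 * n < r ∧ ¬ 3 ∣ Nat.card G) : IA ρ ∧ r ∣ p ^ n - 1 ∨
      ∃ (A : Subgroup G) (_ : A.Normal) (k d : ℕ), Dom (Alg ρ A) ∧ 2 ≤ d ∧ n = k * d ∧
        Nat.card (Alg ρ A) = p ^ k ∧ r ∣ p ^ k - 1 := by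
  haveI := Fact.mk hr
  obtain ⟨χ, a, b, rfl⟩ := lift hρ hn hp
  obtain ⟨P⟩ : Nonempty (Sylow r G) := inferInstance
  haveI := (FTB.small hr a b h2 h3 (H19.syl_sylow_top P)).normal
  haveI : Nontrivial P := (nontrivial_iff_ne_bot _).2 (P.ne_bot_of_dvd_card h1)
  let A := (center P).map (P : Subgroup G).subtype
  have h4 : IsMulCommutative A := inferInstance
  have h5 : r ∣ Nat.card A := (P.isPGroup'.to_le (map_subtype_le _)).card_eq_or_dvd.resolve_left (by
    rw [card_map_of_injective (subtype_injective _)]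
    exact (Finite.one_lt_card_iff_nontrivial.2 P.isPGroup'.center_nontrivial).ne')
  have hd := ht.dom h4
  obtain ⟨k, -, hk⟩ := hd.card
  obtain ⟨d, e1, e2, e3⟩ := hd.count
  have e4 := h5.trans (hk ▸ (hd.cyc hρ fun _ => R_mem_Alg).2)
  rw [hn, hk, ← pow_mul, Nat.pow_right_inj (Fact.out : p.Prime).one_lt] at e1
  rcases e2.eq_or_lt with rfl | e2
  · exact .inl ⟨⟨A, inferInstance, h4, (e3 rfl).irr⟩, by rwa [e1, mul_one]⟩
  · exact .inr ⟨A, inferInstance, k, d, hd, e2, e1, hk, e4⟩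

theorem dim_one (hn : Nat.card V = p) : IA ρ :=
  ⟨⊥, inferInstance, inferInstance, fun W _ => by
    haveI : Fact (Nat.card V).Prime := ⟨hn ▸ Fact.out⟩
    exact (W.toAddSubgroup.eq_bot_or_eq_top_of_prime_card).imp
      (fun e => Submodule.toAddSubgroup_injective e) fun e => Submodule.toAddSubgroup_injective e⟩

theorem dim_two (ht : Tr ρ) (hρ : Function.Injective ρ) (hn : Nat.card V = p ^ 2)
    (hp : ¬ p ∣ Nat.card G) : IA ρ ∨ Ex G (p - 1) := by
  have hp' : p.Prime := Fact.out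
  have h1 : Nat.card (⊥ : Subalgebra (ZMod p) (Module.End (ZMod p) V)) = p :=
    (Nat.card_congr (Algebra.botEquiv _ _).toEquiv).trans (Nat.card_zmod p)
  refine (dick (K := ⊥) hρ ?_ (h1.symm ▸ hn) ?_ hp).imp ?_ fun e => h1 ▸ e
  · rintro _ ⟨c, rfl⟩ v hv e
    have : c = 0 := (smul_eq_zero.1 e).resolve_right hv
    simp [this]
  · rintro g _ ⟨c, rfl⟩
    exact (Algebra.commutes c _).symm
  rintro ⟨A, h2, h3⟩
  haveI : A.Normal := by
    have := A.index_ne_zero_of_finite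
    rcases (by omega : A.index = 1 ∨ A.index = 2) with e | e
    exacts [index_eq_one.1 e ▸ inferInstance, normal_of_index_eq_two e]
  refine ⟨A, ‹_›, h2, by_contra fun h4 => ?_⟩
  obtain ⟨q, d, e1, e2, e3, e4⟩ := ht.red hρ h2 h4
  have e5 : q ≤ p := (Nat.pow_le_pow_iff_left two_ne_zero).1
    ((Nat.pow_le_pow_right (by omega) e2).trans (e3.symm.trans hn).le)
  have e6 := Nat.le_of_dvd Nat.card_pos ht.dvd
  have e7 := Nat.mul_le_mul ((Nat.le_of_dvd (by omega) e4).trans (Nat.sub_le_sub_right e5 1)) h3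
  rw [hn, ← A.card_mul_index] at e6
  have := hp'.two_le
  obtain ⟨s, rfl⟩ : ∃ s, p = s + 1 := ⟨p - 1, by omega⟩
  have := Nat.sub_le_iff_le_add.1 (e6.trans e7)
  simp only [add_tsub_cancel_right] at this
  nlinarith

theorem Ex.card {m : ℕ} (h : Ex G m) : Nat.card G ∣ m * 120 := by
  obtain ⟨Z, _, -, h1, -, h2⟩ := h
  rw [← Z.card_mul_index]
  refine Nat.mul_dvd_mul h1 ?_
  rcases h2 with ⟨⟨e⟩⟩ | ⟨⟨e⟩⟩ | ⟨⟨e⟩⟩ <;>
    exact (Nat.card_congr e.toEquiv).dvd.trans (by rw [Nat.card_eq_fintype_card]; decide +kernel)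

theorem dim_six (ht : Tr ρ) (hρ : Function.Injective ρ) (hn : Nat.card V = p ^ 6)
    (hp : ¬ p ∣ Nat.card G) (h : p = 3 ∨ p = 5) : IA ρ := by
  have h0 := hn ▸ ht.dvd
  obtain ⟨r, hr, h1, h2, h3, h4⟩ : ∃ r, r.Prime ∧ r ∣ p ^ 6 - 1 ∧ 6 + 1 < r ∧
      (2 * 6 + 1 < r ∨ 2 * 6 < r ∧ ¬ 3 ∣ Nat.card G) ∧ ∀ k < 3, 1 ≤ k → ¬ r ∣ p ^ k - 1 := by
    rcases h with rfl | rfl
    · exact ⟨13, by norm_num, by norm_num, by norm_num, .inr ⟨by norm_num, hp⟩, by decide⟩
    · exact ⟨31, by norm_num, by norm_num, by norm_num, .inl (by norm_num), by decide⟩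
  rcases nsyl ht hρ hn hp hr (h1.trans h0) h2 h3 with e | ⟨A, _, k, d, hd, e1, e2, e3, e4⟩
  · exact e.1
  obtain rfl : k = 3 := by
    have := mt (h4 k · (by rcases k with _ | k <;> omega)) (not_not.2 e4)
    nlinarith
  obtain rfl : d = 2 := by omega
  have h5 : 7 ∣ p ^ 6 - 1 ∧ (∀ i, 1 ≤ i → i < 6 → ¬ 7 ∣ p ^ i - 1) ∧ ¬ 7 ∣ (p ^ 3 - 1) * 120 := by
    rcases h with rfl | rfl <;> exact ⟨by norm_num, fun i a b => by interval_cases i <;> norm_num,
      by norm_num⟩
  have h6 := hd.index_le nm_Alg e3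
  set C := (nm_Alg (ρ := ρ) (A := A)).aut.ker
  have h7 : ∀ B : Subgroup G, B.index ∣ Nat.factorial 6 → 7 ∣ Nat.card B := fun B e =>
    ((Nat.Prime.dvd_mul (by norm_num)).1 (B.card_mul_index ▸ h5.1.trans h0)).resolve_right
      fun e' => absurd (e'.trans e) (by decide)
  rcases dick (ρ := ρ.comp C.subtype) (hρ.comp C.subtype_injective) hd (by rw [hn, e3, ← pow_mul])
    (fun g => nm_Alg.mem_ker.1 g.2) (fun e => hp (e.trans (card_subgroup_dvd_card C))) with
    ⟨B, f1, f2⟩ | e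
  · have f3 : (B.map C.subtype).normalCore.index ∣ Nat.factorial 6 := by
      rw [normalCore_eq_ker, index_ker]
      refine (card_subgroup_dvd_card _).trans ?_
      rw [Nat.card_perm, ← index, index_map_subtype]
      exact Nat.factorial_dvd_factorial (Nat.mul_le_mul f2 h6)
    obtain ⟨x, hx⟩ := exists_prime_orderOf_dvd_card' (hp := ⟨by norm_num⟩) 7 (h7 _ f3)
    exact ⟨_, inferInstance, ab_le inferInstance (normalCore_le _), irr_mono (ppd_irr hρ hn (by norm_num)
      h5.1 h5.2.1 ((orderOf_coe x).trans hx)) (zpowers_le.2 x.2)⟩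
  · exact absurd ((h7 C (Nat.dvd_factorial (Nat.pos_of_ne_zero index_ne_zero_of_finite)
      (by omega))).trans (e3 ▸ e.card)) h5.2.2

theorem card_four (ht : Tr ρ) (hρ : Function.Injective ρ) (hn : Nat.card V = p ^ 4)
    (hp : ¬ p ∣ Nat.card G) (h : p = 3) : Nat.card G ∣ 2 ^ 9 * 5 ^ 1 := by
  subst h
  have e1 : Module.finrank (ZMod 3) V = 4 := Nat.pow_right_injective (by norm_num : 2 ≤ 3)
    (by simpa using (Module.natCard_eq_pow_finrank (K := ZMod 3)).symm.trans hn)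
  have e2 : Nat.card G ∣ 2 ^ 9 * 5 ^ 1 * (3 ^ 6 * 13) := (card_dvd_of_injective (R ρ).toHomUnits
    fun a b e => R_inj hρ (congrArg Units.val e)).trans (by
      rw [← Nat.card_congr (Matrix.GeneralLinearGroup.toLin'
        (Module.finBasisOfFinrankEq _ V e1)).toEquiv, Matrix.card_GL_field]
      simp [Fin.prod_univ_four])
  refine Nat.Coprime.dvd_of_dvd_mul_right (Nat.Coprime.mul_right (Nat.Coprime.pow_right _
    (Nat.prime_three.coprime_iff_not_dvd.2 hp).symm)
      ((Nat.Prime.coprime_iff_not_dvd (by norm_num)).2 fun e => ?_).symm) e2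
  rcases nsyl ht hρ hn hp (by norm_num) e (by norm_num) (by norm_num) with
    e | ⟨A, _, k, d, -, f1, f2, -, f4⟩
  · exact absurd e.2 (by norm_num)
  have : k ≤ 2 := by nlinarith
  interval_cases k <;> omega

theorem dim_four (ht : Tr ρ) (hρ : Function.Injective ρ) (hn : Nat.card V = p ^ 4)
    (hp : ¬ p ∣ Nat.card G) (h : p = 3) : IA ρ ∨ kc G ≤ 66 ∧ Nat.card G ≤ 640 := by
  have h1 := card_four ht hρ hn hp h
  subst h
  refine or_iff_not_imp_left.2 fun hI => ?_
  haveI : Fact (Nat.Prime 5) := ⟨by norm_num⟩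
  haveI := isSolvable_of_card_dvd_prime_pow_mul Nat.prime_two Fact.out h1
  obtain ⟨A, h⟩ := exists_maxA G
  haveI := h.n
  obtain ⟨N, hN⟩ := exists_minN h (ht.na hρ h fun e => hI ⟨A, h.n, h.c, e⟩)
  haveI := hN.n
  haveI := hN.nontrivial
  obtain ⟨h2, r, hr, h3⟩ := hN.struct h (IsSolvable.commutator_lt_of_ne_bot
    ((nontrivial_iff_ne_bot N).1 ‹_›)).ne
  have hi := ht.irr hρ hN.na
  obtain ⟨h4, h5⟩ := hi.dom.cyc (A := centralizer N) hρ fun _ => R_mem_Cen
  obtain ⟨Z, cp⟩ := hN.cp h h4 h2 hr h3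
  obtain ⟨d, hd, h6, h7⟩ := hi.dom.count
  replace h7 := mt h7 (hi.not_line hρ hN.na)
  obtain ⟨k, h8, hk⟩ := hi.dom.card
  have h9 : 4 = k * d := Nat.pow_right_injective (by norm_num : 2 ≤ 3)
    (by simp only [pow_mul]; rw [← hk, ← hd, hn])
  have h10 : k ≤ 2 := by have : 2 ≤ d := by omega
                         nlinarith
  obtain ⟨rfl, h11, -⟩ := ht.core hρ hi cp h3 hk hd (s := 5) Fact.out (by rw [hn]; norm_num)
    (by omega) (by nlinarith) (by interval_cases k <;> norm_num)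
  obtain rfl : k = 1 := by obtain rfl : d = 4 := by omega
                           omega
  have z1 : centralizer N = Z := (eq_of_le_of_card_ge cp.le
    (Nat.le_of_dvd two_pos (by simpa [hk] using h5) |>.trans cp.card.ge)).symm
  have z2 : Z ≤ center G := fun c hc => mem_center_iff.2 fun g => R_inj hρ (by
    have e := index_eq_one.1 (le_antisymm (hi.dom.index_le nm_Cen hk)
      (Nat.pos_of_ne_zero index_ne_zero_of_finite))
    rw [map_mul, map_mul, nm_Cen.mem_ker.1 (e.ge (mem_top g)) _ (R_mem_Cen (z1.ge hc))])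
  have z3 : ∀ B : Subgroup G, Z ≤ centralizer B := fun B => z2.trans (center_le_centralizer _)
  set E := Cfsg.pCore 2 G
  have hE : IsPGroup 2 E := H1.pCore_isPGroup
  have e1 : N ≤ E := H1.le_pCore ‹_› h3
  have e2 : ⁅N, E⁆ ≤ Z := z1 ▸ by_contra fun e => (H1.commutator_lt_of_isNilpotent hE.isNilpotent e1
    (normalizer_eq_top N ▸ le_top) ((nontrivial_iff_ne_bot N).1 ‹_›)).ne
      (hN.key h (commutator_le_left _ _) e)
  have e3 : ⁅E, E⁆ ≤ Z := z1 ▸ commutator_eq_bot_iff_le_centralizer.1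
    (commutator_commutator_eq_bot_of_rotate (commutator_eq_bot_iff_le_centralizer.2
      ((commutator_comm E N).le.trans (e2.trans (z3 E))))
      (commutator_eq_bot_iff_le_centralizer.2 (e2.trans (z3 E))))
  have e4 : centralizer E = Z := le_antisymm (z1 ▸ centralizer_le e1) (z3 E)
  have cE : H24.CP 2 Z E := ⟨hr, cp.card, z3 E, fun a ha b hb => e3 (commutator_mem_commutator ha hb)⟩
  have e5 : (centralizer E).relIndex E ≤ 16 := by
    have hd := (irr_mono hi e1).dom
    obtain ⟨d, a, -⟩ := hd.count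
    obtain ⟨k, b, c⟩ := hd.card
    have := hd.relIndex_le hρ (e3.trans (z3 E)) a
    rw [hn, c, ← pow_mul, Nat.pow_right_inj (by norm_num)] at a
    exact this.trans (Nat.pow_le_pow_left (show d ≤ 4 by nlinarith) 2)
  have e6 : Nat.card E ≤ 32 := by
    rw [← H4.card_inf_mul_relIndex E (centralizer E)]
    exact Nat.mul_le_mul ((card_le_of_le (inf_le_right.trans e4.le)).trans cp.card.le) e5
  set F := Cfsg.pPrimeCore 2 (G ⧸ E)
  have f1 : centralizer F ≤ F := H1.centralizer_pPrimeCore_le_of_isPSolvable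
    (H1.isPSolvable_of_isSolvable inferInstance) H1.pCore_quotient_pCore
  have f2 : Nat.card F ∣ 5 := (H1.pPrimeCore_coprime.pow_right 9).dvd_of_dvd_mul_left
    ((card_subgroup_dvd_card F).trans ((card_quotient_dvd_card E).trans h1))
  have f3 : F.index ∣ 4 := by
    haveI := isCyclic_of_card_dvd_prime f2
    have := H10.relIndex_centralizer_dvd_card_mulAut F
    rw [normalizer_eq_top, relIndex_top_right, IsCyclic.card_mulAut] at this
    refine (index_dvd_of_le f1).trans (this.trans ?_)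
    rcases (Nat.dvd_prime Fact.out).1 f2 with e | e <;> rw [e] <;> decide
  have f4 : Nat.card G ≤ 640 := by
    rw [← E.card_mul_index, index, ← F.card_mul_index]
    exact Nat.mul_le_mul e6 (Nat.mul_le_mul (Nat.le_of_dvd (by norm_num) f2)
      (Nat.le_of_dvd (by norm_num) f3))
  have key : ∀ y : G, orderOf y = 5 → ∀ x ∈ centralizer {y}, x ^ 10 = 1 ∧ x ^ 5 ∈ Z := fun y hy x hx => by
    have a1 : IsPGroup 5 (zpowers y) := .of_card (n := 1) (by rw [Nat.card_zpowers, hy, pow_one])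
    obtain ⟨j, a2, a3, a4⟩ := cE.act hE Fact.out (by norm_num) a1 (le_centralizer_iff.1 (z3 _))
      (le_centralizer_iff.1 (inf_le_right.trans (e4.le.trans (z3 _)))) fun e => by
        have := card_dvd_of_le (e.trans e4.le)
        rw [Nat.card_zpowers, hy, cp.card] at this
        omega
    have a5 : 2 ^ (2 * 2) ≤ 2 ^ (2 * j) := Nat.pow_le_pow_right two_pos (by
      rcases a2.eq_or_lt with rfl | a2 <;> omega)
    have a6 : (centralizer E).relIndex (E ⊓ centralizer (zpowers y)) = 1 := by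
      have : 0 < (centralizer E).relIndex (E ⊓ centralizer (zpowers y)) :=
        Nat.pos_of_ne_zero index_ne_zero_of_finite
      have := Nat.le_of_mul_le_mul_left ((Nat.mul_le_mul_right _ a5).trans (a4.ge.trans
        (e5.trans (mul_one _).ge))) (by norm_num)
      omega
    have a7 : (y : G ⧸ E) ^ 5 = 1 := by rw [← QuotientGroup.mk_pow, ← hy, pow_orderOf_eq_one]; rfl
    have a8 : zpowers (y : G ⧸ E) = F := eq_of_le_of_card_ge (zpowers_le.2 (by
      obtain ⟨c, hc⟩ := f3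
      have := pow_mem (F.pow_index_mem y) c
      rwa [← pow_mul, ← hc, eq_inv_of_mul_eq_one_left ((pow_succ _ 4).symm.trans a7),
        inv_mem_iff] at this)) (by
      rw [Nat.card_zpowers, orderOf_eq_prime a7 fun e => ?_]
      · exact Nat.le_of_dvd (by norm_num) f2
      obtain ⟨i, e⟩ := hE.exists_orderOf_dvd_pow ⟨y, (QuotientGroup.eq_one_iff y).1 e⟩
      rw [← orderOf_coe, hy] at e
      exact absurd (Nat.Prime.dvd_of_dvd_pow Fact.out e) (by norm_num))
    have a9 : (x : G ⧸ E) ∈ F := f1 (by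
      rw [← a8, H4.centralizer_zpowers, mem_centralizer_singleton_iff, ← QuotientGroup.mk_mul,
        mem_centralizer_singleton_iff.1 hx, QuotientGroup.mk_mul])
    have a10 : x ^ 5 ∈ Z := e4.le (relIndex_eq_one.1 a6 ⟨(QuotientGroup.eq_one_iff _).1
      (orderOf_dvd_iff_pow_eq_one.1 ((orderOf_dvd_natCard F a9).trans f2)),
      by rw [H4.centralizer_zpowers]; exact pow_mem hx 5⟩)
    exact ⟨(pow_mul x 5 2).trans (orderOf_dvd_iff_pow_eq_one.1 (cp.card ▸ orderOf_dvd_natCard Z a10)),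
      a10⟩
  refine ⟨(kc_le_add (Z := Z) (c := 64) fun g hg => ?_).trans (by rw [cp.card]), f4⟩
  by_cases e : 5 ∣ Nat.card (centralizer ({g} : Set G))
  · obtain ⟨y, hy⟩ := exists_prime_orderOf_dvd_card' 5 e
    obtain ⟨a1, a2⟩ := key y ((orderOf_coe y).trans hy) g (mem_centralizer_singleton_iff.2
      (mem_centralizer_singleton_iff.1 y.2).symm)
    have a3 : orderOf (g ^ 2) = 5 := orderOf_eq_prime ((pow_mul g 2 5).symm.trans a1) fun e =>
      hg (by rwa [show 5 = 2 * 2 + 1 from rfl, pow_succ, pow_mul, e, one_pow, one_mul] at a2)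
    haveI := ((ppd_irr hρ hn Fact.out (by norm_num) (fun i a b => by interval_cases i <;> norm_num)
      a3).dom.cyc (A := centralizer {g ^ 2}) hρ fun _ e =>
        R_mem_Cen (by rwa [H4.centralizer_zpowers])).1
    refine (card_le_of_le (K := centralizer {g ^ 2}) fun x hx => mem_centralizer_singleton_iff.2
      (Commute.pow_right (mem_centralizer_singleton_iff.1 hx) 2)).trans
      ((Nat.le_of_dvd (n := 10) (by norm_num) ?_).trans (by norm_num))
    rw [← IsCyclic.exponent_eq_card]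
    exact Monoid.exponent_dvd_of_forall_pow_eq_one fun x => Subtype.ext (key _ a3 x x.2).1
  by_contra! a
  obtain ⟨i, -, a1⟩ := (Nat.dvd_prime_pow Nat.prime_two).1 (Nat.Coprime.dvd_of_dvd_mul_right
    ((Nat.Prime.coprime_iff_not_dvd Fact.out).2 e).symm ((card_subgroup_dvd_card _).trans h1))
  have a2 := (centralizer {g}).card_mul_index
  have a3 := ((Nat.Prime.dvd_mul Fact.out).1 (a2 ▸ (by rw [hn]; norm_num : 5 ∣ _).trans ht.dvd)
    ).resolve_left e
  have a4 : 2 ^ 7 ≤ 2 ^ i := Nat.pow_le_pow_right two_pos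
    ((Nat.pow_lt_pow_iff_right (a := 2) (n := 6) (by norm_num)).1 (a1 ▸ a))
  have a5 : (centralizer {g}).index ≤ 5 := by nlinarith
  have a6 := hE.le_sylow_of_normal ((IsPGroup.of_card a1).toSylow (by
    have := (centralizer {g}).index_ne_zero_of_finite
    omega))
  exact hg (e4.le (mem_centralizer_iff.2 fun x hx => mem_centralizer_singleton_iff.1 (a6 hx)))

theorem struct (ht : Tr ρ) (hρ : Function.Injective ρ) (hn : Nat.card V = p ^ n)
    (hp : ¬ p ∣ Nat.card G) : IA ρ ∨ n = 2 ∧ Ex G (p - 1) ∨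
      Nat.card V = 81 ∧ kc G ≤ 66 ∧ Nat.card G ≤ 640 := by
  have hp' : p.Prime := Fact.out
  have h0 : n ≠ 0 := by rintro rfl; exact Finite.one_lt_card.ne' hn
  by_cases h1 : n = 1
  · exact .inl (dim_one (by rw [hn, h1, pow_one]))
  by_cases h2 : n = 2
  · exact (dim_two ht hρ (h2 ▸ hn) hp).imp_right fun e => .inl ⟨h2, e⟩
  by_cases h3 : p = 2
  · subst h3
    haveI := H20.odd_solvable G (Nat.odd_iff.2 (by omega))
    refine .inl (by_contra fun e => ?_)
    have := ht.huppert hρ fun A a _ c => e ⟨A, a, inferInstance, c⟩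
    have := dvd_pow_self 2 h0
    simp only [Set.mem_insert_iff, Set.mem_singleton_iff] at *
    omega
  by_cases h4 : p = 3 ∧ n = 4
  · exact (dim_four ht hρ (h4.2 ▸ hn) hp h4.1).imp_right fun e =>
      .inr ⟨by rw [hn, h4.1, h4.2]; rfl, e⟩
  by_cases h5 : n = 6 ∧ (p = 3 ∨ p = 5)
  · exact .inl (dim_six ht hρ (h5.1 ▸ hn) hp h5.2)
  obtain ⟨r, hr, e1, e2, e3⟩ := Cfsg.Agent.S3430.result p n hp'.two_le (by omega) (by omega)
    (by omega) (by omega) (by omega)
  exact .inl (of_ppd ht hρ hn hp (by omega) hr e1 e2 e3)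

end H5.TP
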