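import Cfsg.Agent.H5.TP4
import Cfsg.Agent.H5.TP0
import Cfsg.Agent.H24.Affine

/-! Class numbers of linear `p'`-groups transitive on non-zero vectors. -/

set_option autoImplicit false
set_option linter.unusedSectionVars false

namespace H5.TP
open Subgroup H24.NF H9

section
variable {G V : Type*} [Group G] {p n : ℕ} [Fact p.Prime] [AddCommGroup V] [Module (ZMod p) V]
  {ρ : G →* (V ≃ₗ[ZMod p] V)} [Finite V] [Nontrivial V] [Finite G]

theorem five_le {i : ℕ} (hp : ¬ p ∣ i) (h : 6 ∣ i) : 5 ≤ p :=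
  (Fact.out : p.Prime).five_le_of_ne_two_of_ne_three (by rintro rfl; omega) (by rintro rfl; omega)

theorem upper (ht : Tr ρ) (hρ : Function.Injective ρ) (hp : ¬ p ∣ Nat.card G)
    {v : V} (hv : v ≠ 0) (hq : Nat.card V ≤ kc G + kc (St ρ v)) :
    kc G + kc (St ρ v) = Nat.card V ∧ (IsCyclic G ∨ Nat.card V = 8 ∧ Nat.card G = 21 ∨
      Nat.card V = 9 ∧ Nat.card G = 16) := by
  have hn := (Module.natCard_eq_pow_finrank (K := ZMod p) (V := V)).trans (by rw [Nat.card_zmod])
  have h1 := (St ρ v).card_mul_index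
  have h2 := kc_le (G := St ρ v)
  rw [ht.index hv] at h1
  rcases struct ht hρ hn hp with h | ⟨h, Z, _, h3, h4, -, h5⟩ | h
  · exact h.upper ht hρ hp hv hq
  · exfalso
    have h6 := kc_central h3
    obtain ⟨h7, h8, h9⟩ : kc (G ⧸ Z) ≤ 5 ∧ 6 ∣ Z.index ∧ (Z.index ≤ 24 ∨ Z.index = 60) := by
      rcases h5 with ⟨⟨e⟩⟩ | ⟨⟨e⟩⟩ | ⟨⟨e⟩⟩ <;> rw [kc_congr e, index, Nat.card_congr e.toEquiv]
      exacts [by rw [kc_a4, H27.card_A4]; omega, by rw [kc_s4, H27.card_S4]; omega,
        by rw [kc_a5, H27.card_A5]; omega]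
    have h10 := mt (Dvd.dvd.trans · Z.index_dvd_card) hp
    have h11 := five_le h10 h8
    have h12 := Nat.le_of_dvd (by omega) h4
    rw [hn, h] at h1 hq
    rw [← Z.card_mul_index] at h1
    obtain ⟨s, rfl⟩ : ∃ s, p = s + 1 := ⟨p - 1, by omega⟩
    rw [show (s + 1) ^ 2 - 1 = s * (s + 2) from Nat.sub_eq_of_eq_add (by ring)] at h1
    have h13 : Nat.card (St ρ v) * (s + 2) ≤ Z.index := Nat.le_of_mul_le_mul_left
      (((mul_left_comm _ _ _).trans h1).le.trans (Nat.mul_le_mul_right Z.index h12))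
      (show 0 < s by omega)
    have := Nat.mul_le_mul h12 h7
    simp only [add_tsub_cancel_right] at this
    rcases (by omega : s = 4 ∨ 5 ≤ s) with rfl | e
    · omega
    · have := (Nat.mul_le_mul_left (Nat.card (St ρ v)) (show 7 ≤ s + 2 by omega)).trans h13
      have : Nat.card (St ρ v) ≤ 8 := by omega
      nlinarith
  · rw [h.1] at h1
    omega

theorem lower (ht : Tr ρ) (hρ : Function.Injective ρ) (hp : ¬ p ∣ Nat.card G)
    (hn : Nat.card V = p ^ n) (h2 : 2 ≤ n) :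
    p ≤ kc G ∨ p = 11 ∧ Nat.card V = 121 ∧ Fpf ρ ∧ Nonempty (G ≃* H24.SL25) := by
  have hp' : p.Prime := Fact.out
  have h0 := hn ▸ ht.dvd
  by_cases h5 : p ≤ 3
  · refine .inl (h5.trans (three_le_kc (le_trans ?_ (Nat.le_of_dvd Nat.card_pos h0))))
    have := (Nat.pow_le_pow_left hp'.two_le 2).trans (Nat.pow_le_pow_right hp'.pos h2)
    omega
  replace h5 : 5 ≤ p := hp'.five_le_of_ne_two_of_ne_three (by omega) (by omega)
  rcases struct ht hρ hn hp with h | ⟨rfl, Z, _, h3, ⟨t, h4⟩, h6, h7⟩ | h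
  · exact .inl (h.lower ht hρ h5 hn h2)
  swap
  · have := (Nat.prime_dvd_prime_iff_eq hp' Nat.prime_three).1 (hp'.dvd_of_dvd_pow (n := 4)
      ((dvd_pow_self p (by omega)).trans (hn.symm.trans h.1).dvd))
    omega
  have h8 : (p + 1) * t ∣ Z.index := Nat.dvd_of_mul_dvd_mul_left (Nat.card_pos (α := Z)) (by
    rwa [Z.card_mul_index, mul_left_comm, ← h4, ← Nat.sq_sub_sq p 1])
  have h9 := mt (Dvd.dvd.trans · Z.index_dvd_card) hp
  have key : ∀ {H : Type} [Group H] (e : G ⧸ Z ≃* H) (s : Finset ℕ), 2 ∉ s →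
      (∀ k ∈ insert 2 s, ∃ x : H, orderOf x = k) → t ≤ s.card → p ≤ kc G := fun e s a b c => by
    have := kc_lower h3 h6 s a fun k hk => (b k hk).elim fun x hx =>
      ⟨e.symm x, (e.symm.orderOf_eq x).trans hx⟩
    have := Nat.mul_le_mul_right (Nat.card Z) c
    rw [mul_comm] at h4
    omega
  have o : ∀ {H : Type} [Group H] [Finite H] (k : ℕ), k = 1 ∨ k.Prime ∧ k ∣ Nat.card H →
      ∃ x : H, orderOf x = k := fun k a => a.elim (fun e => ⟨1, e ▸ orderOf_one⟩) fun a =>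
    exists_prime_orderOf_dvd_card' (hp := ⟨a.1⟩) k a.2
  rcases h7 with ⟨⟨e⟩⟩ | ⟨⟨e⟩⟩ | ⟨⟨e⟩⟩ <;> rw [index, Nat.card_congr e.toEquiv] at h8 h9
  · refine .inl (key e {1, 3} (by decide) (fun k hk => o k ?_) ?_)
    · rw [H27.card_A4]; revert k; decide
    · have := Nat.le_of_dvd (by norm_num) (H27.card_A4 ▸ h8)
      exact (show t ≤ 2 by nlinarith)
  · have := Nat.le_of_dvd (by norm_num) (H27.card_S4 ▸ h8)
    rcases h5.eq_or_lt with rfl | h5
    · exact .inl (kc_s4.ge.trans (kc_le_of_surj (e.toMonoidHom.comp (QuotientGroup.mk' Z))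
        (e.surjective.comp (QuotientGroup.mk'_surjective Z))))
    refine .inl (key e {1, 3, 4} (by decide) (fun k hk => ?_) (show t ≤ 3 by nlinarith))
    by_cases e : k = 4
    · exact ⟨finRotate 4, (orderOf_eq_prime_pow (p := 2) (n := 1) (by decide) (by decide)).trans e.symm⟩
    · refine o k ?_
      rw [H27.card_S4]; revert k; decide
  rw [H27.card_A5] at h8 h9
  by_cases h10 : t ≤ 3
  · refine .inl (key e {1, 3, 5} (by decide) (fun k hk => o k ?_) h10)
    rw [H27.card_A5]; revert k; decide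
  have h11 := Nat.le_of_dvd (by norm_num) h8
  obtain ⟨rfl, rfl⟩ : p = 11 ∧ t = 5 := by
    have a : p < 15 := by nlinarith
    have b : t < 11 := by nlinarith
    have c := Dvd.intro_left _ h4.symm
    clear * - hp' h5 h8 h9 h10 a b c
    interval_cases p <;> interval_cases t <;> first | omega | norm_num at hp'
  have h12 : Fpf ρ := fun v hv g hg => by
    have := (St ρ v).card_mul_index
    rw [ht.index hv, ← Z.card_mul_index, index, Nat.card_congr e.toEquiv, H27.card_A5, hn] at this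
    exact mem_bot.1 (card_eq_one.1 (show Nat.card (St ρ v) = 1 by omega) ▸ hg)
  obtain ⟨m, ⟨f⟩, h13⟩ := ht.typeIII h12 fun _ => by
    haveI := Group.isSolvable_of_surjective (f := e.toMonoidHom.comp (QuotientGroup.mk' Z))
      (e.surjective.comp (QuotientGroup.mk'_surjective Z))
    exact absurd (IsSimpleGroup.comm_iff_isSolvable.2 this) (by decide +kernel)
  obtain rfl : m = 1 := by omega
  haveI : Unique (Multiplicative (ZMod 1)) := inferInstanceAs (Unique (Fin 1))
  exact .inr ⟨rfl, hn, h12, ⟨f.trans MulEquiv.prodUnique⟩⟩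

end

variable {X : Type*} [Group X] {p : ℕ} [Fact p.Prime] {V : Subgroup X} [V.Normal]

/-- conjugation action on a normal elementary abelian subgroup -/
noncomputable def cρ (hV : Cfsg.IsElementaryAbelian p V) (G : Subgroup X) :
    G →* (EA hV ≃ₗ[ZMod p] EA hV) :=
  (LinearMap.GeneralLinearGroup.generalLinearEquiv _ _).toMonoidHom.comp
    (EA.rep hV (normalizer_eq_top V ▸ le_top)).toHomUnits

variable {hV : Cfsg.IsElementaryAbelian p V} {G : Subgroup X}

theorem cρ_fix {g : G} {v : EA hV} : cρ hV G g v = v ↔ (g : X) ∈ centralizer {v.val} :=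
  (EA.ext_iff.trans mul_inv_eq_iff_eq_mul).trans mem_centralizer_singleton_iff.symm

theorem cρ_inj (hc : centralizer V ≤ V) (hd : Disjoint V G) : Function.Injective (cρ hV G) :=
  (injective_iff_map_eq_one _).2 fun g e => Subtype.ext (disjoint_def.1 hd (hc
    (mem_centralizer_iff.2 fun v hv => (mem_centralizer_singleton_iff.1
      ((cρ_fix (v := EA.mk hV v hv)).1 (by rw [e]; rfl))).symm)) g.2)

theorem cρ_tr (h : ∀ v ∈ V, ∀ w ∈ V, v ≠ 1 → w ≠ 1 → ∃ g ∈ G, g * v * g⁻¹ = w) : Tr (cρ hV G) :=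
  fun v w hv hw => by
    obtain ⟨g, hg, e⟩ := h _ v.val_mem _ w.val_mem (mt EA.val_eq_one.1 hv) (mt EA.val_eq_one.1 hw)
    exact ⟨⟨g, hg⟩, EA.ext e⟩

theorem cρ_st (v : EA hV) : St (cρ hV G) v = (G ⊓ centralizer {v.val}).subgroupOf G :=
  Subgroup.ext fun g => cρ_fix.trans (and_iff_right g.2).symm

end H5.TP
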