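import Cfsg.Agent.H5.TP5
import Cfsg.Agent.H5.TP0b
import Cfsg.Agent.H23.AffCj1
import Cfsg.Agent.H6.CD1

/-! Counting `p`-regular classes. -/

set_option autoImplicit false
set_option linter.unusedSectionVars false

namespace H5.TP
open Subgroup H24.NF H9
open scoped commutatorElement

theorem extra {S T : Type*} [Finite S] {Φ : S → T} (hs : Function.Surjective Φ) (D : Set S)
    (h : ∀ d ∈ D, ∃ a ∉ D, Φ a = Φ d) : Nat.card T + D.ncard ≤ Nat.card S := by
  rw [← Set.ncard_add_ncard_compl D, add_comm]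
  refine Nat.add_le_add_left (Nat.card_le_card_of_surjective (fun a : ↥Dᶜ => Φ a) fun t => ?_) _
  obtain ⟨s, rfl⟩ := hs t
  by_cases e : s ∈ D
  · obtain ⟨a, ha, e⟩ := h s e
    exact ⟨⟨a, ha⟩, e⟩
  · exact ⟨⟨s, e⟩, rfl⟩

/-- `p`-regular classes -/
abbrev RC (p : ℕ) (G : Type*) [Group G] :=
  {c : ConjClasses G // ∃ g : G, ConjClasses.mk g = c ∧ ¬ p ∣ orderOf g}

variable {G Q : Type*} [Group G] [Finite G] [Group Q] {p : ℕ} [hp : Fact p.Prime] {π : G →* Q}

theorem rc_surj (hs : Function.Surjective π) (hQ : ¬ p ∣ Nat.card Q) :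
    Function.Surjective fun c : RC p G => c.1.map π := fun c => by
  obtain ⟨x, rfl⟩ := ConjClasses.mk_surjective c
  obtain ⟨a, m, h1, h2⟩ := Nat.exists_eq_pow_mul_and_not_dvd (Nat.card_pos (α := G)).ne' p
    hp.out.ne_one
  obtain ⟨y, rfl⟩ := (powCoprime ((hp.out.coprime_iff_not_dvd.2 hQ).symm.pow_right a)).surjective x
  obtain ⟨g, rfl⟩ := hs y
  exact ⟨⟨_, g ^ p ^ a, rfl, fun e => h1 (e.trans (orderOf_dvd_of_pow_eq_one (by
    rw [← pow_mul, ← h2, pow_card_eq_one'])))⟩, congrArg ConjClasses.mk (map_pow π g _)⟩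

theorem rc_zero (hs : Function.Surjective π) (hQ : ¬ p ∣ Nat.card Q) : kc Q ≤ Nat.card (RC p G) :=
  Nat.card_le_card_of_surjective _ (rc_surj hs hQ)

theorem rc_one (hs : Function.Surjective π) (hQ : ¬ p ∣ Nat.card Q) {b : G} (hb : ¬ p ∣ orderOf b)
    (h1 : b ≠ 1) (h2 : π b = 1) : kc Q + 1 ≤ Nat.card (RC p G) := by
  have := extra (rc_surj hs hQ) {⟨_, b, rfl, hb⟩} fun d hd => ⟨⟨_, 1, rfl, by simp [hp.out.ne_one]⟩,
    fun e => h1 (isConj_one_right.1 (ConjClasses.mk_eq_mk_iff_isConj.1 (congrArg Subtype.val e))),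
    by rw [hd]; exact congrArg ConjClasses.mk ((map_one π).trans h2.symm)⟩
  rwa [Set.ncard_singleton] at this

theorem rc_two (hs : Function.Surjective π) (hQ : ¬ p ∣ Nat.card Q) {b c d : G}
    (hb : ¬ p ∣ orderOf b) (hc : ¬ p ∣ orderOf c) (hd : ¬ p ∣ orderOf d) (h1 : b ≠ 1) (h2 : π b = 1)
    (h3 : d ≠ 1) (h4 : π c = π d) (h5 : ¬ IsConj c b) (h6 : ¬ IsConj c d) (h7 : ¬ IsConj b d) :
    kc Q + 2 ≤ Nat.card (RC p G) := by
  have k : ∀ {x y : G} {u v}, ¬ IsConj x y → (⟨.mk x, u⟩ : RC p G) ≠ ⟨.mk y, v⟩ :=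
    fun h e => h (ConjClasses.mk_eq_mk_iff_isConj.1 (congrArg Subtype.val e))
  have := extra (rc_surj hs hQ) {⟨_, b, rfl, hb⟩, ⟨_, d, rfl, hd⟩} (by
    rintro _ (rfl | rfl)
    · exact ⟨⟨_, 1, rfl, by simp [hp.out.ne_one]⟩, not_or.2 ⟨k (mt isConj_one_right.1 h1),
        k (mt isConj_one_right.1 h3)⟩, congrArg ConjClasses.mk ((map_one π).trans h2.symm)⟩
    · exact ⟨⟨_, c, rfl, hc⟩, not_or.2 ⟨k h5, k h6⟩, congrArg ConjClasses.mk h4⟩)
  rwa [Set.ncard_pair (k h7)] at this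

theorem rc_eq (hs : Function.Surjective π) (hQ : ¬ p ∣ Nat.card Q) (h1 : ∀ v ∈ π.ker, v ^ p = 1)
    (h2 : ∀ x ∉ π.ker, π.ker ⊓ centralizer {x} = ⊥) : Nat.card (RC p G) = kc Q := by
  refine Nat.card_eq_of_bijective _ ⟨?_, rc_surj hs hQ⟩
  rintro ⟨_, a, rfl, ha⟩ ⟨_, b, rfl, hb⟩ e
  obtain ⟨c, e⟩ := isConj_iff.1 (ConjClasses.mk_eq_mk_iff_isConj.1 e)
  obtain ⟨c, rfl⟩ := hs c
  have k : ∀ x, ¬ p ∣ orderOf x → π x = 1 → x = 1 := fun x hx e => orderOf_eq_one_iff.1
    (((Nat.dvd_prime hp.out).1 (orderOf_dvd_of_pow_eq_one (h1 x e))).resolve_right fun e => hx e.symm.dvd)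
  refine Subtype.ext (ConjClasses.mk_eq_mk_iff_isConj.2 ?_)
  by_cases h : b ∈ π.ker
  · rw [k b hb h, k a ha (conj_eq_one_iff.1 (e.trans h))]
  obtain ⟨y, -, f⟩ := H6.exists_conj_fpf (k := c * a * c⁻¹ * b⁻¹) (le_normalizer_of_normal (mem_top b))
    (h2 b h) (by simp [MonoidHom.mem_ker, e])
  rw [inv_mul_cancel_right] at f
  exact (isConj_iff.2 ⟨c, rfl⟩).trans (isConj_iff.2 ⟨y, f⟩).symm

theorem camina_card (hs : Function.Surjective π) {g : G} (h : ∀ b, π g = π b → IsConj g b) :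
    Nat.card (π.ker ⊓ centralizer {g} :) * Nat.card ((centralizer {g}).map π) =
      Nat.card (centralizer ({π g} : Set Q)) := by
  haveI := Finite.of_surjective _ hs
  have h1 := H4.relIndex_centralizer_eq ((centralizer {π g}).comap π) g
  rw [show _ '' _ = (π.ker : Set G) from Set.ext fun m => ⟨by
      rintro ⟨d, hd, rfl⟩
      exact (map_commutatorElement π d g).trans (commutatorElement_eq_one_iff_mul_comm.2
        (mem_centralizer_singleton_iff.1 hd)), fun hm => by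
      obtain ⟨d, e⟩ := isConj_iff.1 (h (m * g) (by rw [map_mul, show π m = 1 from hm, one_mul]))
      refine ⟨d, mem_centralizer_singleton_iff.2 (mul_inv_eq_iff_eq_mul.1 ?_),
        mul_inv_eq_iff_eq_mul.2 e⟩
      rw [← map_inv, ← map_mul, ← map_mul, e, map_mul, show π m = 1 from hm, one_mul]⟩] at h1
  have h2 := relIndex_mul_index (H := centralizer {g}) (K := (centralizer {π g}).comap π)
    fun d hd => mem_centralizer_singleton_iff.2 (by
      rw [← map_mul, mem_centralizer_singleton_iff.1 hd, map_mul])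
  have h3 := π.ker.card_mul_index
  rw [index_ker, π.range_eq_top_of_surjective hs, card_top, ← (centralizer {π g}).card_mul_index,
    ← (centralizer {g}).card_mul_index, ← h2, h1, index_comap_of_surjective _ hs, mul_left_comm] at h3
  rw [← relIndex_ker, inf_comm, H4.card_inf_mul_relIndex]
  exact (Nat.eq_of_mul_eq_mul_right (Nat.mul_pos Nat.card_pos
    (Nat.pos_of_ne_zero index_ne_zero_of_finite)) h3).symm

theorem camina {π : G →* H24.SL25} (hs : Function.Surjective π)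
    (h : ∀ a b, π a ≠ 1 → π a = π b → IsConj a b) {n : G} (hn : n ∈ π.ker) (h1 : n ≠ 1) :
    centralizer {n} = π.ker := by
  have c1 : ∀ x : H24.SL25, Nat.card (centralizer ({x} : Set H24.SL25)) =
      (Finset.univ.filter fun y => y * x = x * y).card := fun x => by
    rw [← Fintype.card_subtype, ← Nat.card_eq_fintype_card]
    exact Nat.card_congr (Equiv.subtypeEquivRight fun y => mem_centralizer_singleton_iff)
  have c2 : ∀ g, π g ^ 2 ≠ 1 → ∃ b, ¬ b ∣ 2 ∧ Nat.card (π.ker ⊓ centralizer {g} :) * b =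
      (Finset.univ.filter fun y => y * π g = π g * y).card := fun g e =>
    ⟨_, fun e' => e (orderOf_dvd_iff_pow_eq_one.1 ((orderOf_dvd_natCard _ (mem_map_of_mem π
      (mem_centralizer_singleton_iff.2 rfl))).trans e')),
      (camina_card hs fun b => h g b (by rintro e'; simp [e'] at e)).trans (c1 _)⟩
  have c3 : (-1 : H24.SL25) ≠ 1 := by decide
  obtain ⟨x, e1, e2⟩ := sl_cent.2
  obtain ⟨t, rfl⟩ := hs x
  obtain ⟨b, e3, e4⟩ := c2 t (e1 ▸ c3)
  have e5 : π.ker ⊓ centralizer {t} = ⊥ := card_eq_one.1 (by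
    have := Dvd.intro_left _ (e4.trans e2)
    have := Nat.le_of_dvd (by norm_num) this
    interval_cases b <;> omega)
  have e6 : (t ^ 2) ^ 2 = 1 := mem_bot.1 (e5 ▸ ⟨by simp [MonoidHom.mem_ker, e1],
    pow_mem (pow_mem (mem_centralizer_singleton_iff.2 rfl) _) _⟩)
  have e7 := H1.card_modEq_card_inf_centralizer (L := π.ker) (Q := zpowers t) (q := 2) (by
    rintro ⟨_, k, rfl⟩
    exact ⟨2, Subtype.ext (show (t ^ k) ^ (2 * 2) = 1 by
      rw [← zpow_natCast, ← zpow_mul, mul_comm, zpow_mul, zpow_natCast, pow_mul, e6, one_zpow])⟩) le_normalizer_of_normal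
  rw [H4.centralizer_zpowers, e5, card_bot] at e7
  have e8 : ∀ g, π g = -1 → g * g = 1 := fun g e => by
    obtain ⟨c, rfl⟩ := isConj_iff.1 (h (t ^ 2) g (by rwa [map_pow, e1]) (by rw [map_pow, e1, e]))
    rw [← pow_two, conj_pow, e6]; simp
  have e9 : ∀ g, π g = -1 → ∀ m ∈ π.ker, g * m * g = m⁻¹ := fun g e m hm =>
    eq_inv_of_mul_eq_one_left (by
      rw [mul_assoc]; exact e8 _ (by rw [map_mul, show π m = 1 from hm, mul_one, e]))
  have e10 : π (t ^ 2) = -1 := (map_pow π t 2).trans e1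
  refine le_antisymm (fun g hg => ?_) fun m hm => mem_centralizer_singleton_iff.2 (inv_injective ?_)
  · rcases sl_cent.1 (π g) with e | e | ⟨e, e'⟩
    · exact e
    · have a := e9 g e n hn
      rw [mem_centralizer_singleton_iff.1 hg, mul_assoc, e8 g e, mul_one, eq_inv_iff_mul_eq_one,
        ← pow_two] at a
      have := (orderOf_eq_prime a h1).symm.dvd.trans (orderOf_dvd_natCard _ hn)
      unfold Nat.ModEq at e7
      omega
    obtain ⟨b, a1, a2⟩ := c2 g e
    have a3 := card_dvd_of_le (inf_le_left : π.ker ⊓ centralizer {g} ≤ _)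
    have a4 := (one_lt_card_iff_ne_bot (π.ker ⊓ centralizer {g})).2 fun a => h1 (mem_bot.1
      (a ▸ ⟨hn, mem_centralizer_singleton_iff.2 (mem_centralizer_singleton_iff.1 hg).symm⟩))
    rw [← a2] at e'
    generalize Nat.card (π.ker ⊓ centralizer {g} :) = c at *
    have a5 : ¬ 2 ∣ c := fun a => by have := a.trans a3; unfold Nat.ModEq at e7; omega
    simp only [Finset.mem_insert, Finset.mem_singleton] at e'
    have := Nat.mul_le_mul_left c (show 3 ≤ b by rcases b with _ | _ | _ | b <;> omega)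
    obtain rfl : c = 3 := by omega
    have : b ≠ 2 := by rintro rfl; exact a1 dvd_rfl
    omega
  · rw [← e9 _ e10 _ (mul_mem hm hn), mul_inv_rev, ← e9 _ e10 _ hm, ← e9 _ e10 _ hn]
    simp only [mul_assoc]
    rw [← mul_assoc (t ^ 2) (t ^ 2), e8 _ e10, one_mul]

end H5.TP
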